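import Cfsg.Agent.Lib.Helper3.Cover.Basic
import Cfsg.Agent.Lib.Helper28.TC2Tower
set_option autoImplicit false
set_option maxRecDepth 100000

/-!
# Covering presentations for the Hall–Janko group: a tower `A₅ < 2^{1+4}:A₅ < J₂`

Generators `a, …, e` are the Coxeter-type generators of helper28's presentation of `J₂`; `t` and `v` are further
generators (words in them) such that `⟨c, d, e, t, v⟩` is the centraliser `2^{1+4}:A₅` of `a` and `⟨d, v⟩ ≅ A₅`.
-/

namespace Cfsg.Agent.Lib.Helper4.J2M

open Cfsg.Agent.Lib.Helper3.Cover Cfsg.Agent.Lib.Helper28.TC2Tower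

/-- the generators of level A -/
inductive GA
  | d
  | v
  deriving DecidableEq

instance : Fintype GA := ⟨⟨(([GA.d, GA.v] : List GA) : Multiset GA), by decide⟩, by intro x; cases x <;> decide⟩

/-- the generators of level H -/
inductive GH
  | c
  | d
  | e
  | t
  | v
  deriving DecidableEq

instance : Fintype GH := ⟨⟨(([GH.c, GH.d, GH.e, GH.t, GH.v] : List GH) : Multiset GH), by decide⟩, by intro x; cases x <;> decide⟩

/-- the generators of level J -/
inductive GJ
  | a
  | b
  | c
  | d
  | e
  | t
  | v
  deriving DecidableEq

instance : Fintype GJ := ⟨⟨(([GJ.a, GJ.b, GJ.c, GJ.d, GJ.e, GJ.t, GJ.v] : List GJ) : Multiset GJ), by decide⟩, by intro x; cases x <;> decide⟩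

/-- generators of level A as generators of level H -/
def upAH : GA → GH
  | .d => .d
  | .v => .v

/-- generators of level H as generators of level J -/
def upHJ : GH → GJ
  | .c => .c
  | .d => .d
  | .e => .e
  | .t => .t
  | .v => .v

namespace LvA

/-- relator `d2` -/
def r_d2 : List (GA × Bool) := [(.d, true), (.d, true)]
/-- relator `v3` -/
def r_v3 : List (GA × Bool) := [(.v, true), (.v, true), (.v, true)]
/-- relator `dv5` -/
def r_dv5 : List (GA × Bool) := [(.d, true), (.v, true), (.d, true), (.v, true), (.d, true), (.v, true), (.d, true), (.v, true), (.d, true), (.v, true)]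

/-- the relators -/
def R : List (List (GA × Bool)) := [r_d2, r_v3, r_dv5]

theorem hR : ∀ L ∈ R, PresentedGroup.mk (relSet R) (FreeGroup.mk L) = 1 :=
  fun L hL => PresentedGroup.one_of_mem ⟨L, hL, rfl⟩

/-- the normalising word of `d` -/
def nrm_d : List (GA × Bool) := combWord [(r_dv5, 3), (r_d2, -7), (r_v3, -5)]
/-- the normalising word of `v` -/
def nrm_v : List (GA × Bool) := combWord [(r_dv5, 2), (r_d2, -5), (r_v3, -3)]

theorem hn_d : PresentedGroup.mk (relSet R) (FreeGroup.mk nrm_d) = 1 :=
  map_combWord_eq_one _ _ (by
    intro p hp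
    simp only [List.mem_cons, List.not_mem_nil, or_false] at hp
    rcases hp with rfl | rfl | rfl
    · exact hR _ (by decide)
    · exact hR _ (by decide)
    · exact hR _ (by decide))

theorem hn_v : PresentedGroup.mk (relSet R) (FreeGroup.mk nrm_v) = 1 :=
  map_combWord_eq_one _ _ (by
    intro p hp
    simp only [List.mem_cons, List.not_mem_nil, or_false] at hp
    rcases hp with rfl | rfl | rfl
    · exact hR _ (by decide)
    · exact hR _ (by decide)
    · exact hR _ (by decide))

/-- the normalising words -/
def nrm : GA → List (GA × Bool)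
  | .d => nrm_d
  | .v => nrm_v

/-- the covering presentation -/
def cover : CoverData GA where
  R := R
  gens := [.d, .v]
  nrm := nrm
  norms := [nrm_d, nrm_v]
  hgens := by intro x; cases x <;> decide
  hnorms := by intro x; cases x <;> simp [nrm]
  hnorms' := by
    intro L hL
    simp only [List.mem_cons, List.not_mem_nil, or_false] at hL
    rcases hL with rfl | rfl
    · exact ⟨.d, rfl⟩
    · exact ⟨.v, rfl⟩
  hnrm := by
    intro x
    cases x
    · exact hn_d
    · exact hn_v
  hexp := by intro x y; cases x <;> cases y <;> decide +kernel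

/-- the relators of the covering group in list form -/
abbrev relWords : List (List (GA × Bool)) := coverWords cover.R cover.gens cover.norms

end LvA

namespace LvH

/-- relator `d2` -/
def r_d2 : List (GH × Bool) := [(.d, true), (.d, true)]
/-- relator `v3` -/
def r_v3 : List (GH × Bool) := [(.v, true), (.v, true), (.v, true)]
/-- relator `dv5` -/
def r_dv5 : List (GH × Bool) := [(.d, true), (.v, true), (.d, true), (.v, true), (.d, true), (.v, true), (.d, true), (.v, true), (.d, true), (.v, true)]
/-- relator `c2` -/
def r_c2 : List (GH × Bool) := [(.c, true), (.c, true)]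
/-- relator `e2` -/
def r_e2 : List (GH × Bool) := [(.e, true), (.e, true)]
/-- relator `cd` -/
def r_cd : List (GH × Bool) := [(.c, true), (.d, true), (.c, true), (.d, true), (.c, true), (.d, true), (.c, true), (.d, true), (.c, true), (.d, true), (.c, true), (.d, true), (.c, true), (.d, true), (.c, true), (.d, true)]
/-- relator `de` -/
def r_de : List (GH × Bool) := [(.d, true), (.e, true), (.d, true), (.e, true), (.d, true), (.e, true)]
/-- relator `ce` -/
def r_ce : List (GH × Bool) := [(.c, true), (.e, true), (.c, true), (.e, true)]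
/-- relator `t1` -/
def r_t1 : List (GH × Bool) := [(.d, false), (.t, false), (.d, false), (.t, false)]
/-- relator `t2` -/
def r_t2 : List (GH × Bool) := [(.c, false), (.d, false), (.c, false), (.d, false), (.t, true), (.t, true), (.t, true)]
/-- relator `t3` -/
def r_t3 : List (GH × Bool) := [(.c, false), (.e, false), (.t, false), (.e, false), (.t, true), (.e, true), (.t, false), (.e, true), (.t, true)]
/-- relator `t4` -/
def r_t4 : List (GH × Bool) := [(.c, false), (.e, false), (.t, false), (.c, false), (.t, false), (.e, false), (.t, false), (.t, false), (.e, true), (.t, false), (.t, false)]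
/-- relator `vdef` -/
def r_vdef : List (GH × Bool) := [(.v, false), (.c, true), (.t, true), (.c, true), (.t, true), (.e, true)]

/-- the relators -/
def R : List (List (GH × Bool)) := [r_d2, r_v3, r_dv5, r_c2, r_e2, r_cd, r_de, r_ce, r_t1, r_t2, r_t3, r_t4, r_vdef]

theorem hR : ∀ L ∈ R, PresentedGroup.mk (relSet R) (FreeGroup.mk L) = 1 :=
  fun L hL => PresentedGroup.one_of_mem ⟨L, hL, rfl⟩

/-- the normalising word of `d` -/
def nrm_d : List (GH × Bool) := combWord [(r_dv5, 3), (r_d2, -7), (r_v3, -5)]
/-- the normalising word of `v` -/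
def nrm_v : List (GH × Bool) := combWord [(r_dv5, 2), (r_d2, -5), (r_v3, -3)]
/-- the normalising word of `c` -/
def nrm_c : List (GH × Bool) := combWord [(r_t3, -1)]
/-- the normalising word of `t` -/
def nrm_t : List (GH × Bool) := combWord [(r_t1, 1), (r_t2, 1), (r_c2, 1), (r_d2, 2)]
/-- the normalising word of `e` -/
def nrm_e : List (GH × Bool) := combWord [(r_vdef, 1), (nrm_v, 1), (r_c2, -1), (r_t1, 1), (r_d2, 1)]

theorem hn_d : PresentedGroup.mk (relSet R) (FreeGroup.mk nrm_d) = 1 :=
  map_combWord_eq_one _ _ (by
    intro p hp
    simp only [List.mem_cons, List.not_mem_nil, or_false] at hp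
    rcases hp with rfl | rfl | rfl
    · exact hR _ (by decide)
    · exact hR _ (by decide)
    · exact hR _ (by decide))

theorem hn_v : PresentedGroup.mk (relSet R) (FreeGroup.mk nrm_v) = 1 :=
  map_combWord_eq_one _ _ (by
    intro p hp
    simp only [List.mem_cons, List.not_mem_nil, or_false] at hp
    rcases hp with rfl | rfl | rfl
    · exact hR _ (by decide)
    · exact hR _ (by decide)
    · exact hR _ (by decide))

theorem hn_c : PresentedGroup.mk (relSet R) (FreeGroup.mk nrm_c) = 1 :=
  map_combWord_eq_one _ _ (by
    intro p hp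
    simp only [List.mem_cons, List.not_mem_nil, or_false] at hp
    subst hp
    exact hR _ (by decide))

theorem hn_t : PresentedGroup.mk (relSet R) (FreeGroup.mk nrm_t) = 1 :=
  map_combWord_eq_one _ _ (by
    intro p hp
    simp only [List.mem_cons, List.not_mem_nil, or_false] at hp
    rcases hp with rfl | rfl | rfl | rfl
    · exact hR _ (by decide)
    · exact hR _ (by decide)
    · exact hR _ (by decide)
    · exact hR _ (by decide))

theorem hn_e : PresentedGroup.mk (relSet R) (FreeGroup.mk nrm_e) = 1 :=
  map_combWord_eq_one _ _ (by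
    intro p hp
    simp only [List.mem_cons, List.not_mem_nil, or_false] at hp
    rcases hp with rfl | rfl | rfl | rfl | rfl
    · exact hR _ (by decide)
    · exact hn_v
    · exact hR _ (by decide)
    · exact hR _ (by decide)
    · exact hR _ (by decide))

/-- the normalising words -/
def nrm : GH → List (GH × Bool)
  | .c => nrm_c
  | .d => nrm_d
  | .e => nrm_e
  | .t => nrm_t
  | .v => nrm_v

/-- the covering presentation -/
def cover : CoverData GH where
  R := R
  gens := [.c, .d, .e, .t, .v]
  nrm := nrm
  norms := [nrm_c, nrm_d, nrm_e, nrm_t, nrm_v]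
  hgens := by intro x; cases x <;> decide
  hnorms := by intro x; cases x <;> simp [nrm]
  hnorms' := by
    intro L hL
    simp only [List.mem_cons, List.not_mem_nil, or_false] at hL
    rcases hL with rfl | rfl | rfl | rfl | rfl
    · exact ⟨.c, rfl⟩
    · exact ⟨.d, rfl⟩
    · exact ⟨.e, rfl⟩
    · exact ⟨.t, rfl⟩
    · exact ⟨.v, rfl⟩
  hnrm := by
    intro x
    cases x
    · exact hn_c
    · exact hn_d
    · exact hn_e
    · exact hn_t
    · exact hn_v
  hexp := by intro x y; cases x <;> cases y <;> decide +kernel

/-- the relators of the covering group in list form -/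
abbrev relWords : List (List (GH × Bool)) := coverWords cover.R cover.gens cover.norms

end LvH

namespace LvJ

/-- relator `d2` -/
def r_d2 : List (GJ × Bool) := [(.d, true), (.d, true)]
/-- relator `v3` -/
def r_v3 : List (GJ × Bool) := [(.v, true), (.v, true), (.v, true)]
/-- relator `dv5` -/
def r_dv5 : List (GJ × Bool) := [(.d, true), (.v, true), (.d, true), (.v, true), (.d, true), (.v, true), (.d, true), (.v, true), (.d, true), (.v, true)]
/-- relator `c2` -/
def r_c2 : List (GJ × Bool) := [(.c, true), (.c, true)]
/-- relator `e2` -/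
def r_e2 : List (GJ × Bool) := [(.e, true), (.e, true)]
/-- relator `cd` -/
def r_cd : List (GJ × Bool) := [(.c, true), (.d, true), (.c, true), (.d, true), (.c, true), (.d, true), (.c, true), (.d, true), (.c, true), (.d, true), (.c, true), (.d, true), (.c, true), (.d, true), (.c, true), (.d, true)]
/-- relator `de` -/
def r_de : List (GJ × Bool) := [(.d, true), (.e, true), (.d, true), (.e, true), (.d, true), (.e, true)]
/-- relator `ce` -/
def r_ce : List (GJ × Bool) := [(.c, true), (.e, true), (.c, true), (.e, true)]
/-- relator `t1` -/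
def r_t1 : List (GJ × Bool) := [(.d, false), (.t, false), (.d, false), (.t, false)]
/-- relator `t2` -/
def r_t2 : List (GJ × Bool) := [(.c, false), (.d, false), (.c, false), (.d, false), (.t, true), (.t, true), (.t, true)]
/-- relator `t3` -/
def r_t3 : List (GJ × Bool) := [(.c, false), (.e, false), (.t, false), (.e, false), (.t, true), (.e, true), (.t, false), (.e, true), (.t, true)]
/-- relator `t4` -/
def r_t4 : List (GJ × Bool) := [(.c, false), (.e, false), (.t, false), (.c, false), (.t, false), (.e, false), (.t, false), (.t, false), (.e, true), (.t, false), (.t, false)]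
/-- relator `vdef` -/
def r_vdef : List (GJ × Bool) := [(.v, false), (.c, true), (.t, true), (.c, true), (.t, true), (.e, true)]
/-- relator `a2` -/
def r_a2 : List (GJ × Bool) := [(.a, true), (.a, true)]
/-- relator `b2` -/
def r_b2 : List (GJ × Bool) := [(.b, true), (.b, true)]
/-- relator `ab` -/
def r_ab : List (GJ × Bool) := [(.a, true), (.b, true), (.a, true), (.b, true), (.a, true), (.b, true), (.a, true), (.b, true), (.a, true), (.b, true)]
/-- relator `bc` -/
def r_bc : List (GJ × Bool) := [(.b, true), (.c, true), (.b, true), (.c, true), (.b, true), (.c, true)]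
/-- relator `ac` -/
def r_ac : List (GJ × Bool) := [(.a, true), (.c, true), (.a, true), (.c, true)]
/-- relator `ad` -/
def r_ad : List (GJ × Bool) := [(.a, true), (.d, true), (.a, true), (.d, true)]
/-- relator `ae` -/
def r_ae : List (GJ × Bool) := [(.a, true), (.e, true), (.a, true), (.e, true)]
/-- relator `bd` -/
def r_bd : List (GJ × Bool) := [(.b, true), (.d, true), (.b, true), (.d, true)]
/-- relator `be` -/
def r_be : List (GJ × Bool) := [(.b, true), (.e, true), (.b, true), (.e, true)]
/-- relator `adef` -/
def r_adef : List (GJ × Bool) := [(.a, true), (.d, false), (.c, false), (.d, false), (.c, false), (.d, false), (.c, false), (.d, false), (.c, false)]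
/-- relator `long` -/
def r_long : List (GJ × Bool) := [(.b, true), (.c, true), (.d, true), (.c, true), (.d, true), (.b, true), (.c, true), (.d, true), (.c, true), (.d, true), (.b, true), (.c, true), (.d, true), (.c, true), (.d, true), (.b, true), (.c, true), (.d, true), (.c, true), (.d, true), (.b, true), (.c, true), (.d, true), (.c, true), (.d, true), (.e, true), (.b, true), (.c, true), (.d, true), (.c, true), (.d, true), (.b, true), (.c, true), (.d, true), (.c, true), (.d, true), (.b, true), (.c, true), (.d, true), (.c, true), (.d, true), (.b, true), (.c, true), (.d, true), (.c, true), (.d, true), (.b, true), (.c, true), (.d, true), (.c, true), (.d, true), (.e, true), (.b, true), (.c, true), (.d, true), (.c, true), (.d, true), (.b, true), (.c, true), (.d, true), (.c, true), (.d, true), (.b, true), (.c, true), (.d, true), (.c, true), (.d, true), (.b, true), (.c, true), (.d, true), (.c, true), (.d, true), (.b, true), (.c, true), (.d, true), (.c, true), (.d, true), (.e, true)]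
/-- relator `tdef` -/
def r_tdef : List (GJ × Bool) := [(.t, false), (.b, true), (.a, true), (.b, true), (.a, true), (.c, true), (.b, true), (.d, true), (.c, true), (.d, true), (.b, true), (.a, true), (.b, true), (.c, true), (.a, true), (.b, true)]

/-- the relators -/
def R : List (List (GJ × Bool)) := [r_d2, r_v3, r_dv5, r_c2, r_e2, r_cd, r_de, r_ce, r_t1, r_t2, r_t3, r_t4, r_vdef, r_a2, r_b2, r_ab, r_bc, r_ac, r_ad, r_ae, r_bd, r_be, r_adef, r_long, r_tdef]

theorem hR : ∀ L ∈ R, PresentedGroup.mk (relSet R) (FreeGroup.mk L) = 1 :=
  fun L hL => PresentedGroup.one_of_mem ⟨L, hL, rfl⟩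

/-- the normalising word of `d` -/
def nrm_d : List (GJ × Bool) := combWord [(r_dv5, 3), (r_d2, -7), (r_v3, -5)]
/-- the normalising word of `v` -/
def nrm_v : List (GJ × Bool) := combWord [(r_dv5, 2), (r_d2, -5), (r_v3, -3)]
/-- the normalising word of `c` -/
def nrm_c : List (GJ × Bool) := combWord [(r_t3, -1)]
/-- the normalising word of `t` -/
def nrm_t : List (GJ × Bool) := combWord [(r_t1, 1), (r_t2, 1), (r_c2, 1), (r_d2, 2)]
/-- the normalising word of `e` -/
def nrm_e : List (GJ × Bool) := combWord [(r_vdef, 1), (nrm_v, 1), (r_c2, -1), (r_t1, 1), (r_d2, 1)]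
/-- the normalising word of `a` -/
def nrm_a : List (GJ × Bool) := combWord [(r_adef, 1), (r_c2, 2), (r_d2, 2)]
/-- the normalising word of `b` -/
def nrm_b : List (GJ × Bool) := combWord [(r_bc, 1), (r_b2, -1), (r_c2, -1), (nrm_c, -1)]

theorem hn_d : PresentedGroup.mk (relSet R) (FreeGroup.mk nrm_d) = 1 :=
  map_combWord_eq_one _ _ (by
    intro p hp
    simp only [List.mem_cons, List.not_mem_nil, or_false] at hp
    rcases hp with rfl | rfl | rfl
    · exact hR _ (by decide)
    · exact hR _ (by decide)
    · exact hR _ (by decide))

theorem hn_v : PresentedGroup.mk (relSet R) (FreeGroup.mk nrm_v) = 1 :=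
  map_combWord_eq_one _ _ (by
    intro p hp
    simp only [List.mem_cons, List.not_mem_nil, or_false] at hp
    rcases hp with rfl | rfl | rfl
    · exact hR _ (by decide)
    · exact hR _ (by decide)
    · exact hR _ (by decide))

theorem hn_c : PresentedGroup.mk (relSet R) (FreeGroup.mk nrm_c) = 1 :=
  map_combWord_eq_one _ _ (by
    intro p hp
    simp only [List.mem_cons, List.not_mem_nil, or_false] at hp
    subst hp
    exact hR _ (by decide))

theorem hn_t : PresentedGroup.mk (relSet R) (FreeGroup.mk nrm_t) = 1 :=
  map_combWord_eq_one _ _ (by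
    intro p hp
    simp only [List.mem_cons, List.not_mem_nil, or_false] at hp
    rcases hp with rfl | rfl | rfl | rfl
    · exact hR _ (by decide)
    · exact hR _ (by decide)
    · exact hR _ (by decide)
    · exact hR _ (by decide))

theorem hn_e : PresentedGroup.mk (relSet R) (FreeGroup.mk nrm_e) = 1 :=
  map_combWord_eq_one _ _ (by
    intro p hp
    simp only [List.mem_cons, List.not_mem_nil, or_false] at hp
    rcases hp with rfl | rfl | rfl | rfl | rfl
    · exact hR _ (by decide)
    · exact hn_v
    · exact hR _ (by decide)
    · exact hR _ (by decide)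
    · exact hR _ (by decide))

theorem hn_a : PresentedGroup.mk (relSet R) (FreeGroup.mk nrm_a) = 1 :=
  map_combWord_eq_one _ _ (by
    intro p hp
    simp only [List.mem_cons, List.not_mem_nil, or_false] at hp
    rcases hp with rfl | rfl | rfl
    · exact hR _ (by decide)
    · exact hR _ (by decide)
    · exact hR _ (by decide))

theorem hn_b : PresentedGroup.mk (relSet R) (FreeGroup.mk nrm_b) = 1 :=
  map_combWord_eq_one _ _ (by
    intro p hp
    simp only [List.mem_cons, List.not_mem_nil, or_false] at hp
    rcases hp with rfl | rfl | rfl | rfl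
    · exact hR _ (by decide)
    · exact hR _ (by decide)
    · exact hR _ (by decide)
    · exact hn_c)

/-- the normalising words -/
def nrm : GJ → List (GJ × Bool)
  | .a => nrm_a
  | .b => nrm_b
  | .c => nrm_c
  | .d => nrm_d
  | .e => nrm_e
  | .t => nrm_t
  | .v => nrm_v

/-- the covering presentation -/
def cover : CoverData GJ where
  R := R
  gens := [.a, .b, .c, .d, .e, .t, .v]
  nrm := nrm
  norms := [nrm_a, nrm_b, nrm_c, nrm_d, nrm_e, nrm_t, nrm_v]
  hgens := by intro x; cases x <;> decide
  hnorms := by intro x; cases x <;> simp [nrm]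
  hnorms' := by
    intro L hL
    simp only [List.mem_cons, List.not_mem_nil, or_false] at hL
    rcases hL with rfl | rfl | rfl | rfl | rfl | rfl | rfl
    · exact ⟨.a, rfl⟩
    · exact ⟨.b, rfl⟩
    · exact ⟨.c, rfl⟩
    · exact ⟨.d, rfl⟩
    · exact ⟨.e, rfl⟩
    · exact ⟨.t, rfl⟩
    · exact ⟨.v, rfl⟩
  hnrm := by
    intro x
    cases x
    · exact hn_a
    · exact hn_b
    · exact hn_c
    · exact hn_d
    · exact hn_e
    · exact hn_t
    · exact hn_v
  hexp := by intro x y; cases x <;> cases y <;> decide +kernel

/-- the relators of the covering group in list form -/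
abbrev relWords : List (List (GJ × Bool)) := coverWords cover.R cover.gens cover.norms

end LvJ

theorem upE_AH : ∀ L ∈ LvA.relWords, upWord upAH L ∈ LvH.relWords := by decide +kernel
theorem upE_HJ : ∀ L ∈ LvH.relWords, upWord upHJ L ∈ LvJ.relWords := by decide +kernel

end Cfsg.Agent.Lib.Helper4.J2M
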