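import Cfsg.Agent.Lib.Helper28.TC2Upper
import Cfsg.Agent.Lib.Helper4.J2M.EHDataC0
import Cfsg.Agent.Lib.Helper4.J2M.EHDataC1
set_option autoImplicit false
set_option maxRecDepth 100000

namespace Cfsg.Agent.Lib.Helper4.J2M.EHData
open Cfsg.Agent.Lib.Helper28.TC2Upper

/-- relators -/
def relT : BT (ℕ × List ℕ × List ℕ) := (BT.node 34 (BT.node 17 (BT.node 8 (BT.node 4 (BT.node 2 (BT.node 1 (BT.node 0 (BT.leaf (6, [1, 3, 3, 0, 2, 2], [3, 3, 1, 2, 2, 0])) (BT.leaf (6, [3, 3, 3, 2, 2, 2], [3, 3, 3, 2, 2, 2]))) (BT.leaf (6, [5, 3, 3, 4, 2, 2], [3, 3, 5, 2, 2, 4]))) (BT.node 3 (BT.leaf (6, [7, 3, 3, 6, 2, 2], [3, 3, 7, 2, 2, 6])) (BT.leaf (6, [9, 3, 3, 8, 2, 2], [3, 3, 9, 2, 2, 8])))) (BT.node 6 (BT.node 5 (BT.leaf (8, [1, 9, 9, 9, 0, 8, 8, 8], [9, 9, 9, 1, 8, 8, 8, 0])) (BT.leaf (8, [3, 9, 9, 9, 2, 8, 8, 8], [9, 9, 9, 3, 8, 8, 8, 2])))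 (BT.node 7 (BT.leaf (8, [5, 9, 9, 9, 4, 8, 8, 8], [9, 9, 9, 5, 8, 8, 8, 4])) (BT.leaf (8, [7, 9, 9, 9, 6, 8, 8, 8], [9, 9, 9, 7, 8, 8, 8, 6]))))) (BT.node 13 (BT.node 11 (BT.node 10 (BT.node 9 (BT.leaf (8, [9, 9, 9, 9, 8, 8, 8, 8], [9, 9, 9, 9, 8, 8, 8, 8])) (BT.leaf (22, [1, 3, 9, 3, 9, 3, 9, 3, 9, 3, 9, 0, 8, 2, 8, 2, 8, 2, 8, 2, 8, 2], [3, 9, 3, 9, 3, 9, 3, 9, 3, 9, 1, 8, 2, 8, 2, 8, 2, 8, 2, 8, 2, 0]))) (BT.leaf (22, [3, 3, 9, 3, 9, 3, 9, 3, 9, 3, 9, 2, 8, 2, 8, 2, 8, 2, 8, 2, 8, 2], [3, 9, 3, 9, 3, 9, 3, 9, 3, 9, 3, 8, 2, 8, 2, 8, 2, 8, 2, 8, 2, 2]))) (BT.node 12 (BT.leaf (22, [5, 3, 9, 3, 9, 3, 9, 3, 9, 3, 9, 4, 8, 2, 8, 2, 8, 2, 8, 2, 8, 2], [3, 9, 3, 9, 3, 9, 3, 9, 3, 9, 5, 8, 2, 8, 2, 8, 2, 8, 2, 8, 2, 4])) (BT.leaf (22, [7, 3, 9, 3, 9, 3, 9, 3, 9, 3, 9, 6, 8, 2, 8, 2, 8, 2, 8, 2, 8, 2], [3, 9, 3, 9, 3, 9, 3, 9, 3, 9,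 7, 8, 2, 8, 2, 8, 2, 8, 2, 8, 2, 6])))) (BT.node 15 (BT.node 14 (BT.leaf (22, [9, 3, 9, 3, 9, 3, 9, 3, 9, 3, 9, 8, 8, 2, 8, 2, 8, 2, 8, 2, 8, 2], [3, 9, 3, 9, 3, 9, 3, 9, 3, 9, 9, 8, 2, 8, 2, 8, 2, 8, 2, 8, 2, 8])) (BT.leaf (6, [1, 1, 1, 0, 0, 0], [1, 1, 1, 0, 0, 0]))) (BT.node 16 (BT.leaf (6, [3, 1, 1, 2, 0, 0], [1, 1, 3, 0, 0, 2])) (BT.leaf (6, [5, 1, 1, 4, 0, 0], [1, 1, 5, 0, 0, 4])))))) (BT.node 26 (BT.node 22 (BT.node 20 (BT.node 19 (BT.node 18 (BT.leaf (6, [7, 1, 1, 6, 0, 0], [1, 1, 7, 0, 0, 6])) (BT.leaf (6, [9, 1, 1, 8, 0, 0], [1, 1, 9, 0, 0, 8]))) (BT.leaf (6, [1, 5, 5, 0, 4, 4], [5, 5, 1, 4, 4, 0]))) (BT.node 21 (BT.leaf (6, [3, 5, 5, 2, 4, 4], [5, 5, 3, 4, 4, 2])) (BT.leaf (6, [5, 5, 5, 4, 4, 4], [5, 5, 5, 4, 4, 4])))) (BT.node 24 (BT.node 23 (BT.leaf (6, [7, 5, 5, 6, 4, 4], [5, 5, 7, 4, 4, 6])) (BT.leaf (6, [9, 5,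 5, 8, 4, 4], [5, 5, 9, 4, 4, 8]))) (BT.node 25 (BT.leaf (34, [1, 1, 3, 1, 3, 1, 3, 1, 3, 1, 3, 1, 3, 1, 3, 1, 3, 0, 2, 0, 2, 0, 2, 0, 2, 0, 2, 0, 2, 0, 2, 0, 2, 0], [1, 3, 1, 3, 1, 3, 1, 3, 1, 3, 1, 3, 1, 3, 1, 3, 1, 2, 0, 2, 0, 2, 0, 2, 0, 2, 0, 2, 0, 2, 0, 2, 0, 0])) (BT.leaf (34, [3, 1, 3, 1, 3, 1, 3, 1, 3, 1, 3, 1, 3, 1, 3, 1, 3, 2, 2, 0, 2, 0, 2, 0, 2, 0, 2, 0, 2, 0, 2, 0, 2, 0], [1, 3, 1, 3, 1, 3, 1, 3, 1, 3, 1, 3, 1, 3, 1, 3, 3, 2, 0, 2, 0, 2, 0, 2, 0, 2, 0, 2, 0, 2, 0, 2, 0, 2]))))) (BT.node 30 (BT.node 28 (BT.node 27 (BT.leaf (34, [5, 1, 3, 1, 3, 1, 3, 1, 3, 1, 3, 1, 3, 1, 3, 1, 3, 4, 2, 0, 2, 0, 2, 0, 2, 0, 2, 0, 2, 0, 2, 0, 2, 0], [1, 3, 1, 3, 1, 3, 1, 3, 1, 3, 1, 3, 1, 3, 1, 3, 5, 2, 0, 2, 0, 2, 0, 2, 0, 2, 0, 2, 0, 2, 0, 2, 0, 4])) (BT.leaf (34, [7, 1, 3, 1, 3, 1, 3, 1, 3, 1, 3, 1, 3, 1, 3, 1, 3, 6, 2, 0, 2, 0, 2,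 0, 2, 0, 2, 0, 2, 0, 2, 0, 2, 0], [1, 3, 1, 3, 1, 3, 1, 3, 1, 3, 1, 3, 1, 3, 1, 3, 7, 2, 0, 2, 0, 2, 0, 2, 0, 2, 0, 2, 0, 2, 0, 2, 0, 6]))) (BT.node 29 (BT.leaf (34, [9, 1, 3, 1, 3, 1, 3, 1, 3, 1, 3, 1, 3, 1, 3, 1, 3, 8, 2, 0, 2, 0, 2, 0, 2, 0, 2, 0, 2, 0, 2, 0, 2, 0], [1, 3, 1, 3, 1, 3, 1, 3, 1, 3, 1, 3, 1, 3, 1, 3, 9, 2, 0, 2, 0, 2, 0, 2, 0, 2, 0, 2, 0, 2, 0, 2, 0, 8])) (BT.leaf (14, [1, 3, 5, 3, 5, 3, 5, 0, 4, 2, 4, 2, 4, 2], [3, 5, 3, 5, 3, 5, 1, 4, 2, 4, 2, 4, 2, 0])))) (BT.node 32 (BT.node 31 (BT.leaf (14, [3, 3, 5, 3, 5, 3, 5, 2, 4, 2, 4, 2, 4, 2], [3, 5, 3, 5, 3, 5, 3, 4, 2, 4, 2, 4, 2, 2])) (BT.leaf (14, [5, 3, 5, 3, 5, 3, 5, 4, 4, 2, 4, 2, 4, 2], [3, 5, 3, 5, 3, 5, 5, 4, 2, 4, 2, 4, 2, 4]))) (BT.node 33 (BT.leaf (14, [7, 3, 5, 3, 5, 3, 5, 6, 4, 2, 4, 2, 4, 2], [3, 5, 3, 5, 3, 5, 7, 4, 2, 4, 2, 4, 2, 6])) (BT.leaf (14,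 [9, 3, 5, 3, 5, 3, 5, 8, 4, 2, 4, 2, 4, 2], [3, 5, 3, 5, 3, 5, 9, 4, 2, 4, 2, 4, 2, 8]))))))) (BT.node 52 (BT.node 43 (BT.node 39 (BT.node 37 (BT.node 36 (BT.node 35 (BT.leaf (10, [1, 1, 5, 1, 5, 0, 4, 0, 4, 0], [1, 5, 1, 5, 1, 4, 0, 4, 0, 0])) (BT.leaf (10, [3, 1, 5, 1, 5, 2, 4, 0, 4, 0], [1, 5, 1, 5, 3, 4, 0, 4, 0, 2]))) (BT.leaf (10, [5, 1, 5, 1, 5, 4, 4, 0, 4, 0], [1, 5, 1, 5, 5, 4, 0, 4, 0, 4]))) (BT.node 38 (BT.leaf (10, [7, 1, 5, 1, 5, 6, 4, 0, 4, 0], [1, 5, 1, 5, 7, 4, 0, 4, 0, 6])) (BT.leaf (10, [9, 1, 5, 1, 5, 8, 4, 0, 4, 0], [1, 5, 1, 5, 9, 4, 0, 4, 0, 8])))) (BT.node 41 (BT.node 40 (BT.leaf (10, [1, 2, 6, 2, 6, 0, 7, 3, 7, 3], [2, 6, 2, 6, 1, 7, 3, 7, 3, 0])) (BT.leaf (10, [3, 2, 6, 2, 6, 2, 7, 3, 7, 3], [2, 6, 2, 6, 3, 7, 3, 7, 3, 2]))) (BT.node 42 (BT.leaf (10, [5, 2, 6, 2, 6, 4, 7, 3, 7, 3], [2, 6, 2, 6, 5, 7, 3,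 7, 3, 4])) (BT.leaf (10, [7, 2, 6, 2, 6, 6, 7, 3, 7, 3], [2, 6, 2, 6, 7, 7, 3, 7, 3, 6]))))) (BT.node 48 (BT.node 46 (BT.node 45 (BT.node 44 (BT.leaf (10, [9, 2, 6, 2, 6, 8, 7, 3, 7, 3], [2, 6, 2, 6, 9, 7, 3, 7, 3, 8])) (BT.leaf (16, [1, 0, 2, 0, 2, 7, 7, 7, 0, 6, 6, 6, 3, 1, 3, 1], [0, 2, 0, 2, 7, 7, 7, 1, 6, 6, 6, 3, 1, 3, 1, 0]))) (BT.leaf (16, [3, 0, 2, 0, 2, 7, 7, 7, 2, 6, 6, 6, 3, 1, 3, 1], [0, 2, 0, 2, 7, 7, 7, 3, 6, 6, 6, 3, 1, 3, 1, 2]))) (BT.node 47 (BT.leaf (16, [5, 0, 2, 0, 2, 7, 7, 7, 4, 6, 6, 6, 3, 1, 3, 1], [0, 2, 0, 2, 7, 7, 7, 5, 6, 6, 6, 3, 1, 3, 1, 4])) (BT.leaf (16, [7, 0, 2, 0, 2, 7, 7, 7, 6, 6, 6, 6, 3, 1, 3, 1], [0, 2, 0, 2, 7, 7, 7, 7, 6, 6, 6, 3, 1, 3, 1, 6])))) (BT.node 50 (BT.node 49 (BT.leaf (16, [9, 0, 2, 0, 2, 7, 7, 7, 8, 6, 6, 6, 3, 1, 3, 1], [0, 2, 0, 2, 7, 7, 7, 9, 6, 6, 6, 3, 1, 3, 1, 8])) (BT.leaf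 (20, [1, 0, 4, 6, 4, 7, 5, 6, 5, 7, 0, 6, 4, 7, 4, 6, 5, 7, 5, 1], [0, 4, 6, 4, 7, 5, 6, 5, 7, 1, 6, 4, 7, 4, 6, 5, 7, 5, 1, 0]))) (BT.node 51 (BT.leaf (20, [3, 0, 4, 6, 4, 7, 5, 6, 5, 7, 2, 6, 4, 7, 4, 6, 5, 7, 5, 1], [0, 4, 6, 4, 7, 5, 6, 5, 7, 3, 6, 4, 7, 4, 6, 5, 7, 5, 1, 2])) (BT.leaf (20, [5, 0, 4, 6, 4, 7, 5, 6, 5, 7, 4, 6, 4, 7, 4, 6, 5, 7, 5, 1], [0, 4, 6, 4, 7, 5, 6, 5, 7, 5, 6, 4, 7, 4, 6, 5, 7, 5, 1, 4])))))) (BT.node 61 (BT.node 57 (BT.node 55 (BT.node 54 (BT.node 53 (BT.leaf (20, [7, 0, 4, 6, 4, 7, 5, 6, 5, 7, 6, 6, 4, 7, 4, 6, 5, 7, 5, 1], [0, 4, 6, 4, 7, 5, 6, 5, 7, 7, 6, 4, 7, 4, 6, 5, 7, 5, 1, 6])) (BT.leaf (20, [9, 0, 4, 6, 4, 7, 5, 6, 5, 7, 8, 6, 4, 7, 4, 6, 5, 7, 5, 1], [0, 4, 6, 4, 7, 5, 6, 5, 7, 9, 6, 4, 7, 4, 6, 5, 7, 5, 1, 8]))) (BT.leaf (24, [1, 0, 4, 6, 0, 6, 4, 6, 6, 5, 6, 6, 0, 7, 7, 4, 7, 7, 5, 7,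 1, 7, 5, 1], [0, 4, 6, 0, 6, 4, 6, 6, 5, 6, 6, 1, 7, 7, 4, 7, 7, 5, 7, 1, 7, 5, 1, 0]))) (BT.node 56 (BT.leaf (24, [3, 0, 4, 6, 0, 6, 4, 6, 6, 5, 6, 6, 2, 7, 7, 4, 7, 7, 5, 7, 1, 7, 5, 1], [0, 4, 6, 0, 6, 4, 6, 6, 5, 6, 6, 3, 7, 7, 4, 7, 7, 5, 7, 1, 7, 5, 1, 2])) (BT.leaf (24, [5, 0, 4, 6, 0, 6, 4, 6, 6, 5, 6, 6, 4, 7, 7, 4, 7, 7, 5, 7, 1, 7, 5, 1], [0, 4, 6, 0, 6, 4, 6, 6, 5, 6, 6, 5, 7, 7, 4, 7, 7, 5, 7, 1, 7, 5, 1, 4])))) (BT.node 59 (BT.node 58 (BT.leaf (24, [7, 0, 4, 6, 0, 6, 4, 6, 6, 5, 6, 6, 6, 7, 7, 4, 7, 7, 5, 7, 1, 7, 5, 1], [0, 4, 6, 0, 6, 4, 6, 6, 5, 6, 6, 7, 7, 7, 4, 7, 7, 5, 7, 1, 7, 5, 1, 6])) (BT.leaf (24, [9, 0, 4, 6, 0, 6, 4, 6, 6, 5, 6, 6, 8, 7, 7, 4, 7, 7, 5, 7, 1, 7, 5, 1], [0, 4, 6, 0, 6, 4, 6, 6, 5, 6, 6, 9, 7, 7, 4, 7, 7, 5, 7, 1, 7, 5, 1, 8]))) (BT.node 60 (BT.leaf (14, [1, 8, 1, 7, 1, 7, 5, 0, 4, 6, 0,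 6, 0, 9], [8, 1, 7, 1, 7, 5, 1, 4, 6, 0, 6, 0, 9, 0])) (BT.leaf (14, [3, 8, 1, 7, 1, 7, 5, 2, 4, 6, 0, 6, 0, 9], [8, 1, 7, 1, 7, 5, 3, 4, 6, 0, 6, 0, 9, 2]))))) (BT.node 65 (BT.node 63 (BT.node 62 (BT.leaf (14, [5, 8, 1, 7, 1, 7, 5, 4, 4, 6, 0, 6, 0, 9], [8, 1, 7, 1, 7, 5, 5, 4, 6, 0, 6, 0, 9, 4])) (BT.leaf (14, [7, 8, 1, 7, 1, 7, 5, 6, 4, 6, 0, 6, 0, 9], [8, 1, 7, 1, 7, 5, 7, 4, 6, 0, 6, 0, 9, 6]))) (BT.node 64 (BT.leaf (14, [9, 8, 1, 7, 1, 7, 5, 8, 4, 6, 0, 6, 0, 9], [8, 1, 7, 1, 7, 5, 9, 4, 6, 0, 6, 0, 9, 8])) (BT.leaf (9, [0, 4, 6, 4, 7, 5, 6, 5, 7], [6, 4, 7, 4, 6, 5, 7, 5, 1])))) (BT.node 67 (BT.node 66 (BT.leaf (59, [9, 9, 9, 9, 9, 9, 9, 9, 9, 9, 9, 9, 9, 9, 9, 3, 3, 3, 3, 3, 3, 3, 3, 3, 3, 3, 3, 3, 3, 8, 2, 8, 2, 8, 2, 8, 2, 8, 2, 8, 2, 8, 2, 8, 2, 8, 2, 8, 2, 8, 2, 8, 2, 8, 2, 8, 2, 8, 2], [3, 9, 3, 9, 3, 9, 3, 9, 3,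 9, 3, 9, 3, 9, 3, 9, 3, 9, 3, 9, 3, 9, 3, 9, 3, 9, 3, 9, 3, 9, 2, 2, 2, 2, 2, 2, 2, 2, 2, 2, 2, 2, 2, 2, 8, 8, 8, 8, 8, 8, 8, 8, 8, 8, 8, 8, 8, 8, 8])) (BT.leaf (53, [2, 2, 7, 3, 7, 3, 1, 1, 9, 9, 9, 9, 9, 9, 9, 9, 9, 3, 3, 3, 3, 3, 3, 3, 3, 3, 3, 8, 2, 8, 2, 8, 2, 8, 2, 8, 2, 8, 2, 8, 2, 8, 2, 8, 2, 8, 2, 4, 6, 0, 6, 0, 9], [8, 1, 7, 1, 7, 5, 3, 9, 3, 9, 3, 9, 3, 9, 3, 9, 3, 9, 3, 9, 3, 9, 3, 9, 3, 9, 2, 2, 2, 2, 2, 2, 2, 2, 2, 2, 8, 8, 8, 8, 8, 8, 8, 8, 8, 0, 0, 2, 6, 2, 6, 3, 3]))) (BT.node 68 (BT.leaf (17, [2, 2, 2, 2, 0, 0, 6, 6, 6, 3, 1, 3, 1, 7, 3, 7, 3], [2, 6, 2, 6, 0, 2, 0, 2, 7, 7, 7, 1, 1, 3, 3, 3, 3])) (BT.leaf (39, [9, 9, 9, 9, 9, 9, 9, 9, 9, 3, 3, 3, 3, 3, 3, 3, 3, 3, 3, 8, 2, 8, 2, 8, 2, 8, 2, 8, 2, 8, 2, 8, 2, 8, 2, 8, 2, 8, 2], [3, 9, 3, 9, 3, 9, 3, 9, 3, 9, 3, 9, 3, 9, 3, 9, 3, 9, 3, 9, 2, 2, 2, 2, 2, 2, 2,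 2, 2, 2, 8, 8, 8, 8, 8, 8, 8, 8, 8]))))))))
/-- subgroup generators -/
def subT : BT (ℕ × List ℕ × List ℕ) := (BT.node 0 (BT.leaf (1, [2], [3])) (BT.leaf (1, [8], [9])))
/-- fact chunks -/
def colET : BT ℕ := (BT.node 390 (BT.node 195 (BT.node 97 (BT.node 48 (BT.node 24 (BT.node 12 (BT.node 6 (BT.node 3 (BT.node 1 (BT.node 0 (BT.leaf cE0) (BT.leaf cE1)) (BT.node 2 (BT.leaf cE2) (BT.leaf cE3))) (BT.node 5 (BT.node 4 (BT.leaf cE4) (BT.leaf cE5)) (BT.leaf cE6))) (BT.node 9 (BT.node 8 (BT.node 7 (BT.leaf cE7) (BT.leaf cE8)) (BT.leaf cE9)) (BT.node 11 (BT.node 10 (BT.leaf cE10) (BT.leaf cE11)) (BT.leaf cE12)))) (BT.node 18 (BT.node 15 (BT.node 14 (BT.node 13 (BT.leaf cE13) (BT.leaf cE14)) (BT.leaf cE15)) (BT.node 17 (BT.node 16 (BT.leaf cE16) (BT.leaf cE17)) (BT.leaf cE18))) (BT.node 21 (BT.node 20 (BT.node 19 (BT.leaf cE19) (BT.leaf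 cE20)) (BT.leaf cE21)) (BT.node 23 (BT.node 22 (BT.leaf cE22) (BT.leaf cE23)) (BT.leaf cE24))))) (BT.node 36 (BT.node 30 (BT.node 27 (BT.node 26 (BT.node 25 (BT.leaf cE25) (BT.leaf cE26)) (BT.leaf cE27)) (BT.node 29 (BT.node 28 (BT.leaf cE28) (BT.leaf cE29)) (BT.leaf cE30))) (BT.node 33 (BT.node 32 (BT.node 31 (BT.leaf cE31) (BT.leaf cE32)) (BT.leaf cE33)) (BT.node 35 (BT.node 34 (BT.leaf cE34) (BT.leaf cE35)) (BT.leaf cE36)))) (BT.node 42 (BT.node 39 (BT.node 38 (BT.node 37 (BT.leaf cE37) (BT.leaf cE38)) (BT.leaf cE39)) (BT.node 41 (BT.node 40 (BT.leaf cE40) (BT.leaf cE41)) (BT.leaf cE42))) (BT.node 45 (BT.node 44 (BT.node 43 (BT.leaf cE43) (BT.leaf cE44)) (BT.leaf cE45)) (BT.node 47 (BT.node 46 (BT.leaf cE46) (BT.leaf cE47)) (BT.leaf cE48)))))) (BT.node 73 (BT.node 61 (BT.node 55 (BT.node 52 (BT.node 50 (BT.node 49 (BT.leaf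 cE49) (BT.leaf cE50)) (BT.node 51 (BT.leaf cE51) (BT.leaf cE52))) (BT.node 54 (BT.node 53 (BT.leaf cE53) (BT.leaf cE54)) (BT.leaf cE55))) (BT.node 58 (BT.node 57 (BT.node 56 (BT.leaf cE56) (BT.leaf cE57)) (BT.leaf cE58)) (BT.node 60 (BT.node 59 (BT.leaf cE59) (BT.leaf cE60)) (BT.leaf cE61)))) (BT.node 67 (BT.node 64 (BT.node 63 (BT.node 62 (BT.leaf cE62) (BT.leaf cE63)) (BT.leaf cE64)) (BT.node 66 (BT.node 65 (BT.leaf cE65) (BT.leaf cE66)) (BT.leaf cE67))) (BT.node 70 (BT.node 69 (BT.node 68 (BT.leaf cE68) (BT.leaf cE69)) (BT.leaf cE70)) (BT.node 72 (BT.node 71 (BT.leaf cE71) (BT.leaf cE72)) (BT.leaf cE73))))) (BT.node 85 (BT.node 79 (BT.node 76 (BT.node 75 (BT.node 74 (BT.leaf cE74) (BT.leaf cE75)) (BT.leaf cE76)) (BT.node 78 (BT.node 77 (BT.leaf cE77) (BT.leaf cE78)) (BT.leaf cE79))) (BT.node 82 (BT.node 81 (BT.node 80 (BT.leaf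 cE80) (BT.leaf cE81)) (BT.leaf cE82)) (BT.node 84 (BT.node 83 (BT.leaf cE83) (BT.leaf cE84)) (BT.leaf cE85)))) (BT.node 91 (BT.node 88 (BT.node 87 (BT.node 86 (BT.leaf cE86) (BT.leaf cE87)) (BT.leaf cE88)) (BT.node 90 (BT.node 89 (BT.leaf cE89) (BT.leaf cE90)) (BT.leaf cE91))) (BT.node 94 (BT.node 93 (BT.node 92 (BT.leaf cE92) (BT.leaf cE93)) (BT.leaf cE94)) (BT.node 96 (BT.node 95 (BT.leaf cE95) (BT.leaf cE96)) (BT.leaf cE97))))))) (BT.node 146 (BT.node 122 (BT.node 110 (BT.node 104 (BT.node 101 (BT.node 99 (BT.node 98 (BT.leaf cE98) (BT.leaf cE99)) (BT.node 100 (BT.leaf cE100) (BT.leaf cE101))) (BT.node 103 (BT.node 102 (BT.leaf cE102) (BT.leaf cE103)) (BT.leaf cE104))) (BT.node 107 (BT.node 106 (BT.node 105 (BT.leaf cE105) (BT.leaf cE106)) (BT.leaf cE107)) (BT.node 109 (BT.node 108 (BT.leaf cE108) (BT.leaf cE109)) (BT.leaf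 cE110)))) (BT.node 116 (BT.node 113 (BT.node 112 (BT.node 111 (BT.leaf cE111) (BT.leaf cE112)) (BT.leaf cE113)) (BT.node 115 (BT.node 114 (BT.leaf cE114) (BT.leaf cE115)) (BT.leaf cE116))) (BT.node 119 (BT.node 118 (BT.node 117 (BT.leaf cE117) (BT.leaf cE118)) (BT.leaf cE119)) (BT.node 121 (BT.node 120 (BT.leaf cE120) (BT.leaf cE121)) (BT.leaf cE122))))) (BT.node 134 (BT.node 128 (BT.node 125 (BT.node 124 (BT.node 123 (BT.leaf cE123) (BT.leaf cE124)) (BT.leaf cE125)) (BT.node 127 (BT.node 126 (BT.leaf cE126) (BT.leaf cE127)) (BT.leaf cE128))) (BT.node 131 (BT.node 130 (BT.node 129 (BT.leaf cE129) (BT.leaf cE130)) (BT.leaf cE131)) (BT.node 133 (BT.node 132 (BT.leaf cE132) (BT.leaf cE133)) (BT.leaf cE134)))) (BT.node 140 (BT.node 137 (BT.node 136 (BT.node 135 (BT.leaf cE135) (BT.leaf cE136)) (BT.leaf cE137)) (BT.node 139 (BT.node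 138 (BT.leaf cE138) (BT.leaf cE139)) (BT.leaf cE140))) (BT.node 143 (BT.node 142 (BT.node 141 (BT.leaf cE141) (BT.leaf cE142)) (BT.leaf cE143)) (BT.node 145 (BT.node 144 (BT.leaf cE144) (BT.leaf cE145)) (BT.leaf cE146)))))) (BT.node 171 (BT.node 159 (BT.node 153 (BT.node 150 (BT.node 148 (BT.node 147 (BT.leaf cE147) (BT.leaf cE148)) (BT.node 149 (BT.leaf cE149) (BT.leaf cE150))) (BT.node 152 (BT.node 151 (BT.leaf cE151) (BT.leaf cE152)) (BT.leaf cE153))) (BT.node 156 (BT.node 155 (BT.node 154 (BT.leaf cE154) (BT.leaf cE155)) (BT.leaf cE156)) (BT.node 158 (BT.node 157 (BT.leaf cE157) (BT.leaf cE158)) (BT.leaf cE159)))) (BT.node 165 (BT.node 162 (BT.node 161 (BT.node 160 (BT.leaf cE160) (BT.leaf cE161)) (BT.leaf cE162)) (BT.node 164 (BT.node 163 (BT.leaf cE163) (BT.leaf cE164)) (BT.leaf cE165))) (BT.node 168 (BT.node 167 (BT.node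 166 (BT.leaf cE166) (BT.leaf cE167)) (BT.leaf cE168)) (BT.node 170 (BT.node 169 (BT.leaf cE169) (BT.leaf cE170)) (BT.leaf cE171))))) (BT.node 183 (BT.node 177 (BT.node 174 (BT.node 173 (BT.node 172 (BT.leaf cE172) (BT.leaf cE173)) (BT.leaf cE174)) (BT.node 176 (BT.node 175 (BT.leaf cE175) (BT.leaf cE176)) (BT.leaf cE177))) (BT.node 180 (BT.node 179 (BT.node 178 (BT.leaf cE178) (BT.leaf cE179)) (BT.leaf cE180)) (BT.node 182 (BT.node 181 (BT.leaf cE181) (BT.leaf cE182)) (BT.leaf cE183)))) (BT.node 189 (BT.node 186 (BT.node 185 (BT.node 184 (BT.leaf cE184) (BT.leaf cE185)) (BT.leaf cE186)) (BT.node 188 (BT.node 187 (BT.leaf cE187) (BT.leaf cE188)) (BT.leaf cE189))) (BT.node 192 (BT.node 191 (BT.node 190 (BT.leaf cE190) (BT.leaf cE191)) (BT.leaf cE192)) (BT.node 194 (BT.node 193 (BT.leaf cE193) (BT.leaf cE194)) (BT.leaf cE195))))))))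 (BT.node 293 (BT.node 244 (BT.node 220 (BT.node 208 (BT.node 202 (BT.node 199 (BT.node 197 (BT.node 196 (BT.leaf cE196) (BT.leaf cE197)) (BT.node 198 (BT.leaf cE198) (BT.leaf cE199))) (BT.node 201 (BT.node 200 (BT.leaf cE200) (BT.leaf cE201)) (BT.leaf cE202))) (BT.node 205 (BT.node 204 (BT.node 203 (BT.leaf cE203) (BT.leaf cE204)) (BT.leaf cE205)) (BT.node 207 (BT.node 206 (BT.leaf cE206) (BT.leaf cE207)) (BT.leaf cE208)))) (BT.node 214 (BT.node 211 (BT.node 210 (BT.node 209 (BT.leaf cE209) (BT.leaf cE210)) (BT.leaf cE211)) (BT.node 213 (BT.node 212 (BT.leaf cE212) (BT.leaf cE213)) (BT.leaf cE214))) (BT.node 217 (BT.node 216 (BT.node 215 (BT.leaf cE215) (BT.leaf cE216)) (BT.leaf cE217)) (BT.node 219 (BT.node 218 (BT.leaf cE218) (BT.leaf cE219)) (BT.leaf cE220))))) (BT.node 232 (BT.node 226 (BT.node 223 (BT.node 222 (BT.node 221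 (BT.leaf cE221) (BT.leaf cE222)) (BT.leaf cE223)) (BT.node 225 (BT.node 224 (BT.leaf cE224) (BT.leaf cE225)) (BT.leaf cE226))) (BT.node 229 (BT.node 228 (BT.node 227 (BT.leaf cE227) (BT.leaf cE228)) (BT.leaf cE229)) (BT.node 231 (BT.node 230 (BT.leaf cE230) (BT.leaf cE231)) (BT.leaf cE232)))) (BT.node 238 (BT.node 235 (BT.node 234 (BT.node 233 (BT.leaf cE233) (BT.leaf cE234)) (BT.leaf cE235)) (BT.node 237 (BT.node 236 (BT.leaf cE236) (BT.leaf cE237)) (BT.leaf cE238))) (BT.node 241 (BT.node 240 (BT.node 239 (BT.leaf cE239) (BT.leaf cE240)) (BT.leaf cE241)) (BT.node 243 (BT.node 242 (BT.leaf cE242) (BT.leaf cE243)) (BT.leaf cE244)))))) (BT.node 269 (BT.node 257 (BT.node 251 (BT.node 248 (BT.node 246 (BT.node 245 (BT.leaf cE245) (BT.leaf cE246)) (BT.node 247 (BT.leaf cE247) (BT.leaf cE248))) (BT.node 250 (BT.node 249 (BT.leaf cE249)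 (BT.leaf cE250)) (BT.leaf cE251))) (BT.node 254 (BT.node 253 (BT.node 252 (BT.leaf cE252) (BT.leaf cE253)) (BT.leaf cE254)) (BT.node 256 (BT.node 255 (BT.leaf cE255) (BT.leaf cE256)) (BT.leaf cE257)))) (BT.node 263 (BT.node 260 (BT.node 259 (BT.node 258 (BT.leaf cE258) (BT.leaf cE259)) (BT.leaf cE260)) (BT.node 262 (BT.node 261 (BT.leaf cE261) (BT.leaf cE262)) (BT.leaf cE263))) (BT.node 266 (BT.node 265 (BT.node 264 (BT.leaf cE264) (BT.leaf cE265)) (BT.leaf cE266)) (BT.node 268 (BT.node 267 (BT.leaf cE267) (BT.leaf cE268)) (BT.leaf cE269))))) (BT.node 281 (BT.node 275 (BT.node 272 (BT.node 271 (BT.node 270 (BT.leaf cE270) (BT.leaf cE271)) (BT.leaf cE272)) (BT.node 274 (BT.node 273 (BT.leaf cE273) (BT.leaf cE274)) (BT.leaf cE275))) (BT.node 278 (BT.node 277 (BT.node 276 (BT.leaf cE276) (BT.leaf cE277)) (BT.leaf cE278)) (BT.node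 280 (BT.node 279 (BT.leaf cE279) (BT.leaf cE280)) (BT.leaf cE281)))) (BT.node 287 (BT.node 284 (BT.node 283 (BT.node 282 (BT.leaf cE282) (BT.leaf cE283)) (BT.leaf cE284)) (BT.node 286 (BT.node 285 (BT.leaf cE285) (BT.leaf cE286)) (BT.leaf cE287))) (BT.node 290 (BT.node 289 (BT.node 288 (BT.leaf cE288) (BT.leaf cE289)) (BT.leaf cE290)) (BT.node 292 (BT.node 291 (BT.leaf cE291) (BT.leaf cE292)) (BT.leaf cE293))))))) (BT.node 342 (BT.node 318 (BT.node 306 (BT.node 300 (BT.node 297 (BT.node 295 (BT.node 294 (BT.leaf cE294) (BT.leaf cE295)) (BT.node 296 (BT.leaf cE296) (BT.leaf cE297))) (BT.node 299 (BT.node 298 (BT.leaf cE298) (BT.leaf cE299)) (BT.leaf cE300))) (BT.node 303 (BT.node 302 (BT.node 301 (BT.leaf cE301) (BT.leaf cE302)) (BT.leaf cE303)) (BT.node 305 (BT.node 304 (BT.leaf cE304) (BT.leaf cE305)) (BT.leaf cE306)))) (BT.node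 312 (BT.node 309 (BT.node 308 (BT.node 307 (BT.leaf cE307) (BT.leaf cE308)) (BT.leaf cE309)) (BT.node 311 (BT.node 310 (BT.leaf cE310) (BT.leaf cE311)) (BT.leaf cE312))) (BT.node 315 (BT.node 314 (BT.node 313 (BT.leaf cE313) (BT.leaf cE314)) (BT.leaf cE315)) (BT.node 317 (BT.node 316 (BT.leaf cE316) (BT.leaf cE317)) (BT.leaf cE318))))) (BT.node 330 (BT.node 324 (BT.node 321 (BT.node 320 (BT.node 319 (BT.leaf cE319) (BT.leaf cE320)) (BT.leaf cE321)) (BT.node 323 (BT.node 322 (BT.leaf cE322) (BT.leaf cE323)) (BT.leaf cE324))) (BT.node 327 (BT.node 326 (BT.node 325 (BT.leaf cE325) (BT.leaf cE326)) (BT.leaf cE327)) (BT.node 329 (BT.node 328 (BT.leaf cE328) (BT.leaf cE329)) (BT.leaf cE330)))) (BT.node 336 (BT.node 333 (BT.node 332 (BT.node 331 (BT.leaf cE331) (BT.leaf cE332)) (BT.leaf cE333)) (BT.node 335 (BT.node 334 (BT.leaf cE334)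 (BT.leaf cE335)) (BT.leaf cE336))) (BT.node 339 (BT.node 338 (BT.node 337 (BT.leaf cE337) (BT.leaf cE338)) (BT.leaf cE339)) (BT.node 341 (BT.node 340 (BT.leaf cE340) (BT.leaf cE341)) (BT.leaf cE342)))))) (BT.node 366 (BT.node 354 (BT.node 348 (BT.node 345 (BT.node 344 (BT.node 343 (BT.leaf cE343) (BT.leaf cE344)) (BT.leaf cE345)) (BT.node 347 (BT.node 346 (BT.leaf cE346) (BT.leaf cE347)) (BT.leaf cE348))) (BT.node 351 (BT.node 350 (BT.node 349 (BT.leaf cE349) (BT.leaf cE350)) (BT.leaf cE351)) (BT.node 353 (BT.node 352 (BT.leaf cE352) (BT.leaf cE353)) (BT.leaf cE354)))) (BT.node 360 (BT.node 357 (BT.node 356 (BT.node 355 (BT.leaf cE355) (BT.leaf cE356)) (BT.leaf cE357)) (BT.node 359 (BT.node 358 (BT.leaf cE358) (BT.leaf cE359)) (BT.leaf cE360))) (BT.node 363 (BT.node 362 (BT.node 361 (BT.leaf cE361) (BT.leaf cE362)) (BT.leaf cE363))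 (BT.node 365 (BT.node 364 (BT.leaf cE364) (BT.leaf cE365)) (BT.leaf cE366))))) (BT.node 378 (BT.node 372 (BT.node 369 (BT.node 368 (BT.node 367 (BT.leaf cE367) (BT.leaf cE368)) (BT.leaf cE369)) (BT.node 371 (BT.node 370 (BT.leaf cE370) (BT.leaf cE371)) (BT.leaf cE372))) (BT.node 375 (BT.node 374 (BT.node 373 (BT.leaf cE373) (BT.leaf cE374)) (BT.leaf cE375)) (BT.node 377 (BT.node 376 (BT.leaf cE376) (BT.leaf cE377)) (BT.leaf cE378)))) (BT.node 384 (BT.node 381 (BT.node 380 (BT.node 379 (BT.leaf cE379) (BT.leaf cE380)) (BT.leaf cE381)) (BT.node 383 (BT.node 382 (BT.leaf cE382) (BT.leaf cE383)) (BT.leaf cE384))) (BT.node 387 (BT.node 386 (BT.node 385 (BT.leaf cE385) (BT.leaf cE386)) (BT.leaf cE387)) (BT.node 389 (BT.node 388 (BT.leaf cE388) (BT.leaf cE389)) (BT.leaf cE390))))))))) (BT.node 585 (BT.node 488 (BT.node 439 (BT.node 415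 (BT.node 403 (BT.node 397 (BT.node 394 (BT.node 392 (BT.node 391 (BT.leaf cE391) (BT.leaf cE392)) (BT.node 393 (BT.leaf cE393) (BT.leaf cE394))) (BT.node 396 (BT.node 395 (BT.leaf cE395) (BT.leaf cE396)) (BT.leaf cE397))) (BT.node 400 (BT.node 399 (BT.node 398 (BT.leaf cE398) (BT.leaf cE399)) (BT.leaf cE400)) (BT.node 402 (BT.node 401 (BT.leaf cE401) (BT.leaf cE402)) (BT.leaf cE403)))) (BT.node 409 (BT.node 406 (BT.node 405 (BT.node 404 (BT.leaf cE404) (BT.leaf cE405)) (BT.leaf cE406)) (BT.node 408 (BT.node 407 (BT.leaf cE407) (BT.leaf cE408)) (BT.leaf cE409))) (BT.node 412 (BT.node 411 (BT.node 410 (BT.leaf cE410) (BT.leaf cE411)) (BT.leaf cE412)) (BT.node 414 (BT.node 413 (BT.leaf cE413) (BT.leaf cE414)) (BT.leaf cE415))))) (BT.node 427 (BT.node 421 (BT.node 418 (BT.node 417 (BT.node 416 (BT.leaf cE416) (BT.leaf cE417)) (BT.leaf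 cE418)) (BT.node 420 (BT.node 419 (BT.leaf cE419) (BT.leaf cE420)) (BT.leaf cE421))) (BT.node 424 (BT.node 423 (BT.node 422 (BT.leaf cE422) (BT.leaf cE423)) (BT.leaf cE424)) (BT.node 426 (BT.node 425 (BT.leaf cE425) (BT.leaf cE426)) (BT.leaf cE427)))) (BT.node 433 (BT.node 430 (BT.node 429 (BT.node 428 (BT.leaf cE428) (BT.leaf cE429)) (BT.leaf cE430)) (BT.node 432 (BT.node 431 (BT.leaf cE431) (BT.leaf cE432)) (BT.leaf cE433))) (BT.node 436 (BT.node 435 (BT.node 434 (BT.leaf cE434) (BT.leaf cE435)) (BT.leaf cE436)) (BT.node 438 (BT.node 437 (BT.leaf cE437) (BT.leaf cE438)) (BT.leaf cE439)))))) (BT.node 464 (BT.node 452 (BT.node 446 (BT.node 443 (BT.node 441 (BT.node 440 (BT.leaf cE440) (BT.leaf cE441)) (BT.node 442 (BT.leaf cE442) (BT.leaf cE443))) (BT.node 445 (BT.node 444 (BT.leaf cE444) (BT.leaf cE445)) (BT.leaf cE446))) (BT.node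 449 (BT.node 448 (BT.node 447 (BT.leaf cE447) (BT.leaf cE448)) (BT.leaf cE449)) (BT.node 451 (BT.node 450 (BT.leaf cE450) (BT.leaf cE451)) (BT.leaf cE452)))) (BT.node 458 (BT.node 455 (BT.node 454 (BT.node 453 (BT.leaf cE453) (BT.leaf cE454)) (BT.leaf cE455)) (BT.node 457 (BT.node 456 (BT.leaf cE456) (BT.leaf cE457)) (BT.leaf cE458))) (BT.node 461 (BT.node 460 (BT.node 459 (BT.leaf cE459) (BT.leaf cE460)) (BT.leaf cE461)) (BT.node 463 (BT.node 462 (BT.leaf cE462) (BT.leaf cE463)) (BT.leaf cE464))))) (BT.node 476 (BT.node 470 (BT.node 467 (BT.node 466 (BT.node 465 (BT.leaf cE465) (BT.leaf cE466)) (BT.leaf cE467)) (BT.node 469 (BT.node 468 (BT.leaf cE468) (BT.leaf cE469)) (BT.leaf cE470))) (BT.node 473 (BT.node 472 (BT.node 471 (BT.leaf cE471) (BT.leaf cE472)) (BT.leaf cE473)) (BT.node 475 (BT.node 474 (BT.leaf cE474) (BT.leaf cE475))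 (BT.leaf cE476)))) (BT.node 482 (BT.node 479 (BT.node 478 (BT.node 477 (BT.leaf cE477) (BT.leaf cE478)) (BT.leaf cE479)) (BT.node 481 (BT.node 480 (BT.leaf cE480) (BT.leaf cE481)) (BT.leaf cE482))) (BT.node 485 (BT.node 484 (BT.node 483 (BT.leaf cE483) (BT.leaf cE484)) (BT.leaf cE485)) (BT.node 487 (BT.node 486 (BT.leaf cE486) (BT.leaf cE487)) (BT.leaf cE488))))))) (BT.node 537 (BT.node 513 (BT.node 501 (BT.node 495 (BT.node 492 (BT.node 490 (BT.node 489 (BT.leaf cE489) (BT.leaf cE490)) (BT.node 491 (BT.leaf cE491) (BT.leaf cE492))) (BT.node 494 (BT.node 493 (BT.leaf cE493) (BT.leaf cE494)) (BT.leaf cE495))) (BT.node 498 (BT.node 497 (BT.node 496 (BT.leaf cE496) (BT.leaf cE497)) (BT.leaf cE498)) (BT.node 500 (BT.node 499 (BT.leaf cE499) (BT.leaf cE500)) (BT.leaf cE501)))) (BT.node 507 (BT.node 504 (BT.node 503 (BT.node 502 (BT.leaf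 cE502) (BT.leaf cE503)) (BT.leaf cE504)) (BT.node 506 (BT.node 505 (BT.leaf cE505) (BT.leaf cE506)) (BT.leaf cE507))) (BT.node 510 (BT.node 509 (BT.node 508 (BT.leaf cE508) (BT.leaf cE509)) (BT.leaf cE510)) (BT.node 512 (BT.node 511 (BT.leaf cE511) (BT.leaf cE512)) (BT.leaf cE513))))) (BT.node 525 (BT.node 519 (BT.node 516 (BT.node 515 (BT.node 514 (BT.leaf cE514) (BT.leaf cE515)) (BT.leaf cE516)) (BT.node 518 (BT.node 517 (BT.leaf cE517) (BT.leaf cE518)) (BT.leaf cE519))) (BT.node 522 (BT.node 521 (BT.node 520 (BT.leaf cE520) (BT.leaf cE521)) (BT.leaf cE522)) (BT.node 524 (BT.node 523 (BT.leaf cE523) (BT.leaf cE524)) (BT.leaf cE525)))) (BT.node 531 (BT.node 528 (BT.node 527 (BT.node 526 (BT.leaf cE526) (BT.leaf cE527)) (BT.leaf cE528)) (BT.node 530 (BT.node 529 (BT.leaf cE529) (BT.leaf cE530)) (BT.leaf cE531))) (BT.node 534 (BT.node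 533 (BT.node 532 (BT.leaf cE532) (BT.leaf cE533)) (BT.leaf cE534)) (BT.node 536 (BT.node 535 (BT.leaf cE535) (BT.leaf cE536)) (BT.leaf cE537)))))) (BT.node 561 (BT.node 549 (BT.node 543 (BT.node 540 (BT.node 539 (BT.node 538 (BT.leaf cE538) (BT.leaf cE539)) (BT.leaf cE540)) (BT.node 542 (BT.node 541 (BT.leaf cE541) (BT.leaf cE542)) (BT.leaf cE543))) (BT.node 546 (BT.node 545 (BT.node 544 (BT.leaf cE544) (BT.leaf cE545)) (BT.leaf cE546)) (BT.node 548 (BT.node 547 (BT.leaf cE547) (BT.leaf cE548)) (BT.leaf cE549)))) (BT.node 555 (BT.node 552 (BT.node 551 (BT.node 550 (BT.leaf cE550) (BT.leaf cE551)) (BT.leaf cE552)) (BT.node 554 (BT.node 553 (BT.leaf cE553) (BT.leaf cE554)) (BT.leaf cE555))) (BT.node 558 (BT.node 557 (BT.node 556 (BT.leaf cE556) (BT.leaf cE557)) (BT.leaf cE558)) (BT.node 560 (BT.node 559 (BT.leaf cE559) (BT.leaf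 cE560)) (BT.leaf cE561))))) (BT.node 573 (BT.node 567 (BT.node 564 (BT.node 563 (BT.node 562 (BT.leaf cE562) (BT.leaf cE563)) (BT.leaf cE564)) (BT.node 566 (BT.node 565 (BT.leaf cE565) (BT.leaf cE566)) (BT.leaf cE567))) (BT.node 570 (BT.node 569 (BT.node 568 (BT.leaf cE568) (BT.leaf cE569)) (BT.leaf cE570)) (BT.node 572 (BT.node 571 (BT.leaf cE571) (BT.leaf cE572)) (BT.leaf cE573)))) (BT.node 579 (BT.node 576 (BT.node 575 (BT.node 574 (BT.leaf cE574) (BT.leaf cE575)) (BT.leaf cE576)) (BT.node 578 (BT.node 577 (BT.leaf cE577) (BT.leaf cE578)) (BT.leaf cE579))) (BT.node 582 (BT.node 581 (BT.node 580 (BT.leaf cE580) (BT.leaf cE581)) (BT.leaf cE582)) (BT.node 584 (BT.node 583 (BT.leaf cE583) (BT.leaf cE584)) (BT.leaf cE585)))))))) (BT.node 683 (BT.node 634 (BT.node 610 (BT.node 598 (BT.node 592 (BT.node 589 (BT.node 587 (BT.node 586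 (BT.leaf cE586) (BT.leaf cE587)) (BT.node 588 (BT.leaf cE588) (BT.leaf cE589))) (BT.node 591 (BT.node 590 (BT.leaf cE590) (BT.leaf cE591)) (BT.leaf cE592))) (BT.node 595 (BT.node 594 (BT.node 593 (BT.leaf cE593) (BT.leaf cE594)) (BT.leaf cE595)) (BT.node 597 (BT.node 596 (BT.leaf cE596) (BT.leaf cE597)) (BT.leaf cE598)))) (BT.node 604 (BT.node 601 (BT.node 600 (BT.node 599 (BT.leaf cE599) (BT.leaf cE600)) (BT.leaf cE601)) (BT.node 603 (BT.node 602 (BT.leaf cE602) (BT.leaf cE603)) (BT.leaf cE604))) (BT.node 607 (BT.node 606 (BT.node 605 (BT.leaf cE605) (BT.leaf cE606)) (BT.leaf cE607)) (BT.node 609 (BT.node 608 (BT.leaf cE608) (BT.leaf cE609)) (BT.leaf cE610))))) (BT.node 622 (BT.node 616 (BT.node 613 (BT.node 612 (BT.node 611 (BT.leaf cE611) (BT.leaf cE612)) (BT.leaf cE613)) (BT.node 615 (BT.node 614 (BT.leaf cE614) (BT.leaf cE615))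 (BT.leaf cE616))) (BT.node 619 (BT.node 618 (BT.node 617 (BT.leaf cE617) (BT.leaf cE618)) (BT.leaf cE619)) (BT.node 621 (BT.node 620 (BT.leaf cE620) (BT.leaf cE621)) (BT.leaf cE622)))) (BT.node 628 (BT.node 625 (BT.node 624 (BT.node 623 (BT.leaf cE623) (BT.leaf cE624)) (BT.leaf cE625)) (BT.node 627 (BT.node 626 (BT.leaf cE626) (BT.leaf cE627)) (BT.leaf cE628))) (BT.node 631 (BT.node 630 (BT.node 629 (BT.leaf cE629) (BT.leaf cE630)) (BT.leaf cE631)) (BT.node 633 (BT.node 632 (BT.leaf cE632) (BT.leaf cE633)) (BT.leaf cE634)))))) (BT.node 659 (BT.node 647 (BT.node 641 (BT.node 638 (BT.node 636 (BT.node 635 (BT.leaf cE635) (BT.leaf cE636)) (BT.node 637 (BT.leaf cE637) (BT.leaf cE638))) (BT.node 640 (BT.node 639 (BT.leaf cE639) (BT.leaf cE640)) (BT.leaf cE641))) (BT.node 644 (BT.node 643 (BT.node 642 (BT.leaf cE642) (BT.leaf cE643))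 (BT.leaf cE644)) (BT.node 646 (BT.node 645 (BT.leaf cE645) (BT.leaf cE646)) (BT.leaf cE647)))) (BT.node 653 (BT.node 650 (BT.node 649 (BT.node 648 (BT.leaf cE648) (BT.leaf cE649)) (BT.leaf cE650)) (BT.node 652 (BT.node 651 (BT.leaf cE651) (BT.leaf cE652)) (BT.leaf cE653))) (BT.node 656 (BT.node 655 (BT.node 654 (BT.leaf cE654) (BT.leaf cE655)) (BT.leaf cE656)) (BT.node 658 (BT.node 657 (BT.leaf cE657) (BT.leaf cE658)) (BT.leaf cE659))))) (BT.node 671 (BT.node 665 (BT.node 662 (BT.node 661 (BT.node 660 (BT.leaf cE660) (BT.leaf cE661)) (BT.leaf cE662)) (BT.node 664 (BT.node 663 (BT.leaf cE663) (BT.leaf cE664)) (BT.leaf cE665))) (BT.node 668 (BT.node 667 (BT.node 666 (BT.leaf cE666) (BT.leaf cE667)) (BT.leaf cE668)) (BT.node 670 (BT.node 669 (BT.leaf cE669) (BT.leaf cE670)) (BT.leaf cE671)))) (BT.node 677 (BT.node 674 (BT.node 673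 (BT.node 672 (BT.leaf cE672) (BT.leaf cE673)) (BT.leaf cE674)) (BT.node 676 (BT.node 675 (BT.leaf cE675) (BT.leaf cE676)) (BT.leaf cE677))) (BT.node 680 (BT.node 679 (BT.node 678 (BT.leaf cE678) (BT.leaf cE679)) (BT.leaf cE680)) (BT.node 682 (BT.node 681 (BT.leaf cE681) (BT.leaf cE682)) (BT.leaf cE683))))))) (BT.node 732 (BT.node 708 (BT.node 696 (BT.node 690 (BT.node 687 (BT.node 685 (BT.node 684 (BT.leaf cE684) (BT.leaf cE685)) (BT.node 686 (BT.leaf cE686) (BT.leaf cE687))) (BT.node 689 (BT.node 688 (BT.leaf cE688) (BT.leaf cE689)) (BT.leaf cE690))) (BT.node 693 (BT.node 692 (BT.node 691 (BT.leaf cE691) (BT.leaf cE692)) (BT.leaf cE693)) (BT.node 695 (BT.node 694 (BT.leaf cE694) (BT.leaf cE695)) (BT.leaf cE696)))) (BT.node 702 (BT.node 699 (BT.node 698 (BT.node 697 (BT.leaf cE697) (BT.leaf cE698)) (BT.leaf cE699)) (BT.node 701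 (BT.node 700 (BT.leaf cE700) (BT.leaf cE701)) (BT.leaf cE702))) (BT.node 705 (BT.node 704 (BT.node 703 (BT.leaf cE703) (BT.leaf cE704)) (BT.leaf cE705)) (BT.node 707 (BT.node 706 (BT.leaf cE706) (BT.leaf cE707)) (BT.leaf cE708))))) (BT.node 720 (BT.node 714 (BT.node 711 (BT.node 710 (BT.node 709 (BT.leaf cE709) (BT.leaf cE710)) (BT.leaf cE711)) (BT.node 713 (BT.node 712 (BT.leaf cE712) (BT.leaf cE713)) (BT.leaf cE714))) (BT.node 717 (BT.node 716 (BT.node 715 (BT.leaf cE715) (BT.leaf cE716)) (BT.leaf cE717)) (BT.node 719 (BT.node 718 (BT.leaf cE718) (BT.leaf cE719)) (BT.leaf cE720)))) (BT.node 726 (BT.node 723 (BT.node 722 (BT.node 721 (BT.leaf cE721) (BT.leaf cE722)) (BT.leaf cE723)) (BT.node 725 (BT.node 724 (BT.leaf cE724) (BT.leaf cE725)) (BT.leaf cE726))) (BT.node 729 (BT.node 728 (BT.node 727 (BT.leaf cE727) (BT.leaf cE728))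 (BT.leaf cE729)) (BT.node 731 (BT.node 730 (BT.leaf cE730) (BT.leaf cE731)) (BT.leaf cE732)))))) (BT.node 756 (BT.node 744 (BT.node 738 (BT.node 735 (BT.node 734 (BT.node 733 (BT.leaf cE733) (BT.leaf cE734)) (BT.leaf cE735)) (BT.node 737 (BT.node 736 (BT.leaf cE736) (BT.leaf cE737)) (BT.leaf cE738))) (BT.node 741 (BT.node 740 (BT.node 739 (BT.leaf cE739) (BT.leaf cE740)) (BT.leaf cE741)) (BT.node 743 (BT.node 742 (BT.leaf cE742) (BT.leaf cE743)) (BT.leaf cE744)))) (BT.node 750 (BT.node 747 (BT.node 746 (BT.node 745 (BT.leaf cE745) (BT.leaf cE746)) (BT.leaf cE747)) (BT.node 749 (BT.node 748 (BT.leaf cE748) (BT.leaf cE749)) (BT.leaf cE750))) (BT.node 753 (BT.node 752 (BT.node 751 (BT.leaf cE751) (BT.leaf cE752)) (BT.leaf cE753)) (BT.node 755 (BT.node 754 (BT.leaf cE754) (BT.leaf cE755)) (BT.leaf cE756))))) (BT.node 768 (BT.node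 762 (BT.node 759 (BT.node 758 (BT.node 757 (BT.leaf cE757) (BT.leaf cE758)) (BT.leaf cE759)) (BT.node 761 (BT.node 760 (BT.leaf cE760) (BT.leaf cE761)) (BT.leaf cE762))) (BT.node 765 (BT.node 764 (BT.node 763 (BT.leaf cE763) (BT.leaf cE764)) (BT.leaf cE765)) (BT.node 767 (BT.node 766 (BT.leaf cE766) (BT.leaf cE767)) (BT.leaf cE768)))) (BT.node 774 (BT.node 771 (BT.node 770 (BT.node 769 (BT.leaf cE769) (BT.leaf cE770)) (BT.leaf cE771)) (BT.node 773 (BT.node 772 (BT.leaf cE772) (BT.leaf cE773)) (BT.leaf cE774))) (BT.node 777 (BT.node 776 (BT.node 775 (BT.leaf cE775) (BT.leaf cE776)) (BT.leaf cE777)) (BT.node 779 (BT.node 778 (BT.leaf cE778) (BT.leaf cE779)) (BT.leaf cE780))))))))))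
/-- justification chunks -/
def colJT : BT ℕ := (BT.node 390 (BT.node 195 (BT.node 97 (BT.node 48 (BT.node 24 (BT.node 12 (BT.node 6 (BT.node 3 (BT.node 1 (BT.node 0 (BT.leaf cJ0) (BT.leaf cJ1)) (BT.node 2 (BT.leaf cJ2) (BT.leaf cJ3))) (BT.node 5 (BT.node 4 (BT.leaf cJ4) (BT.leaf cJ5)) (BT.leaf cJ6))) (BT.node 9 (BT.node 8 (BT.node 7 (BT.leaf cJ7) (BT.leaf cJ8)) (BT.leaf cJ9)) (BT.node 11 (BT.node 10 (BT.leaf cJ10) (BT.leaf cJ11)) (BT.leaf cJ12)))) (BT.node 18 (BT.node 15 (BT.node 14 (BT.node 13 (BT.leaf cJ13) (BT.leaf cJ14)) (BT.leaf cJ15)) (BT.node 17 (BT.node 16 (BT.leaf cJ16) (BT.leaf cJ17)) (BT.leaf cJ18))) (BT.node 21 (BT.node 20 (BT.node 19 (BT.leaf cJ19) (BT.leaf cJ20)) (BT.leaf cJ21)) (BT.node 23 (BT.node 22 (BT.leaf cJ22) (BT.leaf cJ23)) (BT.leaf cJ24))))) (BT.node 36 (BT.node 30 (BT.node 27 (BT.node 26 (BT.node 25 (BT.leaf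 cJ25) (BT.leaf cJ26)) (BT.leaf cJ27)) (BT.node 29 (BT.node 28 (BT.leaf cJ28) (BT.leaf cJ29)) (BT.leaf cJ30))) (BT.node 33 (BT.node 32 (BT.node 31 (BT.leaf cJ31) (BT.leaf cJ32)) (BT.leaf cJ33)) (BT.node 35 (BT.node 34 (BT.leaf cJ34) (BT.leaf cJ35)) (BT.leaf cJ36)))) (BT.node 42 (BT.node 39 (BT.node 38 (BT.node 37 (BT.leaf cJ37) (BT.leaf cJ38)) (BT.leaf cJ39)) (BT.node 41 (BT.node 40 (BT.leaf cJ40) (BT.leaf cJ41)) (BT.leaf cJ42))) (BT.node 45 (BT.node 44 (BT.node 43 (BT.leaf cJ43) (BT.leaf cJ44)) (BT.leaf cJ45)) (BT.node 47 (BT.node 46 (BT.leaf cJ46) (BT.leaf cJ47)) (BT.leaf cJ48)))))) (BT.node 73 (BT.node 61 (BT.node 55 (BT.node 52 (BT.node 50 (BT.node 49 (BT.leaf cJ49) (BT.leaf cJ50)) (BT.node 51 (BT.leaf cJ51) (BT.leaf cJ52))) (BT.node 54 (BT.node 53 (BT.leaf cJ53) (BT.leaf cJ54)) (BT.leaf cJ55))) (BT.node 58 (BT.node 57 (BT.node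 56 (BT.leaf cJ56) (BT.leaf cJ57)) (BT.leaf cJ58)) (BT.node 60 (BT.node 59 (BT.leaf cJ59) (BT.leaf cJ60)) (BT.leaf cJ61)))) (BT.node 67 (BT.node 64 (BT.node 63 (BT.node 62 (BT.leaf cJ62) (BT.leaf cJ63)) (BT.leaf cJ64)) (BT.node 66 (BT.node 65 (BT.leaf cJ65) (BT.leaf cJ66)) (BT.leaf cJ67))) (BT.node 70 (BT.node 69 (BT.node 68 (BT.leaf cJ68) (BT.leaf cJ69)) (BT.leaf cJ70)) (BT.node 72 (BT.node 71 (BT.leaf cJ71) (BT.leaf cJ72)) (BT.leaf cJ73))))) (BT.node 85 (BT.node 79 (BT.node 76 (BT.node 75 (BT.node 74 (BT.leaf cJ74) (BT.leaf cJ75)) (BT.leaf cJ76)) (BT.node 78 (BT.node 77 (BT.leaf cJ77) (BT.leaf cJ78)) (BT.leaf cJ79))) (BT.node 82 (BT.node 81 (BT.node 80 (BT.leaf cJ80) (BT.leaf cJ81)) (BT.leaf cJ82)) (BT.node 84 (BT.node 83 (BT.leaf cJ83) (BT.leaf cJ84)) (BT.leaf cJ85)))) (BT.node 91 (BT.node 88 (BT.node 87 (BT.node 86 (BT.leaf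 cJ86) (BT.leaf cJ87)) (BT.leaf cJ88)) (BT.node 90 (BT.node 89 (BT.leaf cJ89) (BT.leaf cJ90)) (BT.leaf cJ91))) (BT.node 94 (BT.node 93 (BT.node 92 (BT.leaf cJ92) (BT.leaf cJ93)) (BT.leaf cJ94)) (BT.node 96 (BT.node 95 (BT.leaf cJ95) (BT.leaf cJ96)) (BT.leaf cJ97))))))) (BT.node 146 (BT.node 122 (BT.node 110 (BT.node 104 (BT.node 101 (BT.node 99 (BT.node 98 (BT.leaf cJ98) (BT.leaf cJ99)) (BT.node 100 (BT.leaf cJ100) (BT.leaf cJ101))) (BT.node 103 (BT.node 102 (BT.leaf cJ102) (BT.leaf cJ103)) (BT.leaf cJ104))) (BT.node 107 (BT.node 106 (BT.node 105 (BT.leaf cJ105) (BT.leaf cJ106)) (BT.leaf cJ107)) (BT.node 109 (BT.node 108 (BT.leaf cJ108) (BT.leaf cJ109)) (BT.leaf cJ110)))) (BT.node 116 (BT.node 113 (BT.node 112 (BT.node 111 (BT.leaf cJ111) (BT.leaf cJ112)) (BT.leaf cJ113)) (BT.node 115 (BT.node 114 (BT.leaf cJ114) (BT.leaf cJ115))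 (BT.leaf cJ116))) (BT.node 119 (BT.node 118 (BT.node 117 (BT.leaf cJ117) (BT.leaf cJ118)) (BT.leaf cJ119)) (BT.node 121 (BT.node 120 (BT.leaf cJ120) (BT.leaf cJ121)) (BT.leaf cJ122))))) (BT.node 134 (BT.node 128 (BT.node 125 (BT.node 124 (BT.node 123 (BT.leaf cJ123) (BT.leaf cJ124)) (BT.leaf cJ125)) (BT.node 127 (BT.node 126 (BT.leaf cJ126) (BT.leaf cJ127)) (BT.leaf cJ128))) (BT.node 131 (BT.node 130 (BT.node 129 (BT.leaf cJ129) (BT.leaf cJ130)) (BT.leaf cJ131)) (BT.node 133 (BT.node 132 (BT.leaf cJ132) (BT.leaf cJ133)) (BT.leaf cJ134)))) (BT.node 140 (BT.node 137 (BT.node 136 (BT.node 135 (BT.leaf cJ135) (BT.leaf cJ136)) (BT.leaf cJ137)) (BT.node 139 (BT.node 138 (BT.leaf cJ138) (BT.leaf cJ139)) (BT.leaf cJ140))) (BT.node 143 (BT.node 142 (BT.node 141 (BT.leaf cJ141) (BT.leaf cJ142)) (BT.leaf cJ143)) (BT.node 145 (BT.node 144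 (BT.leaf cJ144) (BT.leaf cJ145)) (BT.leaf cJ146)))))) (BT.node 171 (BT.node 159 (BT.node 153 (BT.node 150 (BT.node 148 (BT.node 147 (BT.leaf cJ147) (BT.leaf cJ148)) (BT.node 149 (BT.leaf cJ149) (BT.leaf cJ150))) (BT.node 152 (BT.node 151 (BT.leaf cJ151) (BT.leaf cJ152)) (BT.leaf cJ153))) (BT.node 156 (BT.node 155 (BT.node 154 (BT.leaf cJ154) (BT.leaf cJ155)) (BT.leaf cJ156)) (BT.node 158 (BT.node 157 (BT.leaf cJ157) (BT.leaf cJ158)) (BT.leaf cJ159)))) (BT.node 165 (BT.node 162 (BT.node 161 (BT.node 160 (BT.leaf cJ160) (BT.leaf cJ161)) (BT.leaf cJ162)) (BT.node 164 (BT.node 163 (BT.leaf cJ163) (BT.leaf cJ164)) (BT.leaf cJ165))) (BT.node 168 (BT.node 167 (BT.node 166 (BT.leaf cJ166) (BT.leaf cJ167)) (BT.leaf cJ168)) (BT.node 170 (BT.node 169 (BT.leaf cJ169) (BT.leaf cJ170)) (BT.leaf cJ171))))) (BT.node 183 (BT.node 177 (BT.node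 174 (BT.node 173 (BT.node 172 (BT.leaf cJ172) (BT.leaf cJ173)) (BT.leaf cJ174)) (BT.node 176 (BT.node 175 (BT.leaf cJ175) (BT.leaf cJ176)) (BT.leaf cJ177))) (BT.node 180 (BT.node 179 (BT.node 178 (BT.leaf cJ178) (BT.leaf cJ179)) (BT.leaf cJ180)) (BT.node 182 (BT.node 181 (BT.leaf cJ181) (BT.leaf cJ182)) (BT.leaf cJ183)))) (BT.node 189 (BT.node 186 (BT.node 185 (BT.node 184 (BT.leaf cJ184) (BT.leaf cJ185)) (BT.leaf cJ186)) (BT.node 188 (BT.node 187 (BT.leaf cJ187) (BT.leaf cJ188)) (BT.leaf cJ189))) (BT.node 192 (BT.node 191 (BT.node 190 (BT.leaf cJ190) (BT.leaf cJ191)) (BT.leaf cJ192)) (BT.node 194 (BT.node 193 (BT.leaf cJ193) (BT.leaf cJ194)) (BT.leaf cJ195)))))))) (BT.node 293 (BT.node 244 (BT.node 220 (BT.node 208 (BT.node 202 (BT.node 199 (BT.node 197 (BT.node 196 (BT.leaf cJ196) (BT.leaf cJ197)) (BT.node 198 (BT.leaf cJ198)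 (BT.leaf cJ199))) (BT.node 201 (BT.node 200 (BT.leaf cJ200) (BT.leaf cJ201)) (BT.leaf cJ202))) (BT.node 205 (BT.node 204 (BT.node 203 (BT.leaf cJ203) (BT.leaf cJ204)) (BT.leaf cJ205)) (BT.node 207 (BT.node 206 (BT.leaf cJ206) (BT.leaf cJ207)) (BT.leaf cJ208)))) (BT.node 214 (BT.node 211 (BT.node 210 (BT.node 209 (BT.leaf cJ209) (BT.leaf cJ210)) (BT.leaf cJ211)) (BT.node 213 (BT.node 212 (BT.leaf cJ212) (BT.leaf cJ213)) (BT.leaf cJ214))) (BT.node 217 (BT.node 216 (BT.node 215 (BT.leaf cJ215) (BT.leaf cJ216)) (BT.leaf cJ217)) (BT.node 219 (BT.node 218 (BT.leaf cJ218) (BT.leaf cJ219)) (BT.leaf cJ220))))) (BT.node 232 (BT.node 226 (BT.node 223 (BT.node 222 (BT.node 221 (BT.leaf cJ221) (BT.leaf cJ222)) (BT.leaf cJ223)) (BT.node 225 (BT.node 224 (BT.leaf cJ224) (BT.leaf cJ225)) (BT.leaf cJ226))) (BT.node 229 (BT.node 228 (BT.node 227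 (BT.leaf cJ227) (BT.leaf cJ228)) (BT.leaf cJ229)) (BT.node 231 (BT.node 230 (BT.leaf cJ230) (BT.leaf cJ231)) (BT.leaf cJ232)))) (BT.node 238 (BT.node 235 (BT.node 234 (BT.node 233 (BT.leaf cJ233) (BT.leaf cJ234)) (BT.leaf cJ235)) (BT.node 237 (BT.node 236 (BT.leaf cJ236) (BT.leaf cJ237)) (BT.leaf cJ238))) (BT.node 241 (BT.node 240 (BT.node 239 (BT.leaf cJ239) (BT.leaf cJ240)) (BT.leaf cJ241)) (BT.node 243 (BT.node 242 (BT.leaf cJ242) (BT.leaf cJ243)) (BT.leaf cJ244)))))) (BT.node 269 (BT.node 257 (BT.node 251 (BT.node 248 (BT.node 246 (BT.node 245 (BT.leaf cJ245) (BT.leaf cJ246)) (BT.node 247 (BT.leaf cJ247) (BT.leaf cJ248))) (BT.node 250 (BT.node 249 (BT.leaf cJ249) (BT.leaf cJ250)) (BT.leaf cJ251))) (BT.node 254 (BT.node 253 (BT.node 252 (BT.leaf cJ252) (BT.leaf cJ253)) (BT.leaf cJ254)) (BT.node 256 (BT.node 255 (BT.leaf cJ255)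 (BT.leaf cJ256)) (BT.leaf cJ257)))) (BT.node 263 (BT.node 260 (BT.node 259 (BT.node 258 (BT.leaf cJ258) (BT.leaf cJ259)) (BT.leaf cJ260)) (BT.node 262 (BT.node 261 (BT.leaf cJ261) (BT.leaf cJ262)) (BT.leaf cJ263))) (BT.node 266 (BT.node 265 (BT.node 264 (BT.leaf cJ264) (BT.leaf cJ265)) (BT.leaf cJ266)) (BT.node 268 (BT.node 267 (BT.leaf cJ267) (BT.leaf cJ268)) (BT.leaf cJ269))))) (BT.node 281 (BT.node 275 (BT.node 272 (BT.node 271 (BT.node 270 (BT.leaf cJ270) (BT.leaf cJ271)) (BT.leaf cJ272)) (BT.node 274 (BT.node 273 (BT.leaf cJ273) (BT.leaf cJ274)) (BT.leaf cJ275))) (BT.node 278 (BT.node 277 (BT.node 276 (BT.leaf cJ276) (BT.leaf cJ277)) (BT.leaf cJ278)) (BT.node 280 (BT.node 279 (BT.leaf cJ279) (BT.leaf cJ280)) (BT.leaf cJ281)))) (BT.node 287 (BT.node 284 (BT.node 283 (BT.node 282 (BT.leaf cJ282) (BT.leaf cJ283)) (BT.leaf cJ284))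 (BT.node 286 (BT.node 285 (BT.leaf cJ285) (BT.leaf cJ286)) (BT.leaf cJ287))) (BT.node 290 (BT.node 289 (BT.node 288 (BT.leaf cJ288) (BT.leaf cJ289)) (BT.leaf cJ290)) (BT.node 292 (BT.node 291 (BT.leaf cJ291) (BT.leaf cJ292)) (BT.leaf cJ293))))))) (BT.node 342 (BT.node 318 (BT.node 306 (BT.node 300 (BT.node 297 (BT.node 295 (BT.node 294 (BT.leaf cJ294) (BT.leaf cJ295)) (BT.node 296 (BT.leaf cJ296) (BT.leaf cJ297))) (BT.node 299 (BT.node 298 (BT.leaf cJ298) (BT.leaf cJ299)) (BT.leaf cJ300))) (BT.node 303 (BT.node 302 (BT.node 301 (BT.leaf cJ301) (BT.leaf cJ302)) (BT.leaf cJ303)) (BT.node 305 (BT.node 304 (BT.leaf cJ304) (BT.leaf cJ305)) (BT.leaf cJ306)))) (BT.node 312 (BT.node 309 (BT.node 308 (BT.node 307 (BT.leaf cJ307) (BT.leaf cJ308)) (BT.leaf cJ309)) (BT.node 311 (BT.node 310 (BT.leaf cJ310) (BT.leaf cJ311)) (BT.leaf cJ312)))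 (BT.node 315 (BT.node 314 (BT.node 313 (BT.leaf cJ313) (BT.leaf cJ314)) (BT.leaf cJ315)) (BT.node 317 (BT.node 316 (BT.leaf cJ316) (BT.leaf cJ317)) (BT.leaf cJ318))))) (BT.node 330 (BT.node 324 (BT.node 321 (BT.node 320 (BT.node 319 (BT.leaf cJ319) (BT.leaf cJ320)) (BT.leaf cJ321)) (BT.node 323 (BT.node 322 (BT.leaf cJ322) (BT.leaf cJ323)) (BT.leaf cJ324))) (BT.node 327 (BT.node 326 (BT.node 325 (BT.leaf cJ325) (BT.leaf cJ326)) (BT.leaf cJ327)) (BT.node 329 (BT.node 328 (BT.leaf cJ328) (BT.leaf cJ329)) (BT.leaf cJ330)))) (BT.node 336 (BT.node 333 (BT.node 332 (BT.node 331 (BT.leaf cJ331) (BT.leaf cJ332)) (BT.leaf cJ333)) (BT.node 335 (BT.node 334 (BT.leaf cJ334) (BT.leaf cJ335)) (BT.leaf cJ336))) (BT.node 339 (BT.node 338 (BT.node 337 (BT.leaf cJ337) (BT.leaf cJ338)) (BT.leaf cJ339)) (BT.node 341 (BT.node 340 (BT.leaf cJ340) (BT.leaf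 cJ341)) (BT.leaf cJ342)))))) (BT.node 366 (BT.node 354 (BT.node 348 (BT.node 345 (BT.node 344 (BT.node 343 (BT.leaf cJ343) (BT.leaf cJ344)) (BT.leaf cJ345)) (BT.node 347 (BT.node 346 (BT.leaf cJ346) (BT.leaf cJ347)) (BT.leaf cJ348))) (BT.node 351 (BT.node 350 (BT.node 349 (BT.leaf cJ349) (BT.leaf cJ350)) (BT.leaf cJ351)) (BT.node 353 (BT.node 352 (BT.leaf cJ352) (BT.leaf cJ353)) (BT.leaf cJ354)))) (BT.node 360 (BT.node 357 (BT.node 356 (BT.node 355 (BT.leaf cJ355) (BT.leaf cJ356)) (BT.leaf cJ357)) (BT.node 359 (BT.node 358 (BT.leaf cJ358) (BT.leaf cJ359)) (BT.leaf cJ360))) (BT.node 363 (BT.node 362 (BT.node 361 (BT.leaf cJ361) (BT.leaf cJ362)) (BT.leaf cJ363)) (BT.node 365 (BT.node 364 (BT.leaf cJ364) (BT.leaf cJ365)) (BT.leaf cJ366))))) (BT.node 378 (BT.node 372 (BT.node 369 (BT.node 368 (BT.node 367 (BT.leaf cJ367) (BT.leaf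 cJ368)) (BT.leaf cJ369)) (BT.node 371 (BT.node 370 (BT.leaf cJ370) (BT.leaf cJ371)) (BT.leaf cJ372))) (BT.node 375 (BT.node 374 (BT.node 373 (BT.leaf cJ373) (BT.leaf cJ374)) (BT.leaf cJ375)) (BT.node 377 (BT.node 376 (BT.leaf cJ376) (BT.leaf cJ377)) (BT.leaf cJ378)))) (BT.node 384 (BT.node 381 (BT.node 380 (BT.node 379 (BT.leaf cJ379) (BT.leaf cJ380)) (BT.leaf cJ381)) (BT.node 383 (BT.node 382 (BT.leaf cJ382) (BT.leaf cJ383)) (BT.leaf cJ384))) (BT.node 387 (BT.node 386 (BT.node 385 (BT.leaf cJ385) (BT.leaf cJ386)) (BT.leaf cJ387)) (BT.node 389 (BT.node 388 (BT.leaf cJ388) (BT.leaf cJ389)) (BT.leaf cJ390))))))))) (BT.node 585 (BT.node 488 (BT.node 439 (BT.node 415 (BT.node 403 (BT.node 397 (BT.node 394 (BT.node 392 (BT.node 391 (BT.leaf cJ391) (BT.leaf cJ392)) (BT.node 393 (BT.leaf cJ393) (BT.leaf cJ394))) (BT.node 396 (BT.node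 395 (BT.leaf cJ395) (BT.leaf cJ396)) (BT.leaf cJ397))) (BT.node 400 (BT.node 399 (BT.node 398 (BT.leaf cJ398) (BT.leaf cJ399)) (BT.leaf cJ400)) (BT.node 402 (BT.node 401 (BT.leaf cJ401) (BT.leaf cJ402)) (BT.leaf cJ403)))) (BT.node 409 (BT.node 406 (BT.node 405 (BT.node 404 (BT.leaf cJ404) (BT.leaf cJ405)) (BT.leaf cJ406)) (BT.node 408 (BT.node 407 (BT.leaf cJ407) (BT.leaf cJ408)) (BT.leaf cJ409))) (BT.node 412 (BT.node 411 (BT.node 410 (BT.leaf cJ410) (BT.leaf cJ411)) (BT.leaf cJ412)) (BT.node 414 (BT.node 413 (BT.leaf cJ413) (BT.leaf cJ414)) (BT.leaf cJ415))))) (BT.node 427 (BT.node 421 (BT.node 418 (BT.node 417 (BT.node 416 (BT.leaf cJ416) (BT.leaf cJ417)) (BT.leaf cJ418)) (BT.node 420 (BT.node 419 (BT.leaf cJ419) (BT.leaf cJ420)) (BT.leaf cJ421))) (BT.node 424 (BT.node 423 (BT.node 422 (BT.leaf cJ422) (BT.leaf cJ423)) (BT.leaf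 cJ424)) (BT.node 426 (BT.node 425 (BT.leaf cJ425) (BT.leaf cJ426)) (BT.leaf cJ427)))) (BT.node 433 (BT.node 430 (BT.node 429 (BT.node 428 (BT.leaf cJ428) (BT.leaf cJ429)) (BT.leaf cJ430)) (BT.node 432 (BT.node 431 (BT.leaf cJ431) (BT.leaf cJ432)) (BT.leaf cJ433))) (BT.node 436 (BT.node 435 (BT.node 434 (BT.leaf cJ434) (BT.leaf cJ435)) (BT.leaf cJ436)) (BT.node 438 (BT.node 437 (BT.leaf cJ437) (BT.leaf cJ438)) (BT.leaf cJ439)))))) (BT.node 464 (BT.node 452 (BT.node 446 (BT.node 443 (BT.node 441 (BT.node 440 (BT.leaf cJ440) (BT.leaf cJ441)) (BT.node 442 (BT.leaf cJ442) (BT.leaf cJ443))) (BT.node 445 (BT.node 444 (BT.leaf cJ444) (BT.leaf cJ445)) (BT.leaf cJ446))) (BT.node 449 (BT.node 448 (BT.node 447 (BT.leaf cJ447) (BT.leaf cJ448)) (BT.leaf cJ449)) (BT.node 451 (BT.node 450 (BT.leaf cJ450) (BT.leaf cJ451)) (BT.leaf cJ452)))) (BT.node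 458 (BT.node 455 (BT.node 454 (BT.node 453 (BT.leaf cJ453) (BT.leaf cJ454)) (BT.leaf cJ455)) (BT.node 457 (BT.node 456 (BT.leaf cJ456) (BT.leaf cJ457)) (BT.leaf cJ458))) (BT.node 461 (BT.node 460 (BT.node 459 (BT.leaf cJ459) (BT.leaf cJ460)) (BT.leaf cJ461)) (BT.node 463 (BT.node 462 (BT.leaf cJ462) (BT.leaf cJ463)) (BT.leaf cJ464))))) (BT.node 476 (BT.node 470 (BT.node 467 (BT.node 466 (BT.node 465 (BT.leaf cJ465) (BT.leaf cJ466)) (BT.leaf cJ467)) (BT.node 469 (BT.node 468 (BT.leaf cJ468) (BT.leaf cJ469)) (BT.leaf cJ470))) (BT.node 473 (BT.node 472 (BT.node 471 (BT.leaf cJ471) (BT.leaf cJ472)) (BT.leaf cJ473)) (BT.node 475 (BT.node 474 (BT.leaf cJ474) (BT.leaf cJ475)) (BT.leaf cJ476)))) (BT.node 482 (BT.node 479 (BT.node 478 (BT.node 477 (BT.leaf cJ477) (BT.leaf cJ478)) (BT.leaf cJ479)) (BT.node 481 (BT.node 480 (BT.leaf cJ480)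 (BT.leaf cJ481)) (BT.leaf cJ482))) (BT.node 485 (BT.node 484 (BT.node 483 (BT.leaf cJ483) (BT.leaf cJ484)) (BT.leaf cJ485)) (BT.node 487 (BT.node 486 (BT.leaf cJ486) (BT.leaf cJ487)) (BT.leaf cJ488))))))) (BT.node 537 (BT.node 513 (BT.node 501 (BT.node 495 (BT.node 492 (BT.node 490 (BT.node 489 (BT.leaf cJ489) (BT.leaf cJ490)) (BT.node 491 (BT.leaf cJ491) (BT.leaf cJ492))) (BT.node 494 (BT.node 493 (BT.leaf cJ493) (BT.leaf cJ494)) (BT.leaf cJ495))) (BT.node 498 (BT.node 497 (BT.node 496 (BT.leaf cJ496) (BT.leaf cJ497)) (BT.leaf cJ498)) (BT.node 500 (BT.node 499 (BT.leaf cJ499) (BT.leaf cJ500)) (BT.leaf cJ501)))) (BT.node 507 (BT.node 504 (BT.node 503 (BT.node 502 (BT.leaf cJ502) (BT.leaf cJ503)) (BT.leaf cJ504)) (BT.node 506 (BT.node 505 (BT.leaf cJ505) (BT.leaf cJ506)) (BT.leaf cJ507))) (BT.node 510 (BT.node 509 (BT.node 508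 (BT.leaf cJ508) (BT.leaf cJ509)) (BT.leaf cJ510)) (BT.node 512 (BT.node 511 (BT.leaf cJ511) (BT.leaf cJ512)) (BT.leaf cJ513))))) (BT.node 525 (BT.node 519 (BT.node 516 (BT.node 515 (BT.node 514 (BT.leaf cJ514) (BT.leaf cJ515)) (BT.leaf cJ516)) (BT.node 518 (BT.node 517 (BT.leaf cJ517) (BT.leaf cJ518)) (BT.leaf cJ519))) (BT.node 522 (BT.node 521 (BT.node 520 (BT.leaf cJ520) (BT.leaf cJ521)) (BT.leaf cJ522)) (BT.node 524 (BT.node 523 (BT.leaf cJ523) (BT.leaf cJ524)) (BT.leaf cJ525)))) (BT.node 531 (BT.node 528 (BT.node 527 (BT.node 526 (BT.leaf cJ526) (BT.leaf cJ527)) (BT.leaf cJ528)) (BT.node 530 (BT.node 529 (BT.leaf cJ529) (BT.leaf cJ530)) (BT.leaf cJ531))) (BT.node 534 (BT.node 533 (BT.node 532 (BT.leaf cJ532) (BT.leaf cJ533)) (BT.leaf cJ534)) (BT.node 536 (BT.node 535 (BT.leaf cJ535) (BT.leaf cJ536)) (BT.leaf cJ537)))))) (BT.node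 561 (BT.node 549 (BT.node 543 (BT.node 540 (BT.node 539 (BT.node 538 (BT.leaf cJ538) (BT.leaf cJ539)) (BT.leaf cJ540)) (BT.node 542 (BT.node 541 (BT.leaf cJ541) (BT.leaf cJ542)) (BT.leaf cJ543))) (BT.node 546 (BT.node 545 (BT.node 544 (BT.leaf cJ544) (BT.leaf cJ545)) (BT.leaf cJ546)) (BT.node 548 (BT.node 547 (BT.leaf cJ547) (BT.leaf cJ548)) (BT.leaf cJ549)))) (BT.node 555 (BT.node 552 (BT.node 551 (BT.node 550 (BT.leaf cJ550) (BT.leaf cJ551)) (BT.leaf cJ552)) (BT.node 554 (BT.node 553 (BT.leaf cJ553) (BT.leaf cJ554)) (BT.leaf cJ555))) (BT.node 558 (BT.node 557 (BT.node 556 (BT.leaf cJ556) (BT.leaf cJ557)) (BT.leaf cJ558)) (BT.node 560 (BT.node 559 (BT.leaf cJ559) (BT.leaf cJ560)) (BT.leaf cJ561))))) (BT.node 573 (BT.node 567 (BT.node 564 (BT.node 563 (BT.node 562 (BT.leaf cJ562) (BT.leaf cJ563)) (BT.leaf cJ564)) (BT.node 566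 (BT.node 565 (BT.leaf cJ565) (BT.leaf cJ566)) (BT.leaf cJ567))) (BT.node 570 (BT.node 569 (BT.node 568 (BT.leaf cJ568) (BT.leaf cJ569)) (BT.leaf cJ570)) (BT.node 572 (BT.node 571 (BT.leaf cJ571) (BT.leaf cJ572)) (BT.leaf cJ573)))) (BT.node 579 (BT.node 576 (BT.node 575 (BT.node 574 (BT.leaf cJ574) (BT.leaf cJ575)) (BT.leaf cJ576)) (BT.node 578 (BT.node 577 (BT.leaf cJ577) (BT.leaf cJ578)) (BT.leaf cJ579))) (BT.node 582 (BT.node 581 (BT.node 580 (BT.leaf cJ580) (BT.leaf cJ581)) (BT.leaf cJ582)) (BT.node 584 (BT.node 583 (BT.leaf cJ583) (BT.leaf cJ584)) (BT.leaf cJ585)))))))) (BT.node 683 (BT.node 634 (BT.node 610 (BT.node 598 (BT.node 592 (BT.node 589 (BT.node 587 (BT.node 586 (BT.leaf cJ586) (BT.leaf cJ587)) (BT.node 588 (BT.leaf cJ588) (BT.leaf cJ589))) (BT.node 591 (BT.node 590 (BT.leaf cJ590) (BT.leaf cJ591)) (BT.leaf cJ592)))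 (BT.node 595 (BT.node 594 (BT.node 593 (BT.leaf cJ593) (BT.leaf cJ594)) (BT.leaf cJ595)) (BT.node 597 (BT.node 596 (BT.leaf cJ596) (BT.leaf cJ597)) (BT.leaf cJ598)))) (BT.node 604 (BT.node 601 (BT.node 600 (BT.node 599 (BT.leaf cJ599) (BT.leaf cJ600)) (BT.leaf cJ601)) (BT.node 603 (BT.node 602 (BT.leaf cJ602) (BT.leaf cJ603)) (BT.leaf cJ604))) (BT.node 607 (BT.node 606 (BT.node 605 (BT.leaf cJ605) (BT.leaf cJ606)) (BT.leaf cJ607)) (BT.node 609 (BT.node 608 (BT.leaf cJ608) (BT.leaf cJ609)) (BT.leaf cJ610))))) (BT.node 622 (BT.node 616 (BT.node 613 (BT.node 612 (BT.node 611 (BT.leaf cJ611) (BT.leaf cJ612)) (BT.leaf cJ613)) (BT.node 615 (BT.node 614 (BT.leaf cJ614) (BT.leaf cJ615)) (BT.leaf cJ616))) (BT.node 619 (BT.node 618 (BT.node 617 (BT.leaf cJ617) (BT.leaf cJ618)) (BT.leaf cJ619)) (BT.node 621 (BT.node 620 (BT.leaf cJ620) (BT.leaf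 cJ621)) (BT.leaf cJ622)))) (BT.node 628 (BT.node 625 (BT.node 624 (BT.node 623 (BT.leaf cJ623) (BT.leaf cJ624)) (BT.leaf cJ625)) (BT.node 627 (BT.node 626 (BT.leaf cJ626) (BT.leaf cJ627)) (BT.leaf cJ628))) (BT.node 631 (BT.node 630 (BT.node 629 (BT.leaf cJ629) (BT.leaf cJ630)) (BT.leaf cJ631)) (BT.node 633 (BT.node 632 (BT.leaf cJ632) (BT.leaf cJ633)) (BT.leaf cJ634)))))) (BT.node 659 (BT.node 647 (BT.node 641 (BT.node 638 (BT.node 636 (BT.node 635 (BT.leaf cJ635) (BT.leaf cJ636)) (BT.node 637 (BT.leaf cJ637) (BT.leaf cJ638))) (BT.node 640 (BT.node 639 (BT.leaf cJ639) (BT.leaf cJ640)) (BT.leaf cJ641))) (BT.node 644 (BT.node 643 (BT.node 642 (BT.leaf cJ642) (BT.leaf cJ643)) (BT.leaf cJ644)) (BT.node 646 (BT.node 645 (BT.leaf cJ645) (BT.leaf cJ646)) (BT.leaf cJ647)))) (BT.node 653 (BT.node 650 (BT.node 649 (BT.node 648 (BT.leaf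 cJ648) (BT.leaf cJ649)) (BT.leaf cJ650)) (BT.node 652 (BT.node 651 (BT.leaf cJ651) (BT.leaf cJ652)) (BT.leaf cJ653))) (BT.node 656 (BT.node 655 (BT.node 654 (BT.leaf cJ654) (BT.leaf cJ655)) (BT.leaf cJ656)) (BT.node 658 (BT.node 657 (BT.leaf cJ657) (BT.leaf cJ658)) (BT.leaf cJ659))))) (BT.node 671 (BT.node 665 (BT.node 662 (BT.node 661 (BT.node 660 (BT.leaf cJ660) (BT.leaf cJ661)) (BT.leaf cJ662)) (BT.node 664 (BT.node 663 (BT.leaf cJ663) (BT.leaf cJ664)) (BT.leaf cJ665))) (BT.node 668 (BT.node 667 (BT.node 666 (BT.leaf cJ666) (BT.leaf cJ667)) (BT.leaf cJ668)) (BT.node 670 (BT.node 669 (BT.leaf cJ669) (BT.leaf cJ670)) (BT.leaf cJ671)))) (BT.node 677 (BT.node 674 (BT.node 673 (BT.node 672 (BT.leaf cJ672) (BT.leaf cJ673)) (BT.leaf cJ674)) (BT.node 676 (BT.node 675 (BT.leaf cJ675) (BT.leaf cJ676)) (BT.leaf cJ677))) (BT.node 680 (BT.node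 679 (BT.node 678 (BT.leaf cJ678) (BT.leaf cJ679)) (BT.leaf cJ680)) (BT.node 682 (BT.node 681 (BT.leaf cJ681) (BT.leaf cJ682)) (BT.leaf cJ683))))))) (BT.node 732 (BT.node 708 (BT.node 696 (BT.node 690 (BT.node 687 (BT.node 685 (BT.node 684 (BT.leaf cJ684) (BT.leaf cJ685)) (BT.node 686 (BT.leaf cJ686) (BT.leaf cJ687))) (BT.node 689 (BT.node 688 (BT.leaf cJ688) (BT.leaf cJ689)) (BT.leaf cJ690))) (BT.node 693 (BT.node 692 (BT.node 691 (BT.leaf cJ691) (BT.leaf cJ692)) (BT.leaf cJ693)) (BT.node 695 (BT.node 694 (BT.leaf cJ694) (BT.leaf cJ695)) (BT.leaf cJ696)))) (BT.node 702 (BT.node 699 (BT.node 698 (BT.node 697 (BT.leaf cJ697) (BT.leaf cJ698)) (BT.leaf cJ699)) (BT.node 701 (BT.node 700 (BT.leaf cJ700) (BT.leaf cJ701)) (BT.leaf cJ702))) (BT.node 705 (BT.node 704 (BT.node 703 (BT.leaf cJ703) (BT.leaf cJ704)) (BT.leaf cJ705)) (BT.node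 707 (BT.node 706 (BT.leaf cJ706) (BT.leaf cJ707)) (BT.leaf cJ708))))) (BT.node 720 (BT.node 714 (BT.node 711 (BT.node 710 (BT.node 709 (BT.leaf cJ709) (BT.leaf cJ710)) (BT.leaf cJ711)) (BT.node 713 (BT.node 712 (BT.leaf cJ712) (BT.leaf cJ713)) (BT.leaf cJ714))) (BT.node 717 (BT.node 716 (BT.node 715 (BT.leaf cJ715) (BT.leaf cJ716)) (BT.leaf cJ717)) (BT.node 719 (BT.node 718 (BT.leaf cJ718) (BT.leaf cJ719)) (BT.leaf cJ720)))) (BT.node 726 (BT.node 723 (BT.node 722 (BT.node 721 (BT.leaf cJ721) (BT.leaf cJ722)) (BT.leaf cJ723)) (BT.node 725 (BT.node 724 (BT.leaf cJ724) (BT.leaf cJ725)) (BT.leaf cJ726))) (BT.node 729 (BT.node 728 (BT.node 727 (BT.leaf cJ727) (BT.leaf cJ728)) (BT.leaf cJ729)) (BT.node 731 (BT.node 730 (BT.leaf cJ730) (BT.leaf cJ731)) (BT.leaf cJ732)))))) (BT.node 756 (BT.node 744 (BT.node 738 (BT.node 735 (BT.node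 734 (BT.node 733 (BT.leaf cJ733) (BT.leaf cJ734)) (BT.leaf cJ735)) (BT.node 737 (BT.node 736 (BT.leaf cJ736) (BT.leaf cJ737)) (BT.leaf cJ738))) (BT.node 741 (BT.node 740 (BT.node 739 (BT.leaf cJ739) (BT.leaf cJ740)) (BT.leaf cJ741)) (BT.node 743 (BT.node 742 (BT.leaf cJ742) (BT.leaf cJ743)) (BT.leaf cJ744)))) (BT.node 750 (BT.node 747 (BT.node 746 (BT.node 745 (BT.leaf cJ745) (BT.leaf cJ746)) (BT.leaf cJ747)) (BT.node 749 (BT.node 748 (BT.leaf cJ748) (BT.leaf cJ749)) (BT.leaf cJ750))) (BT.node 753 (BT.node 752 (BT.node 751 (BT.leaf cJ751) (BT.leaf cJ752)) (BT.leaf cJ753)) (BT.node 755 (BT.node 754 (BT.leaf cJ754) (BT.leaf cJ755)) (BT.leaf cJ756))))) (BT.node 768 (BT.node 762 (BT.node 759 (BT.node 758 (BT.node 757 (BT.leaf cJ757) (BT.leaf cJ758)) (BT.leaf cJ759)) (BT.node 761 (BT.node 760 (BT.leaf cJ760) (BT.leaf cJ761)) (BT.leaf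 cJ762))) (BT.node 765 (BT.node 764 (BT.node 763 (BT.leaf cJ763) (BT.leaf cJ764)) (BT.leaf cJ765)) (BT.node 767 (BT.node 766 (BT.leaf cJ766) (BT.leaf cJ767)) (BT.leaf cJ768)))) (BT.node 774 (BT.node 771 (BT.node 770 (BT.node 769 (BT.leaf cJ769) (BT.leaf cJ770)) (BT.leaf cJ771)) (BT.node 773 (BT.node 772 (BT.leaf cJ772) (BT.leaf cJ773)) (BT.leaf cJ774))) (BT.node 777 (BT.node 776 (BT.node 775 (BT.leaf cJ775) (BT.leaf cJ776)) (BT.leaf cJ777)) (BT.node 779 (BT.node 778 (BT.leaf cJ778) (BT.leaf cJ779)) (BT.leaf cJ780))))))))))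
/-- parent chunks -/
def parCT : BT ℕ := (BT.node 35 (BT.node 17 (BT.node 8 (BT.node 4 (BT.node 2 (BT.node 1 (BT.node 0 (BT.leaf cP0) (BT.leaf cP1)) (BT.leaf cP2)) (BT.node 3 (BT.leaf cP3) (BT.leaf cP4))) (BT.node 6 (BT.node 5 (BT.leaf cP5) (BT.leaf cP6)) (BT.node 7 (BT.leaf cP7) (BT.leaf cP8)))) (BT.node 13 (BT.node 11 (BT.node 10 (BT.node 9 (BT.leaf cP9) (BT.leaf cP10)) (BT.leaf cP11)) (BT.node 12 (BT.leaf cP12) (BT.leaf cP13))) (BT.node 15 (BT.node 14 (BT.leaf cP14) (BT.leaf cP15)) (BT.node 16 (BT.leaf cP16) (BT.leaf cP17))))) (BT.node 26 (BT.node 22 (BT.node 20 (BT.node 19 (BT.node 18 (BT.leaf cP18) (BT.leaf cP19)) (BT.leaf cP20)) (BT.node 21 (BT.leaf cP21) (BT.leaf cP22))) (BT.node 24 (BT.node 23 (BT.leaf cP23) (BT.leaf cP24)) (BT.node 25 (BT.leaf cP25) (BT.leaf cP26)))) (BT.node 31 (BT.node 29 (BT.node 28 (BT.node 27 (BT.leaf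 cP27) (BT.leaf cP28)) (BT.leaf cP29)) (BT.node 30 (BT.leaf cP30) (BT.leaf cP31))) (BT.node 33 (BT.node 32 (BT.leaf cP32) (BT.leaf cP33)) (BT.node 34 (BT.leaf cP34) (BT.leaf cP35)))))) (BT.node 53 (BT.node 44 (BT.node 40 (BT.node 38 (BT.node 37 (BT.node 36 (BT.leaf cP36) (BT.leaf cP37)) (BT.leaf cP38)) (BT.node 39 (BT.leaf cP39) (BT.leaf cP40))) (BT.node 42 (BT.node 41 (BT.leaf cP41) (BT.leaf cP42)) (BT.node 43 (BT.leaf cP43) (BT.leaf cP44)))) (BT.node 49 (BT.node 47 (BT.node 46 (BT.node 45 (BT.leaf cP45) (BT.leaf cP46)) (BT.leaf cP47)) (BT.node 48 (BT.leaf cP48) (BT.leaf cP49))) (BT.node 51 (BT.node 50 (BT.leaf cP50) (BT.leaf cP51)) (BT.node 52 (BT.leaf cP52) (BT.leaf cP53))))) (BT.node 62 (BT.node 58 (BT.node 56 (BT.node 55 (BT.node 54 (BT.leaf cP54) (BT.leaf cP55)) (BT.leaf cP56)) (BT.node 57 (BT.leaf cP57) (BT.leaf cP58)))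 (BT.node 60 (BT.node 59 (BT.leaf cP59) (BT.leaf cP60)) (BT.node 61 (BT.leaf cP61) (BT.leaf cP62)))) (BT.node 66 (BT.node 64 (BT.node 63 (BT.leaf cP63) (BT.leaf cP64)) (BT.node 65 (BT.leaf cP65) (BT.leaf cP66))) (BT.node 68 (BT.node 67 (BT.leaf cP67) (BT.leaf cP68)) (BT.node 69 (BT.leaf cP69) (BT.leaf cP70)))))))
/-- the certificate -/
def data : Data where
  k := 10
  N := 36015
  W := 31
  MW := 2147483648
  B := 65536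
  CH := 512
  NCH := 71
  colE := colET
  JW := 64
  MJ := 18446744073709551616
  A := 1048576
  colJ := colJT
  PW := 25
  MP := 33554432
  parC := parCT
  inv := (BT.node 5 (BT.node 2 (BT.node 1 (BT.node 0 (BT.leaf 1) (BT.leaf 0)) (BT.leaf 3)) (BT.node 4 (BT.node 3 (BT.leaf 2) (BT.leaf 5)) (BT.leaf 4))) (BT.node 8 (BT.node 7 (BT.node 6 (BT.leaf 7) (BT.leaf 6)) (BT.leaf 9)) (BT.node 9 (BT.leaf 8) (BT.leaf 10))))
  rel := relT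
  sub := subT
  fuel := 64

end Cfsg.Agent.Lib.Helper4.J2M.EHData
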