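import Cfsg.Agent.Lib.Helper28.TC2Glue
import Cfsg.Agent.Lib.Helper4.J2M.EHData
import Cfsg.Agent.Lib.Helper4.J2M.EHTable
import Cfsg.Agent.Lib.Helper4.J2M.Defs
set_option autoImplicit false
set_option maxRecDepth 100000

namespace Cfsg.Agent.Lib.Helper4.J2M.EHLink
open Cfsg.Agent.Lib.Helper28.TC2Upper Cfsg.Agent.Lib.Helper28.TC2Lower Cfsg.Agent.Lib.Helper28.TC2Glue Cfsg.Agent.Lib.Helper4.J2M.EHData Cfsg.Agent.Lib.Helper4.J2M.EHTable

/-- all relators in list form -/
abbrev relWords : List (List (Cfsg.Agent.Lib.Helper4.J2M.GH × Bool)) := Cfsg.Agent.Lib.Helper4.J2M.LvH.relWords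

/-- the subgroup generators in list form -/
def subWords : List (List (Cfsg.Agent.Lib.Helper4.J2M.GH × Bool)) := [
  [(.d, true)],
  [(.v, true)] ]

/-- coding of the letters -/
def lw : Cfsg.Agent.Lib.Helper4.J2M.GH × Bool → ℕ
  | (.c, true) => 0
  | (.c, false) => 1
  | (.d, true) => 2
  | (.d, false) => 3
  | (.e, true) => 4
  | (.e, false) => 5
  | (.t, true) => 6
  | (.t, false) => 7
  | (.v, true) => 8
  | (.v, false) => 9

/-- decoding of the letters -/
def dec : ℕ → Cfsg.Agent.Lib.Helper4.J2M.GH × Bool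
  | 0 => (.c, true)
  | 1 => (.c, false)
  | 2 => (.d, true)
  | 3 => (.d, false)
  | 4 => (.e, true)
  | 5 => (.e, false)
  | 6 => (.t, true)
  | 7 => (.t, false)
  | 8 => (.v, true)
  | _ => (.v, false)

/-- the relators -/
abbrev rels : Set (FreeGroup Cfsg.Agent.Lib.Helper4.J2M.GH) := {r | ∃ L ∈ relWords, r = FreeGroup.mk L}

/-- the subgroup generators -/
abbrev S : Set (FreeGroup Cfsg.Agent.Lib.Helper4.J2M.GH) := {FreeGroup.of (Cfsg.Agent.Lib.Helper4.J2M.GH.d), FreeGroup.of (Cfsg.Agent.Lib.Helper4.J2M.GH.v)}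

theorem hS : ∀ s, s ∈ S ↔ ∃ L ∈ subWords, s = FreeGroup.mk L := by
  intro s
  simp only [S, subWords, Set.mem_insert_iff, Set.mem_singleton_iff, List.mem_cons, List.not_mem_nil,
    or_false, exists_eq_or_imp, exists_eq_left]
  rfl

theorem relD_ok : BT.all (fun t => decide (wfWord data t ∧ ∃ L ∈ relWords, t.2.1 = pathOf lw L)) data.rel = true := by
  decide +kernel

theorem subD_ok : BT.all (fun t => decide (wfWord data t ∧ ∃ L ∈ subWords, t.2.1 = pathOf lw L)) data.sub = true := by
  decide +kernel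

theorem link : Link rels S relWords subWords lw dec data table where
  hrels := fun _ => Iff.rfl
  hS := hS
  lwk := by rintro ⟨x, b⟩; cases x <;> cases b <;> decide
  lwinv := by intro x; cases x <;> decide +kernel
  d1 := by intro l hl; have : l < 10 := hl; interval_cases l <;> rfl
  d2 := by intro x; cases x <;> rfl
  d3 := by intro x; cases x <;> exact Or.inl rfl
  invk := by intro l hl; have : l < 10 := hl; interval_cases l <;> decide +kernel
  relD := BT.All_of_all (fun _ h => of_decide_eq_true h) _ relD_ok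
  subD := BT.All_of_all (fun _ h => of_decide_eq_true h) _ subD_ok
  Tk := rfl
  Tinv := fun _ => rfl

end Cfsg.Agent.Lib.Helper4.J2M.EHLink
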