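import Cfsg.Agent.Lib.Helper28.TC2Glue
import Cfsg.Agent.Lib.Helper28.TC2Range
import Cfsg.Agent.Lib.Helper4.J2M.EHLink
import Cfsg.Agent.Lib.Helper4.J2M.EHM0
import Cfsg.Agent.Lib.Helper4.J2M.EHM1
import Cfsg.Agent.Lib.Helper4.J2M.EHU0
import Cfsg.Agent.Lib.Helper4.J2M.EHU1
import Cfsg.Agent.Lib.Helper4.J2M.EHU2

set_option autoImplicit false
set_option maxRecDepth 100000
open Cfsg

namespace Cfsg.Agent.Lib.Helper4.J2M.EHMain
open Cfsg.Agent.Lib.Helper28.TC2Upper Cfsg.Agent.Lib.Helper28.TC2Lower Cfsg.Agent.Lib.Helper28.TC2Glue Cfsg.Agent.Lib.Helper28.TC2Range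
open Cfsg.Agent.Lib.Helper4.J2M.EHData Cfsg.Agent.Lib.Helper4.J2M.EHTable Cfsg.Agent.Lib.Helper4.J2M.EHLink

theorem hchk : ∀ v, v < data.N → data.checkNode v = true := by
  intro v hv
  have hv' : v < 36015 := hv
  rcases Nat.lt_or_ge v 803 with h0 | h0
  · exact (data.checkRange_iff 0 803).mp Cfsg.Agent.Lib.Helper4.J2M.EHU0.chk0 v (by omega) (by omega)
  rcases Nat.lt_or_ge v 2069 with h1 | h1
  · exact (data.checkRange_iff 803 1266).mp Cfsg.Agent.Lib.Helper4.J2M.EHU0.chk1 v (by omega) (by omega)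
  rcases Nat.lt_or_ge v 3844 with h2 | h2
  · exact (data.checkRange_iff 2069 1775).mp Cfsg.Agent.Lib.Helper4.J2M.EHU0.chk2 v (by omega) (by omega)
  rcases Nat.lt_or_ge v 6029 with h3 | h3
  · exact (data.checkRange_iff 3844 2185).mp Cfsg.Agent.Lib.Helper4.J2M.EHU0.chk3 v (by omega) (by omega)
  rcases Nat.lt_or_ge v 9513 with h4 | h4
  · exact (data.checkRange_iff 6029 3484).mp Cfsg.Agent.Lib.Helper4.J2M.EHU0.chk4 v (by omega) (by omega)
  rcases Nat.lt_or_ge v 13591 with h5 | h5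
  · exact (data.checkRange_iff 9513 4078).mp Cfsg.Agent.Lib.Helper4.J2M.EHU1.chk5 v (by omega) (by omega)
  rcases Nat.lt_or_ge v 18412 with h6 | h6
  · exact (data.checkRange_iff 13591 4821).mp Cfsg.Agent.Lib.Helper4.J2M.EHU1.chk6 v (by omega) (by omega)
  rcases Nat.lt_or_ge v 23332 with h7 | h7
  · exact (data.checkRange_iff 18412 4920).mp Cfsg.Agent.Lib.Helper4.J2M.EHU1.chk7 v (by omega) (by omega)
  rcases Nat.lt_or_ge v 28441 with h8 | h8
  · exact (data.checkRange_iff 23332 5109).mp Cfsg.Agent.Lib.Helper4.J2M.EHU1.chk8 v (by omega) (by omega)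
  rcases Nat.lt_or_ge v 33762 with h9 | h9
  · exact (data.checkRange_iff 28441 5321).mp Cfsg.Agent.Lib.Helper4.J2M.EHU1.chk9 v (by omega) (by omega)
  exact (data.checkRange_iff 33762 2253).mp Cfsg.Agent.Lib.Helper4.J2M.EHU2.chk10 v (by omega) (by omega)

theorem hrows : ∀ v, v < data.N → Data.rowOK data v = true := by
  intro v hv
  have hv' : v < 36015 := hv
  rcases Nat.lt_or_ge v 8333 with h0 | h0
  · exact (Data.finalRange_iff data 0 8333).mp Cfsg.Agent.Lib.Helper4.J2M.EHM0.fin0 v (by omega) (by omega)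
  rcases Nat.lt_or_ge v 16666 with h1 | h1
  · exact (Data.finalRange_iff data 8333 8333).mp Cfsg.Agent.Lib.Helper4.J2M.EHM0.fin1 v (by omega) (by omega)
  rcases Nat.lt_or_ge v 24999 with h2 | h2
  · exact (Data.finalRange_iff data 16666 8333).mp Cfsg.Agent.Lib.Helper4.J2M.EHM0.fin2 v (by omega) (by omega)
  rcases Nat.lt_or_ge v 33332 with h3 | h3
  · exact (Data.finalRange_iff data 24999 8333).mp Cfsg.Agent.Lib.Helper4.J2M.EHM0.fin3 v (by omega) (by omega)
  exact (Data.finalRange_iff data 33332 2683).mp Cfsg.Agent.Lib.Helper4.J2M.EHM0.fin4 v (by omega) (by omega)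

theorem hfin : data.finalOK = true := Data.finalOK_of_rows data Cfsg.Agent.Lib.Helper4.J2M.EHM1.hlive0 (by decide) hrows

theorem pc0 : Data.countFrom data 0 36015 = 32 := Cfsg.Agent.Lib.Helper4.J2M.EHM1.cnt0

theorem hcount : data.countLive = 32 := by
  rw [Data.countLive_eq]
  exact pc0

/-- the upper bound for the index -/
theorem mainU : Finite (PresentedGroup rels ⧸ (Subgroup.closure S).map (PresentedGroup.mk rels)) ∧
    Nat.card (PresentedGroup rels ⧸ (Subgroup.closure S).map (PresentedGroup.mk rels)) ≤ 32 := by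
  have h := upper link hchk hfin
  rw [hcount] at h
  exact h

end Cfsg.Agent.Lib.Helper4.J2M.EHMain
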