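import Cfsg.Agent.Lib.Helper28.TC2Upper
import Cfsg.Agent.Lib.Helper4.J2M.EJDataC0
import Cfsg.Agent.Lib.Helper4.J2M.EJDataC1
import Cfsg.Agent.Lib.Helper4.J2M.EJDataC2
import Cfsg.Agent.Lib.Helper4.J2M.EJDataC3
import Cfsg.Agent.Lib.Helper4.J2M.EJDataC4
import Cfsg.Agent.Lib.Helper4.J2M.EJDataC5
set_option autoImplicit false
set_option maxRecDepth 100000

namespace Cfsg.Agent.Lib.Helper4.J2M.EJData
open Cfsg.Agent.Lib.Helper28.TC2Upper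

/-- relators -/
def relT : BT (ℕ × List ℕ × List ℕ) := (BT.node 90 (BT.node 45 (BT.node 22 (BT.node 11 (BT.node 5 (BT.node 2 (BT.node 1 (BT.node 0 (BT.leaf (6, [1, 7, 7, 0, 6, 6], [7, 7, 1, 6, 6, 0])) (BT.leaf (6, [3, 7, 7, 2, 6, 6], [7, 7, 3, 6, 6, 2]))) (BT.leaf (6, [5, 7, 7, 4, 6, 6], [7, 7, 5, 6, 6, 4]))) (BT.node 4 (BT.node 3 (BT.leaf (6, [7, 7, 7, 6, 6, 6], [7, 7, 7, 6, 6, 6])) (BT.leaf (6, [9, 7, 7, 8, 6, 6], [7, 7, 9, 6, 6, 8]))) (BT.leaf (6, [11, 7, 7, 10, 6, 6], [7, 7, 11, 6, 6, 10])))) (BT.node 8 (BT.node 7 (BT.node 6 (BT.leaf (6, [13, 7, 7, 12, 6, 6], [7, 7, 13, 6, 6, 12])) (BT.leaf (8, [1, 13, 13, 13, 0, 12, 12, 12], [13, 13, 13, 1, 12, 12, 12, 0]))) (BT.leaf (8, [3, 13, 13, 13, 2, 12, 12, 12], [13, 13, 13, 3, 12, 12, 12, 2]))) (BT.node 10 (BT.node 9 (BT.leaf (8, [5, 13, 13, 13, 4, 12, 12, 12], [13, 13, 13, 5, 12, 12, 12,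 4])) (BT.leaf (8, [7, 13, 13, 13, 6, 12, 12, 12], [13, 13, 13, 7, 12, 12, 12, 6]))) (BT.leaf (8, [9, 13, 13, 13, 8, 12, 12, 12], [13, 13, 13, 9, 12, 12, 12, 8]))))) (BT.node 17 (BT.node 14 (BT.node 13 (BT.node 12 (BT.leaf (8, [11, 13, 13, 13, 10, 12, 12, 12], [13, 13, 13, 11, 12, 12, 12, 10])) (BT.leaf (8, [13, 13, 13, 13, 12, 12, 12, 12], [13, 13, 13, 13, 12, 12, 12, 12]))) (BT.leaf (22, [1, 7, 13, 7, 13, 7, 13, 7, 13, 7, 13, 0, 12, 6, 12, 6, 12, 6, 12, 6, 12, 6], [7, 13, 7, 13, 7, 13, 7, 13, 7, 13, 1, 12, 6, 12, 6, 12, 6, 12, 6, 12, 6, 0]))) (BT.node 16 (BT.node 15 (BT.leaf (22, [3, 7, 13, 7, 13, 7, 13, 7, 13, 7, 13, 2, 12, 6, 12, 6, 12, 6, 12, 6, 12, 6], [7, 13, 7, 13, 7, 13, 7, 13, 7, 13, 3, 12, 6, 12, 6, 12, 6, 12, 6, 12, 6, 2])) (BT.leaf (22, [5, 7, 13, 7, 13, 7, 13, 7, 13, 7, 13, 4, 12, 6, 12, 6, 12, 6, 12, 6, 12, 6], [7, 13, 7,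 13, 7, 13, 7, 13, 7, 13, 5, 12, 6, 12, 6, 12, 6, 12, 6, 12, 6, 4]))) (BT.leaf (22, [7, 7, 13, 7, 13, 7, 13, 7, 13, 7, 13, 6, 12, 6, 12, 6, 12, 6, 12, 6, 12, 6], [7, 13, 7, 13, 7, 13, 7, 13, 7, 13, 7, 12, 6, 12, 6, 12, 6, 12, 6, 12, 6, 6])))) (BT.node 20 (BT.node 19 (BT.node 18 (BT.leaf (22, [9, 7, 13, 7, 13, 7, 13, 7, 13, 7, 13, 8, 12, 6, 12, 6, 12, 6, 12, 6, 12, 6], [7, 13, 7, 13, 7, 13, 7, 13, 7, 13, 9, 12, 6, 12, 6, 12, 6, 12, 6, 12, 6, 8])) (BT.leaf (22, [11, 7, 13, 7, 13, 7, 13, 7, 13, 7, 13, 10, 12, 6, 12, 6, 12, 6, 12, 6, 12, 6], [7, 13, 7, 13, 7, 13, 7, 13, 7, 13, 11, 12, 6, 12, 6, 12, 6, 12, 6, 12, 6, 10]))) (BT.leaf (22, [13, 7, 13, 7, 13, 7, 13, 7, 13, 7, 13, 12, 12, 6, 12, 6, 12, 6, 12, 6, 12, 6], [7, 13, 7, 13, 7, 13, 7, 13, 7, 13, 13, 12, 6, 12, 6, 12, 6, 12, 6, 12, 6, 12]))) (BT.node 21 (BT.leaf (6, [1, 5, 5, 0, 4, 4],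 [5, 5, 1, 4, 4, 0])) (BT.leaf (6, [3, 5, 5, 2, 4, 4], [5, 5, 3, 4, 4, 2])))))) (BT.node 34 (BT.node 28 (BT.node 25 (BT.node 24 (BT.node 23 (BT.leaf (6, [5, 5, 5, 4, 4, 4], [5, 5, 5, 4, 4, 4])) (BT.leaf (6, [7, 5, 5, 6, 4, 4], [5, 5, 7, 4, 4, 6]))) (BT.leaf (6, [9, 5, 5, 8, 4, 4], [5, 5, 9, 4, 4, 8]))) (BT.node 27 (BT.node 26 (BT.leaf (6, [11, 5, 5, 10, 4, 4], [5, 5, 11, 4, 4, 10])) (BT.leaf (6, [13, 5, 5, 12, 4, 4], [5, 5, 13, 4, 4, 12]))) (BT.leaf (6, [1, 9, 9, 0, 8, 8], [9, 9, 1, 8, 8, 0])))) (BT.node 31 (BT.node 30 (BT.node 29 (BT.leaf (6, [3, 9, 9, 2, 8, 8], [9, 9, 3, 8, 8, 2])) (BT.leaf (6, [5, 9, 9, 4, 8, 8], [9, 9, 5, 8, 8, 4]))) (BT.leaf (6, [7, 9, 9, 6, 8, 8], [9, 9, 7, 8, 8, 6]))) (BT.node 33 (BT.node 32 (BT.leaf (6, [9, 9, 9, 8, 8, 8], [9, 9, 9, 8, 8, 8])) (BT.leaf (6, [11, 9, 9, 10, 8, 8], [9, 9, 11, 8, 8, 10]))) (BT.leaf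 (6, [13, 9, 9, 12, 8, 8], [9, 9, 13, 8, 8, 12]))))) (BT.node 40 (BT.node 37 (BT.node 36 (BT.node 35 (BT.leaf (34, [1, 5, 7, 5, 7, 5, 7, 5, 7, 5, 7, 5, 7, 5, 7, 5, 7, 0, 6, 4, 6, 4, 6, 4, 6, 4, 6, 4, 6, 4, 6, 4, 6, 4], [5, 7, 5, 7, 5, 7, 5, 7, 5, 7, 5, 7, 5, 7, 5, 7, 1, 6, 4, 6, 4, 6, 4, 6, 4, 6, 4, 6, 4, 6, 4, 6, 4, 0])) (BT.leaf (34, [3, 5, 7, 5, 7, 5, 7, 5, 7, 5, 7, 5, 7, 5, 7, 5, 7, 2, 6, 4, 6, 4, 6, 4, 6, 4, 6, 4, 6, 4, 6, 4, 6, 4], [5, 7, 5, 7, 5, 7, 5, 7, 5, 7, 5, 7, 5, 7, 5, 7, 3, 6, 4, 6, 4, 6, 4, 6, 4, 6, 4, 6, 4, 6, 4, 6, 4, 2]))) (BT.leaf (34, [5, 5, 7, 5, 7, 5, 7, 5, 7, 5, 7, 5, 7, 5, 7, 5, 7, 4, 6, 4, 6, 4, 6, 4, 6, 4, 6, 4, 6, 4, 6, 4, 6, 4], [5, 7, 5, 7, 5, 7, 5, 7, 5, 7, 5, 7, 5, 7, 5, 7, 5, 6, 4, 6, 4, 6, 4, 6, 4, 6, 4, 6, 4, 6, 4, 6, 4, 4]))) (BT.node 39 (BT.node 38 (BT.leaf (34, [7, 5, 7, 5, 7, 5, 7, 5, 7, 5, 7, 5,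 7, 5, 7, 5, 7, 6, 6, 4, 6, 4, 6, 4, 6, 4, 6, 4, 6, 4, 6, 4, 6, 4], [5, 7, 5, 7, 5, 7, 5, 7, 5, 7, 5, 7, 5, 7, 5, 7, 7, 6, 4, 6, 4, 6, 4, 6, 4, 6, 4, 6, 4, 6, 4, 6, 4, 6])) (BT.leaf (34, [9, 5, 7, 5, 7, 5, 7, 5, 7, 5, 7, 5, 7, 5, 7, 5, 7, 8, 6, 4, 6, 4, 6, 4, 6, 4, 6, 4, 6, 4, 6, 4, 6, 4], [5, 7, 5, 7, 5, 7, 5, 7, 5, 7, 5, 7, 5, 7, 5, 7, 9, 6, 4, 6, 4, 6, 4, 6, 4, 6, 4, 6, 4, 6, 4, 6, 4, 8]))) (BT.leaf (34, [11, 5, 7, 5, 7, 5, 7, 5, 7, 5, 7, 5, 7, 5, 7, 5, 7, 10, 6, 4, 6, 4, 6, 4, 6, 4, 6, 4, 6, 4, 6, 4, 6, 4], [5, 7, 5, 7, 5, 7, 5, 7, 5, 7, 5, 7, 5, 7, 5, 7, 11, 6, 4, 6, 4, 6, 4, 6, 4, 6, 4, 6, 4, 6, 4, 6, 4, 10])))) (BT.node 43 (BT.node 42 (BT.node 41 (BT.leaf (34, [13, 5, 7, 5, 7, 5, 7, 5, 7, 5, 7, 5, 7, 5, 7, 5, 7, 12, 6, 4, 6, 4, 6, 4, 6, 4, 6, 4, 6, 4, 6, 4, 6, 4], [5, 7, 5, 7, 5, 7, 5, 7, 5, 7, 5, 7, 5, 7, 5, 7, 13, 6, 4, 6, 4,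 6, 4, 6, 4, 6, 4, 6, 4, 6, 4, 6, 4, 12])) (BT.leaf (14, [1, 7, 9, 7, 9, 7, 9, 0, 8, 6, 8, 6, 8, 6], [7, 9, 7, 9, 7, 9, 1, 8, 6, 8, 6, 8, 6, 0]))) (BT.leaf (14, [3, 7, 9, 7, 9, 7, 9, 2, 8, 6, 8, 6, 8, 6], [7, 9, 7, 9, 7, 9, 3, 8, 6, 8, 6, 8, 6, 2]))) (BT.node 44 (BT.leaf (14, [5, 7, 9, 7, 9, 7, 9, 4, 8, 6, 8, 6, 8, 6], [7, 9, 7, 9, 7, 9, 5, 8, 6, 8, 6, 8, 6, 4])) (BT.leaf (14, [7, 7, 9, 7, 9, 7, 9, 6, 8, 6, 8, 6, 8, 6], [7, 9, 7, 9, 7, 9, 7, 8, 6, 8, 6, 8, 6, 6]))))))) (BT.node 68 (BT.node 57 (BT.node 51 (BT.node 48 (BT.node 47 (BT.node 46 (BT.leaf (14, [9, 7, 9, 7, 9, 7, 9, 8, 8, 6, 8, 6, 8, 6], [7, 9, 7, 9, 7, 9, 9, 8, 6, 8, 6, 8, 6, 8])) (BT.leaf (14, [11, 7, 9, 7, 9, 7, 9, 10, 8, 6, 8, 6, 8, 6], [7, 9, 7, 9, 7, 9, 11, 8, 6, 8, 6, 8, 6, 10]))) (BT.leaf (14, [13, 7, 9, 7, 9, 7, 9, 12, 8, 6, 8, 6, 8, 6], [7, 9, 7, 9, 7, 9, 13, 8, 6, 8,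 6, 8, 6, 12]))) (BT.node 50 (BT.node 49 (BT.leaf (10, [1, 5, 9, 5, 9, 0, 8, 4, 8, 4], [5, 9, 5, 9, 1, 8, 4, 8, 4, 0])) (BT.leaf (10, [3, 5, 9, 5, 9, 2, 8, 4, 8, 4], [5, 9, 5, 9, 3, 8, 4, 8, 4, 2]))) (BT.leaf (10, [5, 5, 9, 5, 9, 4, 8, 4, 8, 4], [5, 9, 5, 9, 5, 8, 4, 8, 4, 4])))) (BT.node 54 (BT.node 53 (BT.node 52 (BT.leaf (10, [7, 5, 9, 5, 9, 6, 8, 4, 8, 4], [5, 9, 5, 9, 7, 8, 4, 8, 4, 6])) (BT.leaf (10, [9, 5, 9, 5, 9, 8, 8, 4, 8, 4], [5, 9, 5, 9, 9, 8, 4, 8, 4, 8]))) (BT.leaf (10, [11, 5, 9, 5, 9, 10, 8, 4, 8, 4], [5, 9, 5, 9, 11, 8, 4, 8, 4, 10]))) (BT.node 56 (BT.node 55 (BT.leaf (10, [13, 5, 9, 5, 9, 12, 8, 4, 8, 4], [5, 9, 5, 9, 13, 8, 4, 8, 4, 12])) (BT.leaf (10, [1, 6, 10, 6, 10, 0, 11, 7, 11, 7], [6, 10, 6, 10, 1, 11, 7, 11, 7, 0]))) (BT.leaf (10, [3, 6, 10, 6, 10, 2, 11, 7, 11, 7], [6, 10, 6, 10, 3, 11, 7, 11, 7, 2]))))) (BT.node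 63 (BT.node 60 (BT.node 59 (BT.node 58 (BT.leaf (10, [5, 6, 10, 6, 10, 4, 11, 7, 11, 7], [6, 10, 6, 10, 5, 11, 7, 11, 7, 4])) (BT.leaf (10, [7, 6, 10, 6, 10, 6, 11, 7, 11, 7], [6, 10, 6, 10, 7, 11, 7, 11, 7, 6]))) (BT.leaf (10, [9, 6, 10, 6, 10, 8, 11, 7, 11, 7], [6, 10, 6, 10, 9, 11, 7, 11, 7, 8]))) (BT.node 62 (BT.node 61 (BT.leaf (10, [11, 6, 10, 6, 10, 10, 11, 7, 11, 7], [6, 10, 6, 10, 11, 11, 7, 11, 7, 10])) (BT.leaf (10, [13, 6, 10, 6, 10, 12, 11, 7, 11, 7], [6, 10, 6, 10, 13, 11, 7, 11, 7, 12]))) (BT.leaf (16, [1, 4, 6, 4, 6, 11, 11, 11, 0, 10, 10, 10, 7, 5, 7, 5], [4, 6, 4, 6, 11, 11, 11, 1, 10, 10, 10, 7, 5, 7, 5, 0])))) (BT.node 66 (BT.node 65 (BT.node 64 (BT.leaf (16, [3, 4, 6, 4, 6, 11, 11, 11, 2, 10, 10, 10, 7, 5, 7, 5], [4, 6, 4, 6, 11, 11, 11, 3, 10, 10, 10, 7, 5, 7, 5, 2])) (BT.leaf (16, [5, 4, 6, 4, 6, 11, 11, 11, 4,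 10, 10, 10, 7, 5, 7, 5], [4, 6, 4, 6, 11, 11, 11, 5, 10, 10, 10, 7, 5, 7, 5, 4]))) (BT.leaf (16, [7, 4, 6, 4, 6, 11, 11, 11, 6, 10, 10, 10, 7, 5, 7, 5], [4, 6, 4, 6, 11, 11, 11, 7, 10, 10, 10, 7, 5, 7, 5, 6]))) (BT.node 67 (BT.leaf (16, [9, 4, 6, 4, 6, 11, 11, 11, 8, 10, 10, 10, 7, 5, 7, 5], [4, 6, 4, 6, 11, 11, 11, 9, 10, 10, 10, 7, 5, 7, 5, 8])) (BT.leaf (16, [11, 4, 6, 4, 6, 11, 11, 11, 10, 10, 10, 10, 7, 5, 7, 5], [4, 6, 4, 6, 11, 11, 11, 11, 10, 10, 10, 7, 5, 7, 5, 10])))))) (BT.node 79 (BT.node 74 (BT.node 71 (BT.node 70 (BT.node 69 (BT.leaf (16, [13, 4, 6, 4, 6, 11, 11, 11, 12, 10, 10, 10, 7, 5, 7, 5], [4, 6, 4, 6, 11, 11, 11, 13, 10, 10, 10, 7, 5, 7, 5, 12])) (BT.leaf (20, [1, 4, 8, 10, 8, 11, 9, 10, 9, 11, 0, 10, 8, 11, 8, 10, 9, 11, 9, 5], [4, 8, 10, 8, 11, 9, 10, 9, 11, 1, 10, 8, 11, 8, 10, 9, 11, 9, 5, 0]))) (BT.leaf (20,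 [3, 4, 8, 10, 8, 11, 9, 10, 9, 11, 2, 10, 8, 11, 8, 10, 9, 11, 9, 5], [4, 8, 10, 8, 11, 9, 10, 9, 11, 3, 10, 8, 11, 8, 10, 9, 11, 9, 5, 2]))) (BT.node 73 (BT.node 72 (BT.leaf (20, [5, 4, 8, 10, 8, 11, 9, 10, 9, 11, 4, 10, 8, 11, 8, 10, 9, 11, 9, 5], [4, 8, 10, 8, 11, 9, 10, 9, 11, 5, 10, 8, 11, 8, 10, 9, 11, 9, 5, 4])) (BT.leaf (20, [7, 4, 8, 10, 8, 11, 9, 10, 9, 11, 6, 10, 8, 11, 8, 10, 9, 11, 9, 5], [4, 8, 10, 8, 11, 9, 10, 9, 11, 7, 10, 8, 11, 8, 10, 9, 11, 9, 5, 6]))) (BT.leaf (20, [9, 4, 8, 10, 8, 11, 9, 10, 9, 11, 8, 10, 8, 11, 8, 10, 9, 11, 9, 5], [4, 8, 10, 8, 11, 9, 10, 9, 11, 9, 10, 8, 11, 8, 10, 9, 11, 9, 5, 8])))) (BT.node 77 (BT.node 76 (BT.node 75 (BT.leaf (20, [11, 4, 8, 10, 8, 11, 9, 10, 9, 11, 10, 10, 8, 11, 8, 10, 9, 11, 9, 5], [4, 8, 10, 8, 11, 9, 10, 9, 11, 11, 10, 8, 11, 8, 10, 9, 11, 9, 5, 10])) (BT.leaf (20, [13,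 4, 8, 10, 8, 11, 9, 10, 9, 11, 12, 10, 8, 11, 8, 10, 9, 11, 9, 5], [4, 8, 10, 8, 11, 9, 10, 9, 11, 13, 10, 8, 11, 8, 10, 9, 11, 9, 5, 12]))) (BT.leaf (24, [1, 4, 8, 10, 4, 10, 8, 10, 10, 9, 10, 10, 0, 11, 11, 8, 11, 11, 9, 11, 5, 11, 9, 5], [4, 8, 10, 4, 10, 8, 10, 10, 9, 10, 10, 1, 11, 11, 8, 11, 11, 9, 11, 5, 11, 9, 5, 0]))) (BT.node 78 (BT.leaf (24, [3, 4, 8, 10, 4, 10, 8, 10, 10, 9, 10, 10, 2, 11, 11, 8, 11, 11, 9, 11, 5, 11, 9, 5], [4, 8, 10, 4, 10, 8, 10, 10, 9, 10, 10, 3, 11, 11, 8, 11, 11, 9, 11, 5, 11, 9, 5, 2])) (BT.leaf (24, [5, 4, 8, 10, 4, 10, 8, 10, 10, 9, 10, 10, 4, 11, 11, 8, 11, 11, 9, 11, 5, 11, 9, 5], [4, 8, 10, 4, 10, 8, 10, 10, 9, 10, 10, 5, 11, 11, 8, 11, 11, 9, 11, 5, 11, 9, 5, 4]))))) (BT.node 85 (BT.node 82 (BT.node 81 (BT.node 80 (BT.leaf (24, [7, 4, 8, 10, 4, 10, 8, 10, 10, 9, 10, 10, 6, 11, 11, 8, 11, 11, 9,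 11, 5, 11, 9, 5], [4, 8, 10, 4, 10, 8, 10, 10, 9, 10, 10, 7, 11, 11, 8, 11, 11, 9, 11, 5, 11, 9, 5, 6])) (BT.leaf (24, [9, 4, 8, 10, 4, 10, 8, 10, 10, 9, 10, 10, 8, 11, 11, 8, 11, 11, 9, 11, 5, 11, 9, 5], [4, 8, 10, 4, 10, 8, 10, 10, 9, 10, 10, 9, 11, 11, 8, 11, 11, 9, 11, 5, 11, 9, 5, 8]))) (BT.leaf (24, [11, 4, 8, 10, 4, 10, 8, 10, 10, 9, 10, 10, 10, 11, 11, 8, 11, 11, 9, 11, 5, 11, 9, 5], [4, 8, 10, 4, 10, 8, 10, 10, 9, 10, 10, 11, 11, 11, 8, 11, 11, 9, 11, 5, 11, 9, 5, 10]))) (BT.node 84 (BT.node 83 (BT.leaf (24, [13, 4, 8, 10, 4, 10, 8, 10, 10, 9, 10, 10, 12, 11, 11, 8, 11, 11, 9, 11, 5, 11, 9, 5], [4, 8, 10, 4, 10, 8, 10, 10, 9, 10, 10, 13, 11, 11, 8, 11, 11, 9, 11, 5, 11, 9, 5, 12])) (BT.leaf (14, [1, 12, 5, 11, 5, 11, 9, 0, 8, 10, 4, 10, 4, 13], [12, 5, 11, 5, 11, 9, 1, 8, 10, 4, 10, 4, 13, 0]))) (BT.leaf (14, [3, 12, 5, 11, 5,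 11, 9, 2, 8, 10, 4, 10, 4, 13], [12, 5, 11, 5, 11, 9, 3, 8, 10, 4, 10, 4, 13, 2])))) (BT.node 88 (BT.node 87 (BT.node 86 (BT.leaf (14, [5, 12, 5, 11, 5, 11, 9, 4, 8, 10, 4, 10, 4, 13], [12, 5, 11, 5, 11, 9, 5, 8, 10, 4, 10, 4, 13, 4])) (BT.leaf (14, [7, 12, 5, 11, 5, 11, 9, 6, 8, 10, 4, 10, 4, 13], [12, 5, 11, 5, 11, 9, 7, 8, 10, 4, 10, 4, 13, 6]))) (BT.leaf (14, [9, 12, 5, 11, 5, 11, 9, 8, 8, 10, 4, 10, 4, 13], [12, 5, 11, 5, 11, 9, 9, 8, 10, 4, 10, 4, 13, 8]))) (BT.node 89 (BT.leaf (14, [11, 12, 5, 11, 5, 11, 9, 10, 8, 10, 4, 10, 4, 13], [12, 5, 11, 5, 11, 9, 11, 8, 10, 4, 10, 4, 13, 10])) (BT.leaf (14, [13, 12, 5, 11, 5, 11, 9, 12, 8, 10, 4, 10, 4, 13], [12, 5, 11, 5, 11, 9, 13, 8, 10, 4, 10, 4, 13, 12])))))))) (BT.node 136 (BT.node 113 (BT.node 102 (BT.node 96 (BT.node 93 (BT.node 92 (BT.node 91 (BT.leaf (6, [1, 1, 1, 0, 0, 0], [1,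 1, 1, 0, 0, 0])) (BT.leaf (6, [3, 1, 1, 2, 0, 0], [1, 1, 3, 0, 0, 2]))) (BT.leaf (6, [5, 1, 1, 4, 0, 0], [1, 1, 5, 0, 0, 4]))) (BT.node 95 (BT.node 94 (BT.leaf (6, [7, 1, 1, 6, 0, 0], [1, 1, 7, 0, 0, 6])) (BT.leaf (6, [9, 1, 1, 8, 0, 0], [1, 1, 9, 0, 0, 8]))) (BT.leaf (6, [11, 1, 1, 10, 0, 0], [1, 1, 11, 0, 0, 10])))) (BT.node 99 (BT.node 98 (BT.node 97 (BT.leaf (6, [13, 1, 1, 12, 0, 0], [1, 1, 13, 0, 0, 12])) (BT.leaf (6, [1, 3, 3, 0, 2, 2], [3, 3, 1, 2, 2, 0]))) (BT.leaf (6, [3, 3, 3, 2, 2, 2], [3, 3, 3, 2, 2, 2]))) (BT.node 101 (BT.node 100 (BT.leaf (6, [5, 3, 3, 4, 2, 2], [3, 3, 5, 2, 2, 4])) (BT.leaf (6, [7, 3, 3, 6, 2, 2], [3, 3, 7, 2, 2, 6]))) (BT.leaf (6, [9, 3, 3, 8, 2, 2], [3, 3, 9, 2, 2, 8]))))) (BT.node 108 (BT.node 105 (BT.node 104 (BT.node 103 (BT.leaf (6, [11, 3, 3, 10, 2, 2], [3, 3, 11, 2, 2, 10])) (BT.leaf (6, [13, 3,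 3, 12, 2, 2], [3, 3, 13, 2, 2, 12]))) (BT.leaf (22, [1, 1, 3, 1, 3, 1, 3, 1, 3, 1, 3, 0, 2, 0, 2, 0, 2, 0, 2, 0, 2, 0], [1, 3, 1, 3, 1, 3, 1, 3, 1, 3, 1, 2, 0, 2, 0, 2, 0, 2, 0, 2, 0, 0]))) (BT.node 107 (BT.node 106 (BT.leaf (22, [3, 1, 3, 1, 3, 1, 3, 1, 3, 1, 3, 2, 2, 0, 2, 0, 2, 0, 2, 0, 2, 0], [1, 3, 1, 3, 1, 3, 1, 3, 1, 3, 3, 2, 0, 2, 0, 2, 0, 2, 0, 2, 0, 2])) (BT.leaf (22, [5, 1, 3, 1, 3, 1, 3, 1, 3, 1, 3, 4, 2, 0, 2, 0, 2, 0, 2, 0, 2, 0], [1, 3, 1, 3, 1, 3, 1, 3, 1, 3, 5, 2, 0, 2, 0, 2, 0, 2, 0, 2, 0, 4]))) (BT.leaf (22, [7, 1, 3, 1, 3, 1, 3, 1, 3, 1, 3, 6, 2, 0, 2, 0, 2, 0, 2, 0, 2, 0], [1, 3, 1, 3, 1, 3, 1, 3, 1, 3, 7, 2, 0, 2, 0, 2, 0, 2, 0, 2, 0, 6])))) (BT.node 111 (BT.node 110 (BT.node 109 (BT.leaf (22, [9, 1, 3, 1, 3, 1, 3, 1, 3, 1, 3, 8, 2, 0, 2, 0, 2, 0, 2, 0, 2, 0], [1, 3, 1, 3, 1, 3, 1, 3, 1, 3, 9, 2, 0, 2, 0, 2, 0, 2,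 0, 2, 0, 8])) (BT.leaf (22, [11, 1, 3, 1, 3, 1, 3, 1, 3, 1, 3, 10, 2, 0, 2, 0, 2, 0, 2, 0, 2, 0], [1, 3, 1, 3, 1, 3, 1, 3, 1, 3, 11, 2, 0, 2, 0, 2, 0, 2, 0, 2, 0, 10]))) (BT.leaf (22, [13, 1, 3, 1, 3, 1, 3, 1, 3, 1, 3, 12, 2, 0, 2, 0, 2, 0, 2, 0, 2, 0], [1, 3, 1, 3, 1, 3, 1, 3, 1, 3, 13, 2, 0, 2, 0, 2, 0, 2, 0, 2, 0, 12]))) (BT.node 112 (BT.leaf (14, [1, 3, 5, 3, 5, 3, 5, 0, 4, 2, 4, 2, 4, 2], [3, 5, 3, 5, 3, 5, 1, 4, 2, 4, 2, 4, 2, 0])) (BT.leaf (14, [3, 3, 5, 3, 5, 3, 5, 2, 4, 2, 4, 2, 4, 2], [3, 5, 3, 5, 3, 5, 3, 4, 2, 4, 2, 4, 2, 2])))))) (BT.node 125 (BT.node 119 (BT.node 116 (BT.node 115 (BT.node 114 (BT.leaf (14, [5, 3, 5, 3, 5, 3, 5, 4, 4, 2, 4, 2, 4, 2], [3, 5, 3, 5, 3, 5, 5, 4, 2, 4, 2, 4, 2, 4])) (BT.leaf (14, [7, 3, 5, 3, 5, 3, 5, 6, 4, 2, 4, 2, 4, 2], [3, 5, 3, 5, 3, 5, 7, 4, 2, 4, 2, 4, 2, 6]))) (BT.leaf (14, [9, 3, 5, 3,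 5, 3, 5, 8, 4, 2, 4, 2, 4, 2], [3, 5, 3, 5, 3, 5, 9, 4, 2, 4, 2, 4, 2, 8]))) (BT.node 118 (BT.node 117 (BT.leaf (14, [11, 3, 5, 3, 5, 3, 5, 10, 4, 2, 4, 2, 4, 2], [3, 5, 3, 5, 3, 5, 11, 4, 2, 4, 2, 4, 2, 10])) (BT.leaf (14, [13, 3, 5, 3, 5, 3, 5, 12, 4, 2, 4, 2, 4, 2], [3, 5, 3, 5, 3, 5, 13, 4, 2, 4, 2, 4, 2, 12]))) (BT.leaf (10, [1, 1, 5, 1, 5, 0, 4, 0, 4, 0], [1, 5, 1, 5, 1, 4, 0, 4, 0, 0])))) (BT.node 122 (BT.node 121 (BT.node 120 (BT.leaf (10, [3, 1, 5, 1, 5, 2, 4, 0, 4, 0], [1, 5, 1, 5, 3, 4, 0, 4, 0, 2])) (BT.leaf (10, [5, 1, 5, 1, 5, 4, 4, 0, 4, 0], [1, 5, 1, 5, 5, 4, 0, 4, 0, 4]))) (BT.leaf (10, [7, 1, 5, 1, 5, 6, 4, 0, 4, 0], [1, 5, 1, 5, 7, 4, 0, 4, 0, 6]))) (BT.node 124 (BT.node 123 (BT.leaf (10, [9, 1, 5, 1, 5, 8, 4, 0, 4, 0], [1, 5, 1, 5, 9, 4, 0, 4, 0, 8])) (BT.leaf (10, [11, 1, 5, 1, 5, 10, 4, 0, 4, 0], [1, 5, 1, 5, 11,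 4, 0, 4, 0, 10]))) (BT.leaf (10, [13, 1, 5, 1, 5, 12, 4, 0, 4, 0], [1, 5, 1, 5, 13, 4, 0, 4, 0, 12]))))) (BT.node 131 (BT.node 128 (BT.node 127 (BT.node 126 (BT.leaf (10, [1, 1, 7, 1, 7, 0, 6, 0, 6, 0], [1, 7, 1, 7, 1, 6, 0, 6, 0, 0])) (BT.leaf (10, [3, 1, 7, 1, 7, 2, 6, 0, 6, 0], [1, 7, 1, 7, 3, 6, 0, 6, 0, 2]))) (BT.leaf (10, [5, 1, 7, 1, 7, 4, 6, 0, 6, 0], [1, 7, 1, 7, 5, 6, 0, 6, 0, 4]))) (BT.node 130 (BT.node 129 (BT.leaf (10, [7, 1, 7, 1, 7, 6, 6, 0, 6, 0], [1, 7, 1, 7, 7, 6, 0, 6, 0, 6])) (BT.leaf (10, [9, 1, 7, 1, 7, 8, 6, 0, 6, 0], [1, 7, 1, 7, 9, 6, 0, 6, 0, 8]))) (BT.leaf (10, [11, 1, 7, 1, 7, 10, 6, 0, 6, 0], [1, 7, 1, 7, 11, 6, 0, 6, 0, 10])))) (BT.node 134 (BT.node 133 (BT.node 132 (BT.leaf (10, [13, 1, 7, 1, 7, 12, 6, 0, 6, 0], [1, 7, 1, 7, 13, 6, 0, 6, 0, 12])) (BT.leaf (10, [1, 1, 9, 1, 9, 0, 8, 0, 8, 0], [1, 9, 1, 9,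 1, 8, 0, 8, 0, 0]))) (BT.leaf (10, [3, 1, 9, 1, 9, 2, 8, 0, 8, 0], [1, 9, 1, 9, 3, 8, 0, 8, 0, 2]))) (BT.node 135 (BT.leaf (10, [5, 1, 9, 1, 9, 4, 8, 0, 8, 0], [1, 9, 1, 9, 5, 8, 0, 8, 0, 4])) (BT.leaf (10, [7, 1, 9, 1, 9, 6, 8, 0, 8, 0], [1, 9, 1, 9, 7, 8, 0, 8, 0, 6]))))))) (BT.node 159 (BT.node 148 (BT.node 142 (BT.node 139 (BT.node 138 (BT.node 137 (BT.leaf (10, [9, 1, 9, 1, 9, 8, 8, 0, 8, 0], [1, 9, 1, 9, 9, 8, 0, 8, 0, 8])) (BT.leaf (10, [11, 1, 9, 1, 9, 10, 8, 0, 8, 0], [1, 9, 1, 9, 11, 8, 0, 8, 0, 10]))) (BT.leaf (10, [13, 1, 9, 1, 9, 12, 8, 0, 8, 0], [1, 9, 1, 9, 13, 8, 0, 8, 0, 12]))) (BT.node 141 (BT.node 140 (BT.leaf (10, [1, 3, 7, 3, 7, 0, 6, 2, 6, 2], [3, 7, 3, 7, 1, 6, 2, 6, 2, 0])) (BT.leaf (10, [3, 3, 7, 3, 7, 2, 6, 2, 6, 2], [3, 7, 3, 7, 3, 6, 2, 6, 2, 2]))) (BT.leaf (10, [5, 3, 7, 3, 7, 4, 6, 2, 6, 2], [3, 7, 3, 7,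 5, 6, 2, 6, 2, 4])))) (BT.node 145 (BT.node 144 (BT.node 143 (BT.leaf (10, [7, 3, 7, 3, 7, 6, 6, 2, 6, 2], [3, 7, 3, 7, 7, 6, 2, 6, 2, 6])) (BT.leaf (10, [9, 3, 7, 3, 7, 8, 6, 2, 6, 2], [3, 7, 3, 7, 9, 6, 2, 6, 2, 8]))) (BT.leaf (10, [11, 3, 7, 3, 7, 10, 6, 2, 6, 2], [3, 7, 3, 7, 11, 6, 2, 6, 2, 10]))) (BT.node 147 (BT.node 146 (BT.leaf (10, [13, 3, 7, 3, 7, 12, 6, 2, 6, 2], [3, 7, 3, 7, 13, 6, 2, 6, 2, 12])) (BT.leaf (10, [1, 3, 9, 3, 9, 0, 8, 2, 8, 2], [3, 9, 3, 9, 1, 8, 2, 8, 2, 0]))) (BT.leaf (10, [3, 3, 9, 3, 9, 2, 8, 2, 8, 2], [3, 9, 3, 9, 3, 8, 2, 8, 2, 2]))))) (BT.node 154 (BT.node 151 (BT.node 150 (BT.node 149 (BT.leaf (10, [5, 3, 9, 3, 9, 4, 8, 2, 8, 2], [3, 9, 3, 9, 5, 8, 2, 8, 2, 4])) (BT.leaf (10, [7, 3, 9, 3, 9, 6, 8, 2, 8, 2], [3, 9, 3, 9, 7, 8, 2, 8, 2, 6]))) (BT.leaf (10, [9, 3, 9, 3, 9, 8, 8, 2, 8, 2], [3, 9, 3, 9, 9,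 8, 2, 8, 2, 8]))) (BT.node 153 (BT.node 152 (BT.leaf (10, [11, 3, 9, 3, 9, 10, 8, 2, 8, 2], [3, 9, 3, 9, 11, 8, 2, 8, 2, 10])) (BT.leaf (10, [13, 3, 9, 3, 9, 12, 8, 2, 8, 2], [3, 9, 3, 9, 13, 8, 2, 8, 2, 12]))) (BT.leaf (20, [1, 1, 6, 4, 6, 4, 6, 4, 6, 4, 0, 5, 7, 5, 7, 5, 7, 5, 7, 0], [1, 6, 4, 6, 4, 6, 4, 6, 4, 1, 5, 7, 5, 7, 5, 7, 5, 7, 0, 0])))) (BT.node 157 (BT.node 156 (BT.node 155 (BT.leaf (20, [3, 1, 6, 4, 6, 4, 6, 4, 6, 4, 2, 5, 7, 5, 7, 5, 7, 5, 7, 0], [1, 6, 4, 6, 4, 6, 4, 6, 4, 3, 5, 7, 5, 7, 5, 7, 5, 7, 0, 2])) (BT.leaf (20, [5, 1, 6, 4, 6, 4, 6, 4, 6, 4, 4, 5, 7, 5, 7, 5, 7, 5, 7, 0], [1, 6, 4, 6, 4, 6, 4, 6, 4, 5, 5, 7, 5, 7, 5, 7, 5, 7, 0, 4]))) (BT.leaf (20, [7, 1, 6, 4, 6, 4, 6, 4, 6, 4, 6, 5, 7, 5, 7, 5, 7, 5, 7, 0], [1, 6, 4, 6, 4, 6, 4, 6, 4, 7, 5, 7, 5, 7, 5, 7, 5, 7, 0, 6]))) (BT.node 158 (BT.leaf (20, [9, 1, 6,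 4, 6, 4, 6, 4, 6, 4, 8, 5, 7, 5, 7, 5, 7, 5, 7, 0], [1, 6, 4, 6, 4, 6, 4, 6, 4, 9, 5, 7, 5, 7, 5, 7, 5, 7, 0, 8])) (BT.leaf (20, [11, 1, 6, 4, 6, 4, 6, 4, 6, 4, 10, 5, 7, 5, 7, 5, 7, 5, 7, 0], [1, 6, 4, 6, 4, 6, 4, 6, 4, 11, 5, 7, 5, 7, 5, 7, 5, 7, 0, 10])))))) (BT.node 170 (BT.node 165 (BT.node 162 (BT.node 161 (BT.node 160 (BT.leaf (20, [13, 1, 6, 4, 6, 4, 6, 4, 6, 4, 12, 5, 7, 5, 7, 5, 7, 5, 7, 0], [1, 6, 4, 6, 4, 6, 4, 6, 4, 13, 5, 7, 5, 7, 5, 7, 5, 7, 0, 12])) (BT.leaf (158, [1, 3, 5, 7, 5, 7, 3, 5, 7, 5, 7, 3, 5, 7, 5, 7, 3, 5, 7, 5, 7, 3, 5, 7, 5, 7, 9, 3, 5, 7, 5, 7, 3, 5, 7, 5, 7, 3, 5, 7, 5, 7, 3, 5, 7, 5, 7, 3, 5, 7, 5, 7, 9, 3, 5, 7, 5, 7, 3, 5, 7, 5, 7, 3, 5, 7, 5, 7, 3, 5, 7, 5, 7, 3, 5, 7, 5, 7, 9, 0, 8, 6, 4, 6, 4, 2, 6, 4, 6, 4, 2, 6, 4, 6, 4, 2, 6, 4, 6, 4, 2, 6, 4, 6, 4, 2, 8, 6, 4, 6, 4, 2, 6, 4, 6, 4, 2, 6, 4, 6,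 4, 2, 6, 4, 6, 4, 2, 6, 4, 6, 4, 2, 8, 6, 4, 6, 4, 2, 6, 4, 6, 4, 2, 6, 4, 6, 4, 2, 6, 4, 6, 4, 2, 6, 4, 6, 4, 2], [3, 5, 7, 5, 7, 3, 5, 7, 5, 7, 3, 5, 7, 5, 7, 3, 5, 7, 5, 7, 3, 5, 7, 5, 7, 9, 3, 5, 7, 5, 7, 3, 5, 7, 5, 7, 3, 5, 7, 5, 7, 3, 5, 7, 5, 7, 3, 5, 7, 5, 7, 9, 3, 5, 7, 5, 7, 3, 5, 7, 5, 7, 3, 5, 7, 5, 7, 3, 5, 7, 5, 7, 3, 5, 7, 5, 7, 9, 1, 8, 6, 4, 6, 4, 2, 6, 4, 6, 4, 2, 6, 4, 6, 4, 2, 6, 4, 6, 4, 2, 6, 4, 6, 4, 2, 8, 6, 4, 6, 4, 2, 6, 4, 6, 4, 2, 6, 4, 6, 4, 2, 6, 4, 6, 4, 2, 6, 4, 6, 4, 2, 8, 6, 4, 6, 4, 2, 6, 4, 6, 4, 2, 6, 4, 6, 4, 2, 6, 4, 6, 4, 2, 6, 4, 6, 4, 2, 0]))) (BT.leaf (158, [3, 3, 5, 7, 5, 7, 3, 5, 7, 5, 7, 3, 5, 7, 5, 7, 3, 5, 7, 5, 7, 3, 5, 7, 5, 7, 9, 3, 5, 7, 5, 7, 3, 5, 7, 5, 7, 3, 5, 7, 5, 7, 3, 5, 7, 5, 7, 3, 5, 7, 5, 7, 9, 3, 5, 7, 5, 7, 3, 5, 7, 5, 7, 3, 5, 7, 5, 7, 3, 5, 7, 5, 7, 3, 5, 7, 5, 7, 9,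 2, 8, 6, 4, 6, 4, 2, 6, 4, 6, 4, 2, 6, 4, 6, 4, 2, 6, 4, 6, 4, 2, 6, 4, 6, 4, 2, 8, 6, 4, 6, 4, 2, 6, 4, 6, 4, 2, 6, 4, 6, 4, 2, 6, 4, 6, 4, 2, 6, 4, 6, 4, 2, 8, 6, 4, 6, 4, 2, 6, 4, 6, 4, 2, 6, 4, 6, 4, 2, 6, 4, 6, 4, 2, 6, 4, 6, 4, 2], [3, 5, 7, 5, 7, 3, 5, 7, 5, 7, 3, 5, 7, 5, 7, 3, 5, 7, 5, 7, 3, 5, 7, 5, 7, 9, 3, 5, 7, 5, 7, 3, 5, 7, 5, 7, 3, 5, 7, 5, 7, 3, 5, 7, 5, 7, 3, 5, 7, 5, 7, 9, 3, 5, 7, 5, 7, 3, 5, 7, 5, 7, 3, 5, 7, 5, 7, 3, 5, 7, 5, 7, 3, 5, 7, 5, 7, 9, 3, 8, 6, 4, 6, 4, 2, 6, 4, 6, 4, 2, 6, 4, 6, 4, 2, 6, 4, 6, 4, 2, 6, 4, 6, 4, 2, 8, 6, 4, 6, 4, 2, 6, 4, 6, 4, 2, 6, 4, 6, 4, 2, 6, 4, 6, 4, 2, 6, 4, 6, 4, 2, 8, 6, 4, 6, 4, 2, 6, 4, 6, 4, 2, 6, 4, 6, 4, 2, 6, 4, 6, 4, 2, 6, 4, 6, 4, 2, 2]))) (BT.node 164 (BT.node 163 (BT.leaf (158, [5, 3, 5, 7, 5, 7, 3, 5, 7, 5, 7, 3, 5, 7, 5, 7, 3, 5, 7, 5, 7, 3, 5, 7, 5, 7, 9, 3, 5, 7,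 5, 7, 3, 5, 7, 5, 7, 3, 5, 7, 5, 7, 3, 5, 7, 5, 7, 3, 5, 7, 5, 7, 9, 3, 5, 7, 5, 7, 3, 5, 7, 5, 7, 3, 5, 7, 5, 7, 3, 5, 7, 5, 7, 3, 5, 7, 5, 7, 9, 4, 8, 6, 4, 6, 4, 2, 6, 4, 6, 4, 2, 6, 4, 6, 4, 2, 6, 4, 6, 4, 2, 6, 4, 6, 4, 2, 8, 6, 4, 6, 4, 2, 6, 4, 6, 4, 2, 6, 4, 6, 4, 2, 6, 4, 6, 4, 2, 6, 4, 6, 4, 2, 8, 6, 4, 6, 4, 2, 6, 4, 6, 4, 2, 6, 4, 6, 4, 2, 6, 4, 6, 4, 2, 6, 4, 6, 4, 2], [3, 5, 7, 5, 7, 3, 5, 7, 5, 7, 3, 5, 7, 5, 7, 3, 5, 7, 5, 7, 3, 5, 7, 5, 7, 9, 3, 5, 7, 5, 7, 3, 5, 7, 5, 7, 3, 5, 7, 5, 7, 3, 5, 7, 5, 7, 3, 5, 7, 5, 7, 9, 3, 5, 7, 5, 7, 3, 5, 7, 5, 7, 3, 5, 7, 5, 7, 3, 5, 7, 5, 7, 3, 5, 7, 5, 7, 9, 5, 8, 6, 4, 6, 4, 2, 6, 4, 6, 4, 2, 6, 4, 6, 4, 2, 6, 4, 6, 4, 2, 6, 4, 6, 4, 2, 8, 6, 4, 6, 4, 2, 6, 4, 6, 4, 2, 6, 4, 6, 4, 2, 6, 4, 6, 4, 2, 6, 4, 6, 4, 2, 8, 6, 4, 6, 4, 2, 6, 4, 6, 4, 2, 6, 4, 6, 4, 2, 6, 4, 6, 4, 2, 6, 4,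 6, 4, 2, 4])) (BT.leaf (158, [7, 3, 5, 7, 5, 7, 3, 5, 7, 5, 7, 3, 5, 7, 5, 7, 3, 5, 7, 5, 7, 3, 5, 7, 5, 7, 9, 3, 5, 7, 5, 7, 3, 5, 7, 5, 7, 3, 5, 7, 5, 7, 3, 5, 7, 5, 7, 3, 5, 7, 5, 7, 9, 3, 5, 7, 5, 7, 3, 5, 7, 5, 7, 3, 5, 7, 5, 7, 3, 5, 7, 5, 7, 3, 5, 7, 5, 7, 9, 6, 8, 6, 4, 6, 4, 2, 6, 4, 6, 4, 2, 6, 4, 6, 4, 2, 6, 4, 6, 4, 2, 6, 4, 6, 4, 2, 8, 6, 4, 6, 4, 2, 6, 4, 6, 4, 2, 6, 4, 6, 4, 2, 6, 4, 6, 4, 2, 6, 4, 6, 4, 2, 8, 6, 4, 6, 4, 2, 6, 4, 6, 4, 2, 6, 4, 6, 4, 2, 6, 4, 6, 4, 2, 6, 4, 6, 4, 2], [3, 5, 7, 5, 7, 3, 5, 7, 5, 7, 3, 5, 7, 5, 7, 3, 5, 7, 5, 7, 3, 5, 7, 5, 7, 9, 3, 5, 7, 5, 7, 3, 5, 7, 5, 7, 3, 5, 7, 5, 7, 3, 5, 7, 5, 7, 3, 5, 7, 5, 7, 9, 3, 5, 7, 5, 7, 3, 5, 7, 5, 7, 3, 5, 7, 5, 7, 3, 5, 7, 5, 7, 3, 5, 7, 5, 7, 9, 7, 8, 6, 4, 6, 4, 2, 6, 4, 6, 4, 2, 6, 4, 6, 4, 2, 6, 4, 6, 4, 2, 6, 4, 6, 4, 2, 8, 6, 4, 6, 4, 2, 6, 4, 6,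 4, 2, 6, 4, 6, 4, 2, 6, 4, 6, 4, 2, 6, 4, 6, 4, 2, 8, 6, 4, 6, 4, 2, 6, 4, 6, 4, 2, 6, 4, 6, 4, 2, 6, 4, 6, 4, 2, 6, 4, 6, 4, 2, 6]))) (BT.leaf (158, [9, 3, 5, 7, 5, 7, 3, 5, 7, 5, 7, 3, 5, 7, 5, 7, 3, 5, 7, 5, 7, 3, 5, 7, 5, 7, 9, 3, 5, 7, 5, 7, 3, 5, 7, 5, 7, 3, 5, 7, 5, 7, 3, 5, 7, 5, 7, 3, 5, 7, 5, 7, 9, 3, 5, 7, 5, 7, 3, 5, 7, 5, 7, 3, 5, 7, 5, 7, 3, 5, 7, 5, 7, 3, 5, 7, 5, 7, 9, 8, 8, 6, 4, 6, 4, 2, 6, 4, 6, 4, 2, 6, 4, 6, 4, 2, 6, 4, 6, 4, 2, 6, 4, 6, 4, 2, 8, 6, 4, 6, 4, 2, 6, 4, 6, 4, 2, 6, 4, 6, 4, 2, 6, 4, 6, 4, 2, 6, 4, 6, 4, 2, 8, 6, 4, 6, 4, 2, 6, 4, 6, 4, 2, 6, 4, 6, 4, 2, 6, 4, 6, 4, 2, 6, 4, 6, 4, 2], [3, 5, 7, 5, 7, 3, 5, 7, 5, 7, 3, 5, 7, 5, 7, 3, 5, 7, 5, 7, 3, 5, 7, 5, 7, 9, 3, 5, 7, 5, 7, 3, 5, 7, 5, 7, 3, 5, 7, 5, 7, 3, 5, 7, 5, 7, 3, 5, 7, 5, 7, 9, 3, 5, 7, 5, 7, 3, 5, 7, 5, 7, 3, 5, 7, 5, 7, 3, 5, 7, 5, 7, 3,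 5, 7, 5, 7, 9, 9, 8, 6, 4, 6, 4, 2, 6, 4, 6, 4, 2, 6, 4, 6, 4, 2, 6, 4, 6, 4, 2, 6, 4, 6, 4, 2, 8, 6, 4, 6, 4, 2, 6, 4, 6, 4, 2, 6, 4, 6, 4, 2, 6, 4, 6, 4, 2, 6, 4, 6, 4, 2, 8, 6, 4, 6, 4, 2, 6, 4, 6, 4, 2, 6, 4, 6, 4, 2, 6, 4, 6, 4, 2, 6, 4, 6, 4, 2, 8])))) (BT.node 168 (BT.node 167 (BT.node 166 (BT.leaf (158, [11, 3, 5, 7, 5, 7, 3, 5, 7, 5, 7, 3, 5, 7, 5, 7, 3, 5, 7, 5, 7, 3, 5, 7, 5, 7, 9, 3, 5, 7, 5, 7, 3, 5, 7, 5, 7, 3, 5, 7, 5, 7, 3, 5, 7, 5, 7, 3, 5, 7, 5, 7, 9, 3, 5, 7, 5, 7, 3, 5, 7, 5, 7, 3, 5, 7, 5, 7, 3, 5, 7, 5, 7, 3, 5, 7, 5, 7, 9, 10, 8, 6, 4, 6, 4, 2, 6, 4, 6, 4, 2, 6, 4, 6, 4, 2, 6, 4, 6, 4, 2, 6, 4, 6, 4, 2, 8, 6, 4, 6, 4, 2, 6, 4, 6, 4, 2, 6, 4, 6, 4, 2, 6, 4, 6, 4, 2, 6, 4, 6, 4, 2, 8, 6, 4, 6, 4, 2, 6, 4, 6, 4, 2, 6, 4, 6, 4, 2, 6, 4, 6, 4, 2, 6, 4, 6, 4, 2], [3, 5, 7, 5, 7, 3, 5, 7, 5, 7, 3, 5, 7, 5, 7, 3, 5, 7,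 5, 7, 3, 5, 7, 5, 7, 9, 3, 5, 7, 5, 7, 3, 5, 7, 5, 7, 3, 5, 7, 5, 7, 3, 5, 7, 5, 7, 3, 5, 7, 5, 7, 9, 3, 5, 7, 5, 7, 3, 5, 7, 5, 7, 3, 5, 7, 5, 7, 3, 5, 7, 5, 7, 3, 5, 7, 5, 7, 9, 11, 8, 6, 4, 6, 4, 2, 6, 4, 6, 4, 2, 6, 4, 6, 4, 2, 6, 4, 6, 4, 2, 6, 4, 6, 4, 2, 8, 6, 4, 6, 4, 2, 6, 4, 6, 4, 2, 6, 4, 6, 4, 2, 6, 4, 6, 4, 2, 6, 4, 6, 4, 2, 8, 6, 4, 6, 4, 2, 6, 4, 6, 4, 2, 6, 4, 6, 4, 2, 6, 4, 6, 4, 2, 6, 4, 6, 4, 2, 10])) (BT.leaf (158, [13, 3, 5, 7, 5, 7, 3, 5, 7, 5, 7, 3, 5, 7, 5, 7, 3, 5, 7, 5, 7, 3, 5, 7, 5, 7, 9, 3, 5, 7, 5, 7, 3, 5, 7, 5, 7, 3, 5, 7, 5, 7, 3, 5, 7, 5, 7, 3, 5, 7, 5, 7, 9, 3, 5, 7, 5, 7, 3, 5, 7, 5, 7, 3, 5, 7, 5, 7, 3, 5, 7, 5, 7, 3, 5, 7, 5, 7, 9, 12, 8, 6, 4, 6, 4, 2, 6, 4, 6, 4, 2, 6, 4, 6, 4, 2, 6, 4, 6, 4, 2, 6, 4, 6, 4, 2, 8, 6, 4, 6, 4, 2, 6, 4, 6, 4, 2, 6, 4, 6, 4, 2, 6, 4, 6, 4, 2, 6, 4, 6, 4, 2, 8, 6, 4,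 6, 4, 2, 6, 4, 6, 4, 2, 6, 4, 6, 4, 2, 6, 4, 6, 4, 2, 6, 4, 6, 4, 2], [3, 5, 7, 5, 7, 3, 5, 7, 5, 7, 3, 5, 7, 5, 7, 3, 5, 7, 5, 7, 3, 5, 7, 5, 7, 9, 3, 5, 7, 5, 7, 3, 5, 7, 5, 7, 3, 5, 7, 5, 7, 3, 5, 7, 5, 7, 3, 5, 7, 5, 7, 9, 3, 5, 7, 5, 7, 3, 5, 7, 5, 7, 3, 5, 7, 5, 7, 3, 5, 7, 5, 7, 3, 5, 7, 5, 7, 9, 13, 8, 6, 4, 6, 4, 2, 6, 4, 6, 4, 2, 6, 4, 6, 4, 2, 6, 4, 6, 4, 2, 6, 4, 6, 4, 2, 8, 6, 4, 6, 4, 2, 6, 4, 6, 4, 2, 6, 4, 6, 4, 2, 6, 4, 6, 4, 2, 6, 4, 6, 4, 2, 8, 6, 4, 6, 4, 2, 6, 4, 6, 4, 2, 6, 4, 6, 4, 2, 6, 4, 6, 4, 2, 6, 4, 6, 4, 2, 12]))) (BT.leaf (34, [1, 10, 3, 1, 3, 1, 5, 3, 7, 5, 7, 3, 1, 3, 5, 1, 3, 0, 2, 0, 4, 2, 0, 2, 6, 4, 6, 2, 4, 0, 2, 0, 2, 11], [10, 3, 1, 3, 1, 5, 3, 7, 5, 7, 3, 1, 3, 5, 1, 3, 1, 2, 0, 4, 2, 0, 2, 6, 4, 6, 2, 4, 0, 2, 0, 2, 11, 0]))) (BT.node 169 (BT.leaf (34, [3, 10, 3, 1, 3, 1, 5, 3, 7, 5, 7, 3, 1,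 3, 5, 1, 3, 2, 2, 0, 4, 2, 0, 2, 6, 4, 6, 2, 4, 0, 2, 0, 2, 11], [10, 3, 1, 3, 1, 5, 3, 7, 5, 7, 3, 1, 3, 5, 1, 3, 3, 2, 0, 4, 2, 0, 2, 6, 4, 6, 2, 4, 0, 2, 0, 2, 11, 2])) (BT.leaf (34, [5, 10, 3, 1, 3, 1, 5, 3, 7, 5, 7, 3, 1, 3, 5, 1, 3, 4, 2, 0, 4, 2, 0, 2, 6, 4, 6, 2, 4, 0, 2, 0, 2, 11], [10, 3, 1, 3, 1, 5, 3, 7, 5, 7, 3, 1, 3, 5, 1, 3, 5, 2, 0, 4, 2, 0, 2, 6, 4, 6, 2, 4, 0, 2, 0, 2, 11, 4]))))) (BT.node 176 (BT.node 173 (BT.node 172 (BT.node 171 (BT.leaf (34, [7, 10, 3, 1, 3, 1, 5, 3, 7, 5, 7, 3, 1, 3, 5, 1, 3, 6, 2, 0, 4, 2, 0, 2, 6, 4, 6, 2, 4, 0, 2, 0, 2, 11], [10, 3, 1, 3, 1, 5, 3, 7, 5, 7, 3, 1, 3, 5, 1, 3, 7, 2, 0, 4, 2, 0, 2, 6, 4, 6, 2, 4, 0, 2, 0, 2, 11, 6])) (BT.leaf (34, [9, 10, 3, 1, 3, 1, 5, 3, 7, 5, 7, 3, 1, 3, 5, 1, 3, 8, 2, 0, 4, 2, 0, 2, 6, 4, 6, 2, 4, 0, 2, 0, 2, 11], [10, 3, 1, 3, 1, 5, 3, 7, 5, 7, 3, 1, 3, 5, 1,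 3, 9, 2, 0, 4, 2, 0, 2, 6, 4, 6, 2, 4, 0, 2, 0, 2, 11, 8]))) (BT.leaf (34, [11, 10, 3, 1, 3, 1, 5, 3, 7, 5, 7, 3, 1, 3, 5, 1, 3, 10, 2, 0, 4, 2, 0, 2, 6, 4, 6, 2, 4, 0, 2, 0, 2, 11], [10, 3, 1, 3, 1, 5, 3, 7, 5, 7, 3, 1, 3, 5, 1, 3, 11, 2, 0, 4, 2, 0, 2, 6, 4, 6, 2, 4, 0, 2, 0, 2, 11, 10]))) (BT.node 175 (BT.node 174 (BT.leaf (34, [13, 10, 3, 1, 3, 1, 5, 3, 7, 5, 7, 3, 1, 3, 5, 1, 3, 12, 2, 0, 4, 2, 0, 2, 6, 4, 6, 2, 4, 0, 2, 0, 2, 11], [10, 3, 1, 3, 1, 5, 3, 7, 5, 7, 3, 1, 3, 5, 1, 3, 13, 2, 0, 4, 2, 0, 2, 6, 4, 6, 2, 4, 0, 2, 0, 2, 11, 12])) (BT.leaf (17, [6, 6, 6, 6, 4, 4, 4, 4, 5, 7, 5, 7, 5, 7, 5, 7, 0], [1, 6, 4, 6, 4, 6, 4, 6, 4, 5, 5, 5, 5, 7, 7, 7, 7]))) (BT.leaf (19, [10, 8, 11, 8, 10, 9, 11, 9, 5, 5, 5, 3, 3, 4, 2, 4, 2, 4, 2], [3, 5, 3, 5, 3, 5, 2, 2, 4, 4, 4, 8, 10, 8, 11, 9, 10, 9, 11])))) (BT.node 179 (BT.node 178 (BT.node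 177 (BT.leaf (9, [4, 8, 10, 8, 11, 9, 10, 9, 11], [10, 8, 11, 8, 10, 9, 11, 9, 5])) (BT.leaf (59, [13, 13, 13, 13, 13, 13, 13, 13, 13, 13, 13, 13, 13, 13, 13, 7, 7, 7, 7, 7, 7, 7, 7, 7, 7, 7, 7, 7, 7, 12, 6, 12, 6, 12, 6, 12, 6, 12, 6, 12, 6, 12, 6, 12, 6, 12, 6, 12, 6, 12, 6, 12, 6, 12, 6, 12, 6, 12, 6], [7, 13, 7, 13, 7, 13, 7, 13, 7, 13, 7, 13, 7, 13, 7, 13, 7, 13, 7, 13, 7, 13, 7, 13, 7, 13, 7, 13, 7, 13, 6, 6, 6, 6, 6, 6, 6, 6, 6, 6, 6, 6, 6, 6, 12, 12, 12, 12, 12, 12, 12, 12, 12, 12, 12, 12, 12, 12, 12]))) (BT.leaf (53, [6, 6, 11, 7, 11, 7, 5, 5, 13, 13, 13, 13, 13, 13, 13, 13, 13, 7, 7, 7, 7, 7, 7, 7, 7, 7, 7, 12, 6, 12, 6, 12, 6, 12, 6, 12, 6, 12, 6, 12, 6, 12, 6, 12, 6, 12, 6, 8, 10, 4, 10, 4, 13], [12, 5, 11, 5, 11, 9, 7, 13, 7, 13, 7, 13, 7, 13, 7, 13, 7, 13, 7, 13, 7, 13, 7, 13, 7, 13, 6, 6, 6, 6, 6, 6, 6, 6, 6, 6, 12, 12,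 12, 12, 12, 12, 12, 12, 12, 4, 4, 6, 10, 6, 10, 7, 7]))) (BT.node 180 (BT.leaf (17, [6, 6, 6, 6, 4, 4, 10, 10, 10, 7, 5, 7, 5, 11, 7, 11, 7], [6, 10, 6, 10, 4, 6, 4, 6, 11, 11, 11, 5, 5, 7, 7, 7, 7])) (BT.leaf (39, [13, 13, 13, 13, 13, 13, 13, 13, 13, 7, 7, 7, 7, 7, 7, 7, 7, 7, 7, 12, 6, 12, 6, 12, 6, 12, 6, 12, 6, 12, 6, 12, 6, 12, 6, 12, 6, 12, 6], [7, 13, 7, 13, 7, 13, 7, 13, 7, 13, 7, 13, 7, 13, 7, 13, 7, 13, 7, 13, 6, 6, 6, 6, 6, 6, 6, 6, 6, 6, 12, 12, 12, 12, 12, 12, 12, 12, 12])))))))))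
/-- subgroup generators -/
def subT : BT (ℕ × List ℕ × List ℕ) := (BT.node 2 (BT.node 1 (BT.node 0 (BT.leaf (1, [4], [5])) (BT.leaf (1, [6], [7]))) (BT.leaf (1, [8], [9]))) (BT.node 3 (BT.leaf (1, [10], [11])) (BT.leaf (1, [12], [13]))))
/-- fact chunks -/
def colET : BT ℕ := (BT.node 1792 (BT.node 896 (BT.node 448 (BT.node 224 (BT.node 112 (BT.node 56 (BT.node 28 (BT.node 14 (BT.node 7 (BT.node 3 (BT.node 1 (BT.node 0 (BT.leaf cE0) (BT.leaf cE1)) (BT.node 2 (BT.leaf cE2) (BT.leaf cE3))) (BT.node 5 (BT.node 4 (BT.leaf cE4) (BT.leaf cE5)) (BT.node 6 (BT.leaf cE6) (BT.leaf cE7)))) (BT.node 11 (BT.node 9 (BT.node 8 (BT.leaf cE8) (BT.leaf cE9)) (BT.node 10 (BT.leaf cE10) (BT.leaf cE11))) (BT.node 13 (BT.node 12 (BT.leaf cE12) (BT.leaf cE13)) (BT.leaf cE14)))) (BT.node 21 (BT.node 18 (BT.node 16 (BT.node 15 (BT.leaf cE15) (BT.leaf cE16)) (BT.node 17 (BT.leaf cE17) (BT.leaf cE18))) (BT.node 20 (BT.node 19 (BT.leaf cE19) (BT.leaf cE20)) (BT.leaf cE21))) (BT.node 25 (BT.node 23 (BT.node 22 (BT.leaf cE22) (BT.leaf cE23)) (BT.node 24 (BT.leaf cE24) (BT.leaf cE25))) (BT.node 27 (BT.node 26 (BT.leaf cE26) (BT.leaf cE27)) (BT.leaf cE28))))) (BT.node 42 (BT.node 35 (BT.node 32 (BT.node 30 (BT.node 29 (BT.leaf cE29) (BT.leaf cE30)) (BT.node 31 (BT.leaf cE31) (BT.leaf cE32))) (BT.node 34 (BT.node 33 (BT.leaf cE33) (BT.leaf cE34)) (BT.leaf cE35))) (BT.node 39 (BT.node 37 (BT.node 36 (BT.leaf cE36) (BT.leaf cE37)) (BT.node 38 (BT.leaf cE38) (BT.leaf cE39))) (BT.node 41 (BT.node 40 (BT.leaf cE40) (BT.leaf cE41)) (BT.leaf cE42)))) (BT.node 49 (BT.node 46 (BT.node 44 (BT.node 43 (BT.leaf cE43) (BT.leaf cE44)) (BT.node 45 (BT.leaf cE45) (BT.leaf cE46))) (BT.node 48 (BT.node 47 (BT.leaf cE47) (BT.leaf cE48)) (BT.leaf cE49))) (BT.node 53 (BT.node 51 (BT.node 50 (BT.leaf cE50) (BT.leaf cE51)) (BT.node 52 (BT.leaf cE52) (BT.leaf cE53))) (BT.node 55 (BT.node 54 (BT.leaf cE54) (BT.leaf cE55)) (BT.leaf cE56)))))) (BT.node 84 (BT.node 70 (BT.node 63 (BT.node 60 (BT.node 58 (BT.node 57 (BT.leaf cE57) (BT.leaf cE58)) (BT.node 59 (BT.leaf cE59) (BT.leaf cE60))) (BT.node 62 (BT.node 61 (BT.leaf cE61) (BT.leaf cE62)) (BT.leaf cE63))) (BT.node 67 (BT.node 65 (BT.node 64 (BT.leaf cE64) (BT.leaf cE65)) (BT.node 66 (BT.leaf cE66) (BT.leaf cE67))) (BT.node 69 (BT.node 68 (BT.leaf cE68) (BT.leaf cE69)) (BT.leaf cE70)))) (BT.node 77 (BT.node 74 (BT.node 72 (BT.node 71 (BT.leaf cE71) (BT.leaf cE72)) (BT.node 73 (BT.leaf cE73) (BT.leaf cE74))) (BT.node 76 (BT.node 75 (BT.leaf cE75) (BT.leaf cE76)) (BT.leaf cE77))) (BT.node 81 (BT.node 79 (BT.node 78 (BT.leaf cE78) (BT.leaf cE79)) (BT.node 80 (BT.leaf cE80) (BT.leaf cE81))) (BT.node 83 (BT.node 82 (BT.leaf cE82) (BT.leaf cE83)) (BT.leaf cE84))))) (BT.node 98 (BT.node 91 (BT.node 88 (BT.node 86 (BT.node 85 (BT.leaf cE85) (BT.leaf cE86)) (BT.node 87 (BT.leaf cE87) (BT.leaf cE88))) (BT.node 90 (BT.node 89 (BT.leaf cE89) (BT.leaf cE90)) (BT.leaf cE91))) (BT.node 95 (BT.node 93 (BT.node 92 (BT.leaf cE92) (BT.leaf cE93)) (BT.node 94 (BT.leaf cE94) (BT.leaf cE95))) (BT.node 97 (BT.node 96 (BT.leaf cE96) (BT.leaf cE97)) (BT.leaf cE98)))) (BT.node 105 (BT.node 102 (BT.node 100 (BT.node 99 (BT.leaf cE99) (BT.leaf cE100)) (BT.node 101 (BT.leaf cE101) (BT.leaf cE102))) (BT.node 104 (BT.node 103 (BT.leaf cE103) (BT.leaf cE104)) (BT.leaf cE105))) (BT.node 109 (BT.node 107 (BT.node 106 (BT.leaf cE106) (BT.leaf cE107)) (BT.node 108 (BT.leaf cE108) (BT.leaf cE109))) (BT.node 111 (BT.node 110 (BT.leaf cE110) (BT.leaf cE111)) (BT.leaf cE112))))))) (BT.node 168 (BT.node 140 (BT.node 126 (BT.node 119 (BT.node 116 (BT.node 114 (BT.node 113 (BT.leaf cE113) (BT.leaf cE114)) (BT.node 115 (BT.leaf cE115) (BT.leaf cE116))) (BT.node 118 (BT.node 117 (BT.leaf cE117) (BT.leaf cE118)) (BT.leaf cE119))) (BT.node 123 (BT.node 121 (BT.node 120 (BT.leaf cE120) (BT.leaf cE121)) (BT.node 122 (BT.leaf cE122) (BT.leaf cE123))) (BT.node 125 (BT.node 124 (BT.leaf cE124) (BT.leaf cE125)) (BT.leaf cE126)))) (BT.node 133 (BT.node 130 (BT.node 128 (BT.node 127 (BT.leaf cE127) (BT.leaf cE128)) (BT.node 129 (BT.leaf cE129) (BT.leaf cE130))) (BT.node 132 (BT.node 131 (BT.leaf cE131) (BT.leaf cE132)) (BT.leaf cE133))) (BT.node 137 (BT.node 135 (BT.node 134 (BT.leaf cE134) (BT.leaf cE135)) (BT.node 136 (BT.leaf cE136) (BT.leaf cE137))) (BT.node 139 (BT.node 138 (BT.leaf cE138) (BT.leaf cE139)) (BT.leaf cE140))))) (BT.node 154 (BT.node 147 (BT.node 144 (BT.node 142 (BT.node 141 (BT.leaf cE141) (BT.leaf cE142)) (BT.node 143 (BT.leaf cE143) (BT.leaf cE144))) (BT.node 146 (BT.node 145 (BT.leaf cE145) (BT.leaf cE146)) (BT.leaf cE147))) (BT.node 151 (BT.node 149 (BT.node 148 (BT.leaf cE148) (BT.leaf cE149)) (BT.node 150 (BT.leaf cE150) (BT.leaf cE151))) (BT.node 153 (BT.node 152 (BT.leaf cE152) (BT.leaf cE153)) (BT.leaf cE154)))) (BT.node 161 (BT.node 158 (BT.node 156 (BT.node 155 (BT.leaf cE155) (BT.leaf cE156)) (BT.node 157 (BT.leaf cE157) (BT.leaf cE158))) (BT.node 160 (BT.node 159 (BT.leaf cE159) (BT.leaf cE160)) (BT.leaf cE161))) (BT.node 165 (BT.node 163 (BT.node 162 (BT.leaf cE162) (BT.leaf cE163)) (BT.node 164 (BT.leaf cE164) (BT.leaf cE165))) (BT.node 167 (BT.node 166 (BT.leaf cE166) (BT.leaf cE167)) (BT.leaf cE168)))))) (BT.node 196 (BT.node 182 (BT.node 175 (BT.node 172 (BT.node 170 (BT.node 169 (BT.leaf cE169) (BT.leaf cE170)) (BT.node 171 (BT.leaf cE171) (BT.leaf cE172))) (BT.node 174 (BT.node 173 (BT.leaf cE173) (BT.leaf cE174)) (BT.leaf cE175))) (BT.node 179 (BT.node 177 (BT.node 176 (BT.leaf cE176) (BT.leaf cE177)) (BT.node 178 (BT.leaf cE178) (BT.leaf cE179))) (BT.node 181 (BT.node 180 (BT.leaf cE180) (BT.leaf cE181)) (BT.leaf cE182)))) (BT.node 189 (BT.node 186 (BT.node 184 (BT.node 183 (BT.leaf cE183) (BT.leaf cE184)) (BT.node 185 (BT.leaf cE185) (BT.leaf cE186))) (BT.node 188 (BT.node 187 (BT.leaf cE187) (BT.leaf cE188)) (BT.leaf cE189))) (BT.node 193 (BT.node 191 (BT.node 190 (BT.leaf cE190) (BT.leaf cE191)) (BT.node 192 (BT.leaf cE192) (BT.leaf cE193))) (BT.node 195 (BT.node 194 (BT.leaf cE194) (BT.leaf cE195)) (BT.leaf cE196))))) (BT.node 210 (BT.node 203 (BT.node 200 (BT.node 198 (BT.node 197 (BT.leaf cE197) (BT.leaf cE198)) (BT.node 199 (BT.leaf cE199) (BT.leaf cE200))) (BT.node 202 (BT.node 201 (BT.leaf cE201) (BT.leaf cE202)) (BT.leaf cE203))) (BT.node 207 (BT.node 205 (BT.node 204 (BT.leaf cE204) (BT.leaf cE205)) (BT.node 206 (BT.leaf cE206) (BT.leaf cE207))) (BT.node 209 (BT.node 208 (BT.leaf cE208) (BT.leaf cE209)) (BT.leaf cE210)))) (BT.node 217 (BT.node 214 (BT.node 212 (BT.node 211 (BT.leaf cE211) (BT.leaf cE212)) (BT.node 213 (BT.leaf cE213) (BT.leaf cE214))) (BT.node 216 (BT.node 215 (BT.leaf cE215) (BT.leaf cE216)) (BT.leaf cE217))) (BT.node 221 (BT.node 219 (BT.node 218 (BT.leaf cE218) (BT.leaf cE219)) (BT.node 220 (BT.leaf cE220) (BT.leaf cE221))) (BT.node 223 (BT.node 222 (BT.leaf cE222) (BT.leaf cE223)) (BT.leaf cE224)))))))) (BT.node 336 (BT.node 280 (BT.node 252 (BT.node 238 (BT.node 231 (BT.node 228 (BT.node 226 (BT.node 225 (BT.leaf cE225) (BT.leaf cE226)) (BT.node 227 (BT.leaf cE227) (BT.leaf cE228))) (BT.node 230 (BT.node 229 (BT.leaf cE229) (BT.leaf cE230)) (BT.leaf cE231))) (BT.node 235 (BT.node 233 (BT.node 232 (BT.leaf cE232) (BT.leaf cE233)) (BT.node 234 (BT.leaf cE234) (BT.leaf cE235))) (BT.node 237 (BT.node 236 (BT.leaf cE236) (BT.leaf cE237)) (BT.leaf cE238)))) (BT.node 245 (BT.node 242 (BT.node 240 (BT.node 239 (BT.leaf cE239) (BT.leaf cE240)) (BT.node 241 (BT.leaf cE241) (BT.leaf cE242))) (BT.node 244 (BT.node 243 (BT.leaf cE243) (BT.leaf cE244)) (BT.leaf cE245))) (BT.node 249 (BT.node 247 (BT.node 246 (BT.leaf cE246) (BT.leaf cE247)) (BT.node 248 (BT.leaf cE248) (BT.leaf cE249))) (BT.node 251 (BT.node 250 (BT.leaf cE250) (BT.leaf cE251)) (BT.leaf cE252))))) (BT.node 266 (BT.node 259 (BT.node 256 (BT.node 254 (BT.node 253 (BT.leaf cE253) (BT.leaf cE254)) (BT.node 255 (BT.leaf cE255) (BT.leaf cE256))) (BT.node 258 (BT.node 257 (BT.leaf cE257) (BT.leaf cE258)) (BT.leaf cE259))) (BT.node 263 (BT.node 261 (BT.node 260 (BT.leaf cE260) (BT.leaf cE261)) (BT.node 262 (BT.leaf cE262) (BT.leaf cE263))) (BT.node 265 (BT.node 264 (BT.leaf cE264) (BT.leaf cE265)) (BT.leaf cE266)))) (BT.node 273 (BT.node 270 (BT.node 268 (BT.node 267 (BT.leaf cE267) (BT.leaf cE268)) (BT.node 269 (BT.leaf cE269) (BT.leaf cE270))) (BT.node 272 (BT.node 271 (BT.leaf cE271) (BT.leaf cE272)) (BT.leaf cE273))) (BT.node 277 (BT.node 275 (BT.node 274 (BT.leaf cE274) (BT.leaf cE275)) (BT.node 276 (BT.leaf cE276) (BT.leaf cE277))) (BT.node 279 (BT.node 278 (BT.leaf cE278) (BT.leaf cE279)) (BT.leaf cE280)))))) (BT.node 308 (BT.node 294 (BT.node 287 (BT.node 284 (BT.node 282 (BT.node 281 (BT.leaf cE281) (BT.leaf cE282)) (BT.node 283 (BT.leaf cE283) (BT.leaf cE284))) (BT.node 286 (BT.node 285 (BT.leaf cE285) (BT.leaf cE286)) (BT.leaf cE287))) (BT.node 291 (BT.node 289 (BT.node 288 (BT.leaf cE288) (BT.leaf cE289)) (BT.node 290 (BT.leaf cE290) (BT.leaf cE291))) (BT.node 293 (BT.node 292 (BT.leaf cE292) (BT.leaf cE293)) (BT.leaf cE294)))) (BT.node 301 (BT.node 298 (BT.node 296 (BT.node 295 (BT.leaf cE295) (BT.leaf cE296)) (BT.node 297 (BT.leaf cE297) (BT.leaf cE298))) (BT.node 300 (BT.node 299 (BT.leaf cE299) (BT.leaf cE300)) (BT.leaf cE301))) (BT.node 305 (BT.node 303 (BT.node 302 (BT.leaf cE302) (BT.leaf cE303)) (BT.node 304 (BT.leaf cE304) (BT.leaf cE305))) (BT.node 307 (BT.node 306 (BT.leaf cE306) (BT.leaf cE307)) (BT.leaf cE308))))) (BT.node 322 (BT.node 315 (BT.node 312 (BT.node 310 (BT.node 309 (BT.leaf cE309) (BT.leaf cE310)) (BT.node 311 (BT.leaf cE311) (BT.leaf cE312))) (BT.node 314 (BT.node 313 (BT.leaf cE313) (BT.leaf cE314)) (BT.leaf cE315))) (BT.node 319 (BT.node 317 (BT.node 316 (BT.leaf cE316) (BT.leaf cE317)) (BT.node 318 (BT.leaf cE318) (BT.leaf cE319))) (BT.node 321 (BT.node 320 (BT.leaf cE320) (BT.leaf cE321)) (BT.leaf cE322)))) (BT.node 329 (BT.node 326 (BT.node 324 (BT.node 323 (BT.leaf cE323) (BT.leaf cE324)) (BT.node 325 (BT.leaf cE325) (BT.leaf cE326))) (BT.node 328 (BT.node 327 (BT.leaf cE327) (BT.leaf cE328)) (BT.leaf cE329))) (BT.node 333 (BT.node 331 (BT.node 330 (BT.leaf cE330) (BT.leaf cE331)) (BT.node 332 (BT.leaf cE332) (BT.leaf cE333))) (BT.node 335 (BT.node 334 (BT.leaf cE334) (BT.leaf cE335)) (BT.leaf cE336))))))) (BT.node 392 (BT.node 364 (BT.node 350 (BT.node 343 (BT.node 340 (BT.node 338 (BT.node 337 (BT.leaf cE337) (BT.leaf cE338)) (BT.node 339 (BT.leaf cE339) (BT.leaf cE340))) (BT.node 342 (BT.node 341 (BT.leaf cE341) (BT.leaf cE342)) (BT.leaf cE343))) (BT.node 347 (BT.node 345 (BT.node 344 (BT.leaf cE344) (BT.leaf cE345)) (BT.node 346 (BT.leaf cE346) (BT.leaf cE347))) (BT.node 349 (BT.node 348 (BT.leaf cE348) (BT.leaf cE349)) (BT.leaf cE350)))) (BT.node 357 (BT.node 354 (BT.node 352 (BT.node 351 (BT.leaf cE351) (BT.leaf cE352)) (BT.node 353 (BT.leaf cE353) (BT.leaf cE354))) (BT.node 356 (BT.node 355 (BT.leaf cE355) (BT.leaf cE356)) (BT.leaf cE357))) (BT.node 361 (BT.node 359 (BT.node 358 (BT.leaf cE358) (BT.leaf cE359)) (BT.node 360 (BT.leaf cE360) (BT.leaf cE361))) (BT.node 363 (BT.node 362 (BT.leaf cE362) (BT.leaf cE363)) (BT.leaf cE364))))) (BT.node 378 (BT.node 371 (BT.node 368 (BT.node 366 (BT.node 365 (BT.leaf cE365) (BT.leaf cE366)) (BT.node 367 (BT.leaf cE367) (BT.leaf cE368))) (BT.node 370 (BT.node 369 (BT.leaf cE369) (BT.leaf cE370)) (BT.leaf cE371))) (BT.node 375 (BT.node 373 (BT.node 372 (BT.leaf cE372) (BT.leaf cE373)) (BT.node 374 (BT.leaf cE374) (BT.leaf cE375))) (BT.node 377 (BT.node 376 (BT.leaf cE376) (BT.leaf cE377)) (BT.leaf cE378)))) (BT.node 385 (BT.node 382 (BT.node 380 (BT.node 379 (BT.leaf cE379) (BT.leaf cE380)) (BT.node 381 (BT.leaf cE381) (BT.leaf cE382))) (BT.node 384 (BT.node 383 (BT.leaf cE383) (BT.leaf cE384)) (BT.leaf cE385))) (BT.node 389 (BT.node 387 (BT.node 386 (BT.leaf cE386) (BT.leaf cE387)) (BT.node 388 (BT.leaf cE388) (BT.leaf cE389))) (BT.node 391 (BT.node 390 (BT.leaf cE390) (BT.leaf cE391)) (BT.leaf cE392)))))) (BT.node 420 (BT.node 406 (BT.node 399 (BT.node 396 (BT.node 394 (BT.node 393 (BT.leaf cE393) (BT.leaf cE394)) (BT.node 395 (BT.leaf cE395) (BT.leaf cE396))) (BT.node 398 (BT.node 397 (BT.leaf cE397) (BT.leaf cE398)) (BT.leaf cE399))) (BT.node 403 (BT.node 401 (BT.node 400 (BT.leaf cE400) (BT.leaf cE401)) (BT.node 402 (BT.leaf cE402) (BT.leaf cE403))) (BT.node 405 (BT.node 404 (BT.leaf cE404) (BT.leaf cE405)) (BT.leaf cE406)))) (BT.node 413 (BT.node 410 (BT.node 408 (BT.node 407 (BT.leaf cE407) (BT.leaf cE408)) (BT.node 409 (BT.leaf cE409) (BT.leaf cE410))) (BT.node 412 (BT.node 411 (BT.leaf cE411) (BT.leaf cE412)) (BT.leaf cE413))) (BT.node 417 (BT.node 415 (BT.node 414 (BT.leaf cE414) (BT.leaf cE415)) (BT.node 416 (BT.leaf cE416) (BT.leaf cE417))) (BT.node 419 (BT.node 418 (BT.leaf cE418) (BT.leaf cE419)) (BT.leaf cE420))))) (BT.node 434 (BT.node 427 (BT.node 424 (BT.node 422 (BT.node 421 (BT.leaf cE421) (BT.leaf cE422)) (BT.node 423 (BT.leaf cE423) (BT.leaf cE424))) (BT.node 426 (BT.node 425 (BT.leaf cE425) (BT.leaf cE426)) (BT.leaf cE427))) (BT.node 431 (BT.node 429 (BT.node 428 (BT.leaf cE428) (BT.leaf cE429)) (BT.node 430 (BT.leaf cE430) (BT.leaf cE431))) (BT.node 433 (BT.node 432 (BT.leaf cE432) (BT.leaf cE433)) (BT.leaf cE434)))) (BT.node 441 (BT.node 438 (BT.node 436 (BT.node 435 (BT.leaf cE435) (BT.leaf cE436)) (BT.node 437 (BT.leaf cE437) (BT.leaf cE438))) (BT.node 440 (BT.node 439 (BT.leaf cE439) (BT.leaf cE440)) (BT.leaf cE441))) (BT.node 445 (BT.node 443 (BT.node 442 (BT.leaf cE442) (BT.leaf cE443)) (BT.node 444 (BT.leaf cE444) (BT.leaf cE445))) (BT.node 447 (BT.node 446 (BT.leaf cE446) (BT.leaf cE447)) (BT.leaf cE448))))))))) (BT.node 672 (BT.node 560 (BT.node 504 (BT.node 476 (BT.node 462 (BT.node 455 (BT.node 452 (BT.node 450 (BT.node 449 (BT.leaf cE449) (BT.leaf cE450)) (BT.node 451 (BT.leaf cE451) (BT.leaf cE452))) (BT.node 454 (BT.node 453 (BT.leaf cE453) (BT.leaf cE454)) (BT.leaf cE455))) (BT.node 459 (BT.node 457 (BT.node 456 (BT.leaf cE456) (BT.leaf cE457)) (BT.node 458 (BT.leaf cE458) (BT.leaf cE459))) (BT.node 461 (BT.node 460 (BT.leaf cE460) (BT.leaf cE461)) (BT.leaf cE462)))) (BT.node 469 (BT.node 466 (BT.node 464 (BT.node 463 (BT.leaf cE463) (BT.leaf cE464)) (BT.node 465 (BT.leaf cE465) (BT.leaf cE466))) (BT.node 468 (BT.node 467 (BT.leaf cE467) (BT.leaf cE468)) (BT.leaf cE469))) (BT.node 473 (BT.node 471 (BT.node 470 (BT.leaf cE470) (BT.leaf cE471)) (BT.node 472 (BT.leaf cE472) (BT.leaf cE473))) (BT.node 475 (BT.node 474 (BT.leaf cE474) (BT.leaf cE475)) (BT.leaf cE476))))) (BT.node 490 (BT.node 483 (BT.node 480 (BT.node 478 (BT.node 477 (BT.leaf cE477) (BT.leaf cE478)) (BT.node 479 (BT.leaf cE479) (BT.leaf cE480))) (BT.node 482 (BT.node 481 (BT.leaf cE481) (BT.leaf cE482)) (BT.leaf cE483))) (BT.node 487 (BT.node 485 (BT.node 484 (BT.leaf cE484) (BT.leaf cE485)) (BT.node 486 (BT.leaf cE486) (BT.leaf cE487))) (BT.node 489 (BT.node 488 (BT.leaf cE488) (BT.leaf cE489)) (BT.leaf cE490)))) (BT.node 497 (BT.node 494 (BT.node 492 (BT.node 491 (BT.leaf cE491) (BT.leaf cE492)) (BT.node 493 (BT.leaf cE493) (BT.leaf cE494))) (BT.node 496 (BT.node 495 (BT.leaf cE495) (BT.leaf cE496)) (BT.leaf cE497))) (BT.node 501 (BT.node 499 (BT.node 498 (BT.leaf cE498) (BT.leaf cE499)) (BT.node 500 (BT.leaf cE500) (BT.leaf cE501))) (BT.node 503 (BT.node 502 (BT.leaf cE502) (BT.leaf cE503)) (BT.leaf cE504)))))) (BT.node 532 (BT.node 518 (BT.node 511 (BT.node 508 (BT.node 506 (BT.node 505 (BT.leaf cE505) (BT.leaf cE506)) (BT.node 507 (BT.leaf cE507) (BT.leaf cE508))) (BT.node 510 (BT.node 509 (BT.leaf cE509) (BT.leaf cE510)) (BT.leaf cE511))) (BT.node 515 (BT.node 513 (BT.node 512 (BT.leaf cE512) (BT.leaf cE513)) (BT.node 514 (BT.leaf cE514) (BT.leaf cE515))) (BT.node 517 (BT.node 516 (BT.leaf cE516) (BT.leaf cE517)) (BT.leaf cE518)))) (BT.node 525 (BT.node 522 (BT.node 520 (BT.node 519 (BT.leaf cE519) (BT.leaf cE520)) (BT.node 521 (BT.leaf cE521) (BT.leaf cE522))) (BT.node 524 (BT.node 523 (BT.leaf cE523) (BT.leaf cE524)) (BT.leaf cE525))) (BT.node 529 (BT.node 527 (BT.node 526 (BT.leaf cE526) (BT.leaf cE527)) (BT.node 528 (BT.leaf cE528) (BT.leaf cE529))) (BT.node 531 (BT.node 530 (BT.leaf cE530) (BT.leaf cE531)) (BT.leaf cE532))))) (BT.node 546 (BT.node 539 (BT.node 536 (BT.node 534 (BT.node 533 (BT.leaf cE533) (BT.leaf cE534)) (BT.node 535 (BT.leaf cE535) (BT.leaf cE536))) (BT.node 538 (BT.node 537 (BT.leaf cE537) (BT.leaf cE538)) (BT.leaf cE539))) (BT.node 543 (BT.node 541 (BT.node 540 (BT.leaf cE540) (BT.leaf cE541)) (BT.node 542 (BT.leaf cE542) (BT.leaf cE543))) (BT.node 545 (BT.node 544 (BT.leaf cE544) (BT.leaf cE545)) (BT.leaf cE546)))) (BT.node 553 (BT.node 550 (BT.node 548 (BT.node 547 (BT.leaf cE547) (BT.leaf cE548)) (BT.node 549 (BT.leaf cE549) (BT.leaf cE550))) (BT.node 552 (BT.node 551 (BT.leaf cE551) (BT.leaf cE552)) (BT.leaf cE553))) (BT.node 557 (BT.node 555 (BT.node 554 (BT.leaf cE554) (BT.leaf cE555)) (BT.node 556 (BT.leaf cE556) (BT.leaf cE557))) (BT.node 559 (BT.node 558 (BT.leaf cE558) (BT.leaf cE559)) (BT.leaf cE560))))))) (BT.node 616 (BT.node 588 (BT.node 574 (BT.node 567 (BT.node 564 (BT.node 562 (BT.node 561 (BT.leaf cE561) (BT.leaf cE562)) (BT.node 563 (BT.leaf cE563) (BT.leaf cE564))) (BT.node 566 (BT.node 565 (BT.leaf cE565) (BT.leaf cE566)) (BT.leaf cE567))) (BT.node 571 (BT.node 569 (BT.node 568 (BT.leaf cE568) (BT.leaf cE569)) (BT.node 570 (BT.leaf cE570) (BT.leaf cE571))) (BT.node 573 (BT.node 572 (BT.leaf cE572) (BT.leaf cE573)) (BT.leaf cE574)))) (BT.node 581 (BT.node 578 (BT.node 576 (BT.node 575 (BT.leaf cE575) (BT.leaf cE576)) (BT.node 577 (BT.leaf cE577) (BT.leaf cE578))) (BT.node 580 (BT.node 579 (BT.leaf cE579) (BT.leaf cE580)) (BT.leaf cE581))) (BT.node 585 (BT.node 583 (BT.node 582 (BT.leaf cE582) (BT.leaf cE583)) (BT.node 584 (BT.leaf cE584) (BT.leaf cE585))) (BT.node 587 (BT.node 586 (BT.leaf cE586) (BT.leaf cE587)) (BT.leaf cE588))))) (BT.node 602 (BT.node 595 (BT.node 592 (BT.node 590 (BT.node 589 (BT.leaf cE589) (BT.leaf cE590)) (BT.node 591 (BT.leaf cE591) (BT.leaf cE592))) (BT.node 594 (BT.node 593 (BT.leaf cE593) (BT.leaf cE594)) (BT.leaf cE595))) (BT.node 599 (BT.node 597 (BT.node 596 (BT.leaf cE596) (BT.leaf cE597)) (BT.node 598 (BT.leaf cE598) (BT.leaf cE599))) (BT.node 601 (BT.node 600 (BT.leaf cE600) (BT.leaf cE601)) (BT.leaf cE602)))) (BT.node 609 (BT.node 606 (BT.node 604 (BT.node 603 (BT.leaf cE603) (BT.leaf cE604)) (BT.node 605 (BT.leaf cE605) (BT.leaf cE606))) (BT.node 608 (BT.node 607 (BT.leaf cE607) (BT.leaf cE608)) (BT.leaf cE609))) (BT.node 613 (BT.node 611 (BT.node 610 (BT.leaf cE610) (BT.leaf cE611)) (BT.node 612 (BT.leaf cE612) (BT.leaf cE613))) (BT.node 615 (BT.node 614 (BT.leaf cE614) (BT.leaf cE615)) (BT.leaf cE616)))))) (BT.node 644 (BT.node 630 (BT.node 623 (BT.node 620 (BT.node 618 (BT.node 617 (BT.leaf cE617) (BT.leaf cE618)) (BT.node 619 (BT.leaf cE619) (BT.leaf cE620))) (BT.node 622 (BT.node 621 (BT.leaf cE621) (BT.leaf cE622)) (BT.leaf cE623))) (BT.node 627 (BT.node 625 (BT.node 624 (BT.leaf cE624) (BT.leaf cE625)) (BT.node 626 (BT.leaf cE626) (BT.leaf cE627))) (BT.node 629 (BT.node 628 (BT.leaf cE628) (BT.leaf cE629)) (BT.leaf cE630)))) (BT.node 637 (BT.node 634 (BT.node 632 (BT.node 631 (BT.leaf cE631) (BT.leaf cE632)) (BT.node 633 (BT.leaf cE633) (BT.leaf cE634))) (BT.node 636 (BT.node 635 (BT.leaf cE635) (BT.leaf cE636)) (BT.leaf cE637))) (BT.node 641 (BT.node 639 (BT.node 638 (BT.leaf cE638) (BT.leaf cE639)) (BT.node 640 (BT.leaf cE640) (BT.leaf cE641))) (BT.node 643 (BT.node 642 (BT.leaf cE642) (BT.leaf cE643)) (BT.leaf cE644))))) (BT.node 658 (BT.node 651 (BT.node 648 (BT.node 646 (BT.node 645 (BT.leaf cE645) (BT.leaf cE646)) (BT.node 647 (BT.leaf cE647) (BT.leaf cE648))) (BT.node 650 (BT.node 649 (BT.leaf cE649) (BT.leaf cE650)) (BT.leaf cE651))) (BT.node 655 (BT.node 653 (BT.node 652 (BT.leaf cE652) (BT.leaf cE653)) (BT.node 654 (BT.leaf cE654) (BT.leaf cE655))) (BT.node 657 (BT.node 656 (BT.leaf cE656) (BT.leaf cE657)) (BT.leaf cE658)))) (BT.node 665 (BT.node 662 (BT.node 660 (BT.node 659 (BT.leaf cE659) (BT.leaf cE660)) (BT.node 661 (BT.leaf cE661) (BT.leaf cE662))) (BT.node 664 (BT.node 663 (BT.leaf cE663) (BT.leaf cE664)) (BT.leaf cE665))) (BT.node 669 (BT.node 667 (BT.node 666 (BT.leaf cE666) (BT.leaf cE667)) (BT.node 668 (BT.leaf cE668) (BT.leaf cE669))) (BT.node 671 (BT.node 670 (BT.leaf cE670) (BT.leaf cE671)) (BT.leaf cE672)))))))) (BT.node 784 (BT.node 728 (BT.node 700 (BT.node 686 (BT.node 679 (BT.node 676 (BT.node 674 (BT.node 673 (BT.leaf cE673) (BT.leaf cE674)) (BT.node 675 (BT.leaf cE675) (BT.leaf cE676))) (BT.node 678 (BT.node 677 (BT.leaf cE677) (BT.leaf cE678)) (BT.leaf cE679))) (BT.node 683 (BT.node 681 (BT.node 680 (BT.leaf cE680) (BT.leaf cE681)) (BT.node 682 (BT.leaf cE682) (BT.leaf cE683))) (BT.node 685 (BT.node 684 (BT.leaf cE684) (BT.leaf cE685)) (BT.leaf cE686)))) (BT.node 693 (BT.node 690 (BT.node 688 (BT.node 687 (BT.leaf cE687) (BT.leaf cE688)) (BT.node 689 (BT.leaf cE689) (BT.leaf cE690))) (BT.node 692 (BT.node 691 (BT.leaf cE691) (BT.leaf cE692)) (BT.leaf cE693))) (BT.node 697 (BT.node 695 (BT.node 694 (BT.leaf cE694) (BT.leaf cE695)) (BT.node 696 (BT.leaf cE696) (BT.leaf cE697))) (BT.node 699 (BT.node 698 (BT.leaf cE698) (BT.leaf cE699)) (BT.leaf cE700))))) (BT.node 714 (BT.node 707 (BT.node 704 (BT.node 702 (BT.node 701 (BT.leaf cE701) (BT.leaf cE702)) (BT.node 703 (BT.leaf cE703) (BT.leaf cE704))) (BT.node 706 (BT.node 705 (BT.leaf cE705) (BT.leaf cE706)) (BT.leaf cE707))) (BT.node 711 (BT.node 709 (BT.node 708 (BT.leaf cE708) (BT.leaf cE709)) (BT.node 710 (BT.leaf cE710) (BT.leaf cE711))) (BT.node 713 (BT.node 712 (BT.leaf cE712) (BT.leaf cE713)) (BT.leaf cE714)))) (BT.node 721 (BT.node 718 (BT.node 716 (BT.node 715 (BT.leaf cE715) (BT.leaf cE716)) (BT.node 717 (BT.leaf cE717) (BT.leaf cE718))) (BT.node 720 (BT.node 719 (BT.leaf cE719) (BT.leaf cE720)) (BT.leaf cE721))) (BT.node 725 (BT.node 723 (BT.node 722 (BT.leaf cE722) (BT.leaf cE723)) (BT.node 724 (BT.leaf cE724) (BT.leaf cE725))) (BT.node 727 (BT.node 726 (BT.leaf cE726) (BT.leaf cE727)) (BT.leaf cE728)))))) (BT.node 756 (BT.node 742 (BT.node 735 (BT.node 732 (BT.node 730 (BT.node 729 (BT.leaf cE729) (BT.leaf cE730)) (BT.node 731 (BT.leaf cE731) (BT.leaf cE732))) (BT.node 734 (BT.node 733 (BT.leaf cE733) (BT.leaf cE734)) (BT.leaf cE735))) (BT.node 739 (BT.node 737 (BT.node 736 (BT.leaf cE736) (BT.leaf cE737)) (BT.node 738 (BT.leaf cE738) (BT.leaf cE739))) (BT.node 741 (BT.node 740 (BT.leaf cE740) (BT.leaf cE741)) (BT.leaf cE742)))) (BT.node 749 (BT.node 746 (BT.node 744 (BT.node 743 (BT.leaf cE743) (BT.leaf cE744)) (BT.node 745 (BT.leaf cE745) (BT.leaf cE746))) (BT.node 748 (BT.node 747 (BT.leaf cE747) (BT.leaf cE748)) (BT.leaf cE749))) (BT.node 753 (BT.node 751 (BT.node 750 (BT.leaf cE750) (BT.leaf cE751)) (BT.node 752 (BT.leaf cE752) (BT.leaf cE753))) (BT.node 755 (BT.node 754 (BT.leaf cE754) (BT.leaf cE755)) (BT.leaf cE756))))) (BT.node 770 (BT.node 763 (BT.node 760 (BT.node 758 (BT.node 757 (BT.leaf cE757) (BT.leaf cE758)) (BT.node 759 (BT.leaf cE759) (BT.leaf cE760))) (BT.node 762 (BT.node 761 (BT.leaf cE761) (BT.leaf cE762)) (BT.leaf cE763))) (BT.node 767 (BT.node 765 (BT.node 764 (BT.leaf cE764) (BT.leaf cE765)) (BT.node 766 (BT.leaf cE766) (BT.leaf cE767))) (BT.node 769 (BT.node 768 (BT.leaf cE768) (BT.leaf cE769)) (BT.leaf cE770)))) (BT.node 777 (BT.node 774 (BT.node 772 (BT.node 771 (BT.leaf cE771) (BT.leaf cE772)) (BT.node 773 (BT.leaf cE773) (BT.leaf cE774))) (BT.node 776 (BT.node 775 (BT.leaf cE775) (BT.leaf cE776)) (BT.leaf cE777))) (BT.node 781 (BT.node 779 (BT.node 778 (BT.leaf cE778) (BT.leaf cE779)) (BT.node 780 (BT.leaf cE780) (BT.leaf cE781))) (BT.node 783 (BT.node 782 (BT.leaf cE782) (BT.leaf cE783)) (BT.leaf cE784))))))) (BT.node 840 (BT.node 812 (BT.node 798 (BT.node 791 (BT.node 788 (BT.node 786 (BT.node 785 (BT.leaf cE785) (BT.leaf cE786)) (BT.node 787 (BT.leaf cE787) (BT.leaf cE788))) (BT.node 790 (BT.node 789 (BT.leaf cE789) (BT.leaf cE790)) (BT.leaf cE791))) (BT.node 795 (BT.node 793 (BT.node 792 (BT.leaf cE792) (BT.leaf cE793)) (BT.node 794 (BT.leaf cE794) (BT.leaf cE795))) (BT.node 797 (BT.node 796 (BT.leaf cE796) (BT.leaf cE797)) (BT.leaf cE798)))) (BT.node 805 (BT.node 802 (BT.node 800 (BT.node 799 (BT.leaf cE799) (BT.leaf cE800)) (BT.node 801 (BT.leaf cE801) (BT.leaf cE802))) (BT.node 804 (BT.node 803 (BT.leaf cE803) (BT.leaf cE804)) (BT.leaf cE805))) (BT.node 809 (BT.node 807 (BT.node 806 (BT.leaf cE806) (BT.leaf cE807)) (BT.node 808 (BT.leaf cE808) (BT.leaf cE809))) (BT.node 811 (BT.node 810 (BT.leaf cE810) (BT.leaf cE811)) (BT.leaf cE812))))) (BT.node 826 (BT.node 819 (BT.node 816 (BT.node 814 (BT.node 813 (BT.leaf cE813) (BT.leaf cE814)) (BT.node 815 (BT.leaf cE815) (BT.leaf cE816))) (BT.node 818 (BT.node 817 (BT.leaf cE817) (BT.leaf cE818)) (BT.leaf cE819))) (BT.node 823 (BT.node 821 (BT.node 820 (BT.leaf cE820) (BT.leaf cE821)) (BT.node 822 (BT.leaf cE822) (BT.leaf cE823))) (BT.node 825 (BT.node 824 (BT.leaf cE824) (BT.leaf cE825)) (BT.leaf cE826)))) (BT.node 833 (BT.node 830 (BT.node 828 (BT.node 827 (BT.leaf cE827) (BT.leaf cE828)) (BT.node 829 (BT.leaf cE829) (BT.leaf cE830))) (BT.node 832 (BT.node 831 (BT.leaf cE831) (BT.leaf cE832)) (BT.leaf cE833))) (BT.node 837 (BT.node 835 (BT.node 834 (BT.leaf cE834) (BT.leaf cE835)) (BT.node 836 (BT.leaf cE836) (BT.leaf cE837))) (BT.node 839 (BT.node 838 (BT.leaf cE838) (BT.leaf cE839)) (BT.leaf cE840)))))) (BT.node 868 (BT.node 854 (BT.node 847 (BT.node 844 (BT.node 842 (BT.node 841 (BT.leaf cE841) (BT.leaf cE842)) (BT.node 843 (BT.leaf cE843) (BT.leaf cE844))) (BT.node 846 (BT.node 845 (BT.leaf cE845) (BT.leaf cE846)) (BT.leaf cE847))) (BT.node 851 (BT.node 849 (BT.node 848 (BT.leaf cE848) (BT.leaf cE849)) (BT.node 850 (BT.leaf cE850) (BT.leaf cE851))) (BT.node 853 (BT.node 852 (BT.leaf cE852) (BT.leaf cE853)) (BT.leaf cE854)))) (BT.node 861 (BT.node 858 (BT.node 856 (BT.node 855 (BT.leaf cE855) (BT.leaf cE856)) (BT.node 857 (BT.leaf cE857) (BT.leaf cE858))) (BT.node 860 (BT.node 859 (BT.leaf cE859) (BT.leaf cE860)) (BT.leaf cE861))) (BT.node 865 (BT.node 863 (BT.node 862 (BT.leaf cE862) (BT.leaf cE863)) (BT.node 864 (BT.leaf cE864) (BT.leaf cE865))) (BT.node 867 (BT.node 866 (BT.leaf cE866) (BT.leaf cE867)) (BT.leaf cE868))))) (BT.node 882 (BT.node 875 (BT.node 872 (BT.node 870 (BT.node 869 (BT.leaf cE869) (BT.leaf cE870)) (BT.node 871 (BT.leaf cE871) (BT.leaf cE872))) (BT.node 874 (BT.node 873 (BT.leaf cE873) (BT.leaf cE874)) (BT.leaf cE875))) (BT.node 879 (BT.node 877 (BT.node 876 (BT.leaf cE876) (BT.leaf cE877)) (BT.node 878 (BT.leaf cE878) (BT.leaf cE879))) (BT.node 881 (BT.node 880 (BT.leaf cE880) (BT.leaf cE881)) (BT.leaf cE882)))) (BT.node 889 (BT.node 886 (BT.node 884 (BT.node 883 (BT.leaf cE883) (BT.leaf cE884)) (BT.node 885 (BT.leaf cE885) (BT.leaf cE886))) (BT.node 888 (BT.node 887 (BT.leaf cE887) (BT.leaf cE888)) (BT.leaf cE889))) (BT.node 893 (BT.node 891 (BT.node 890 (BT.leaf cE890) (BT.leaf cE891)) (BT.node 892 (BT.leaf cE892) (BT.leaf cE893))) (BT.node 895 (BT.node 894 (BT.leaf cE894) (BT.leaf cE895)) (BT.leaf cE896)))))))))) (BT.node 1344 (BT.node 1120 (BT.node 1008 (BT.node 952 (BT.node 924 (BT.node 910 (BT.node 903 (BT.node 900 (BT.node 898 (BT.node 897 (BT.leaf cE897) (BT.leaf cE898)) (BT.node 899 (BT.leaf cE899) (BT.leaf cE900))) (BT.node 902 (BT.node 901 (BT.leaf cE901) (BT.leaf cE902)) (BT.leaf cE903))) (BT.node 907 (BT.node 905 (BT.node 904 (BT.leaf cE904) (BT.leaf cE905)) (BT.node 906 (BT.leaf cE906) (BT.leaf cE907))) (BT.node 909 (BT.node 908 (BT.leaf cE908) (BT.leaf cE909)) (BT.leaf cE910)))) (BT.node 917 (BT.node 914 (BT.node 912 (BT.node 911 (BT.leaf cE911) (BT.leaf cE912)) (BT.node 913 (BT.leaf cE913) (BT.leaf cE914))) (BT.node 916 (BT.node 915 (BT.leaf cE915) (BT.leaf cE916)) (BT.leaf cE917))) (BT.node 921 (BT.node 919 (BT.node 918 (BT.leaf cE918) (BT.leaf cE919)) (BT.node 920 (BT.leaf cE920) (BT.leaf cE921))) (BT.node 923 (BT.node 922 (BT.leaf cE922) (BT.leaf cE923)) (BT.leaf cE924))))) (BT.node 938 (BT.node 931 (BT.node 928 (BT.node 926 (BT.node 925 (BT.leaf cE925) (BT.leaf cE926)) (BT.node 927 (BT.leaf cE927) (BT.leaf cE928))) (BT.node 930 (BT.node 929 (BT.leaf cE929) (BT.leaf cE930)) (BT.leaf cE931))) (BT.node 935 (BT.node 933 (BT.node 932 (BT.leaf cE932) (BT.leaf cE933)) (BT.node 934 (BT.leaf cE934) (BT.leaf cE935))) (BT.node 937 (BT.node 936 (BT.leaf cE936) (BT.leaf cE937)) (BT.leaf cE938)))) (BT.node 945 (BT.node 942 (BT.node 940 (BT.node 939 (BT.leaf cE939) (BT.leaf cE940)) (BT.node 941 (BT.leaf cE941) (BT.leaf cE942))) (BT.node 944 (BT.node 943 (BT.leaf cE943) (BT.leaf cE944)) (BT.leaf cE945))) (BT.node 949 (BT.node 947 (BT.node 946 (BT.leaf cE946) (BT.leaf cE947)) (BT.node 948 (BT.leaf cE948) (BT.leaf cE949))) (BT.node 951 (BT.node 950 (BT.leaf cE950) (BT.leaf cE951)) (BT.leaf cE952)))))) (BT.node 980 (BT.node 966 (BT.node 959 (BT.node 956 (BT.node 954 (BT.node 953 (BT.leaf cE953) (BT.leaf cE954)) (BT.node 955 (BT.leaf cE955) (BT.leaf cE956))) (BT.node 958 (BT.node 957 (BT.leaf cE957) (BT.leaf cE958)) (BT.leaf cE959))) (BT.node 963 (BT.node 961 (BT.node 960 (BT.leaf cE960) (BT.leaf cE961)) (BT.node 962 (BT.leaf cE962) (BT.leaf cE963))) (BT.node 965 (BT.node 964 (BT.leaf cE964) (BT.leaf cE965)) (BT.leaf cE966)))) (BT.node 973 (BT.node 970 (BT.node 968 (BT.node 967 (BT.leaf cE967) (BT.leaf cE968)) (BT.node 969 (BT.leaf cE969) (BT.leaf cE970))) (BT.node 972 (BT.node 971 (BT.leaf cE971) (BT.leaf cE972)) (BT.leaf cE973))) (BT.node 977 (BT.node 975 (BT.node 974 (BT.leaf cE974) (BT.leaf cE975)) (BT.node 976 (BT.leaf cE976) (BT.leaf cE977))) (BT.node 979 (BT.node 978 (BT.leaf cE978) (BT.leaf cE979)) (BT.leaf cE980))))) (BT.node 994 (BT.node 987 (BT.node 984 (BT.node 982 (BT.node 981 (BT.leaf cE981) (BT.leaf cE982)) (BT.node 983 (BT.leaf cE983) (BT.leaf cE984))) (BT.node 986 (BT.node 985 (BT.leaf cE985) (BT.leaf cE986)) (BT.leaf cE987))) (BT.node 991 (BT.node 989 (BT.node 988 (BT.leaf cE988) (BT.leaf cE989)) (BT.node 990 (BT.leaf cE990) (BT.leaf cE991))) (BT.node 993 (BT.node 992 (BT.leaf cE992) (BT.leaf cE993)) (BT.leaf cE994)))) (BT.node 1001 (BT.node 998 (BT.node 996 (BT.node 995 (BT.leaf cE995) (BT.leaf cE996)) (BT.node 997 (BT.leaf cE997) (BT.leaf cE998))) (BT.node 1000 (BT.node 999 (BT.leaf cE999) (BT.leaf cE1000)) (BT.leaf cE1001))) (BT.node 1005 (BT.node 1003 (BT.node 1002 (BT.leaf cE1002) (BT.leaf cE1003)) (BT.node 1004 (BT.leaf cE1004) (BT.leaf cE1005))) (BT.node 1007 (BT.node 1006 (BT.leaf cE1006) (BT.leaf cE1007)) (BT.leaf cE1008))))))) (BT.node 1064 (BT.node 1036 (BT.node 1022 (BT.node 1015 (BT.node 1012 (BT.node 1010 (BT.node 1009 (BT.leaf cE1009) (BT.leaf cE1010)) (BT.node 1011 (BT.leaf cE1011) (BT.leaf cE1012))) (BT.node 1014 (BT.node 1013 (BT.leaf cE1013) (BT.leaf cE1014)) (BT.leaf cE1015))) (BT.node 1019 (BT.node 1017 (BT.node 1016 (BT.leaf cE1016) (BT.leaf cE1017)) (BT.node 1018 (BT.leaf cE1018) (BT.leaf cE1019))) (BT.node 1021 (BT.node 1020 (BT.leaf cE1020) (BT.leaf cE1021)) (BT.leaf cE1022)))) (BT.node 1029 (BT.node 1026 (BT.node 1024 (BT.node 1023 (BT.leaf cE1023) (BT.leaf cE1024)) (BT.node 1025 (BT.leaf cE1025) (BT.leaf cE1026))) (BT.node 1028 (BT.node 1027 (BT.leaf cE1027) (BT.leaf cE1028)) (BT.leaf cE1029))) (BT.node 1033 (BT.node 1031 (BT.node 1030 (BT.leaf cE1030) (BT.leaf cE1031)) (BT.node 1032 (BT.leaf cE1032) (BT.leaf cE1033))) (BT.node 1035 (BT.node 1034 (BT.leaf cE1034) (BT.leaf cE1035)) (BT.leaf cE1036))))) (BT.node 1050 (BT.node 1043 (BT.node 1040 (BT.node 1038 (BT.node 1037 (BT.leaf cE1037) (BT.leaf cE1038)) (BT.node 1039 (BT.leaf cE1039) (BT.leaf cE1040))) (BT.node 1042 (BT.node 1041 (BT.leaf cE1041) (BT.leaf cE1042)) (BT.leaf cE1043))) (BT.node 1047 (BT.node 1045 (BT.node 1044 (BT.leaf cE1044) (BT.leaf cE1045)) (BT.node 1046 (BT.leaf cE1046) (BT.leaf cE1047))) (BT.node 1049 (BT.node 1048 (BT.leaf cE1048) (BT.leaf cE1049)) (BT.leaf cE1050)))) (BT.node 1057 (BT.node 1054 (BT.node 1052 (BT.node 1051 (BT.leaf cE1051) (BT.leaf cE1052)) (BT.node 1053 (BT.leaf cE1053) (BT.leaf cE1054))) (BT.node 1056 (BT.node 1055 (BT.leaf cE1055) (BT.leaf cE1056)) (BT.leaf cE1057))) (BT.node 1061 (BT.node 1059 (BT.node 1058 (BT.leaf cE1058) (BT.leaf cE1059)) (BT.node 1060 (BT.leaf cE1060) (BT.leaf cE1061))) (BT.node 1063 (BT.node 1062 (BT.leaf cE1062) (BT.leaf cE1063)) (BT.leaf cE1064)))))) (BT.node 1092 (BT.node 1078 (BT.node 1071 (BT.node 1068 (BT.node 1066 (BT.node 1065 (BT.leaf cE1065) (BT.leaf cE1066)) (BT.node 1067 (BT.leaf cE1067) (BT.leaf cE1068))) (BT.node 1070 (BT.node 1069 (BT.leaf cE1069) (BT.leaf cE1070)) (BT.leaf cE1071))) (BT.node 1075 (BT.node 1073 (BT.node 1072 (BT.leaf cE1072) (BT.leaf cE1073)) (BT.node 1074 (BT.leaf cE1074) (BT.leaf cE1075))) (BT.node 1077 (BT.node 1076 (BT.leaf cE1076) (BT.leaf cE1077)) (BT.leaf cE1078)))) (BT.node 1085 (BT.node 1082 (BT.node 1080 (BT.node 1079 (BT.leaf cE1079) (BT.leaf cE1080)) (BT.node 1081 (BT.leaf cE1081) (BT.leaf cE1082))) (BT.node 1084 (BT.node 1083 (BT.leaf cE1083) (BT.leaf cE1084)) (BT.leaf cE1085))) (BT.node 1089 (BT.node 1087 (BT.node 1086 (BT.leaf cE1086) (BT.leaf cE1087)) (BT.node 1088 (BT.leaf cE1088) (BT.leaf cE1089))) (BT.node 1091 (BT.node 1090 (BT.leaf cE1090) (BT.leaf cE1091)) (BT.leaf cE1092))))) (BT.node 1106 (BT.node 1099 (BT.node 1096 (BT.node 1094 (BT.node 1093 (BT.leaf cE1093) (BT.leaf cE1094)) (BT.node 1095 (BT.leaf cE1095) (BT.leaf cE1096))) (BT.node 1098 (BT.node 1097 (BT.leaf cE1097) (BT.leaf cE1098)) (BT.leaf cE1099))) (BT.node 1103 (BT.node 1101 (BT.node 1100 (BT.leaf cE1100) (BT.leaf cE1101)) (BT.node 1102 (BT.leaf cE1102) (BT.leaf cE1103))) (BT.node 1105 (BT.node 1104 (BT.leaf cE1104) (BT.leaf cE1105)) (BT.leaf cE1106)))) (BT.node 1113 (BT.node 1110 (BT.node 1108 (BT.node 1107 (BT.leaf cE1107) (BT.leaf cE1108)) (BT.node 1109 (BT.leaf cE1109) (BT.leaf cE1110))) (BT.node 1112 (BT.node 1111 (BT.leaf cE1111) (BT.leaf cE1112)) (BT.leaf cE1113))) (BT.node 1117 (BT.node 1115 (BT.node 1114 (BT.leaf cE1114) (BT.leaf cE1115)) (BT.node 1116 (BT.leaf cE1116) (BT.leaf cE1117))) (BT.node 1119 (BT.node 1118 (BT.leaf cE1118) (BT.leaf cE1119)) (BT.leaf cE1120)))))))) (BT.node 1232 (BT.node 1176 (BT.node 1148 (BT.node 1134 (BT.node 1127 (BT.node 1124 (BT.node 1122 (BT.node 1121 (BT.leaf cE1121) (BT.leaf cE1122)) (BT.node 1123 (BT.leaf cE1123) (BT.leaf cE1124))) (BT.node 1126 (BT.node 1125 (BT.leaf cE1125) (BT.leaf cE1126)) (BT.leaf cE1127))) (BT.node 1131 (BT.node 1129 (BT.node 1128 (BT.leaf cE1128) (BT.leaf cE1129)) (BT.node 1130 (BT.leaf cE1130) (BT.leaf cE1131))) (BT.node 1133 (BT.node 1132 (BT.leaf cE1132) (BT.leaf cE1133)) (BT.leaf cE1134)))) (BT.node 1141 (BT.node 1138 (BT.node 1136 (BT.node 1135 (BT.leaf cE1135) (BT.leaf cE1136)) (BT.node 1137 (BT.leaf cE1137) (BT.leaf cE1138))) (BT.node 1140 (BT.node 1139 (BT.leaf cE1139) (BT.leaf cE1140)) (BT.leaf cE1141))) (BT.node 1145 (BT.node 1143 (BT.node 1142 (BT.leaf cE1142) (BT.leaf cE1143)) (BT.node 1144 (BT.leaf cE1144) (BT.leaf cE1145))) (BT.node 1147 (BT.node 1146 (BT.leaf cE1146) (BT.leaf cE1147)) (BT.leaf cE1148))))) (BT.node 1162 (BT.node 1155 (BT.node 1152 (BT.node 1150 (BT.node 1149 (BT.leaf cE1149) (BT.leaf cE1150)) (BT.node 1151 (BT.leaf cE1151) (BT.leaf cE1152))) (BT.node 1154 (BT.node 1153 (BT.leaf cE1153) (BT.leaf cE1154)) (BT.leaf cE1155))) (BT.node 1159 (BT.node 1157 (BT.node 1156 (BT.leaf cE1156) (BT.leaf cE1157)) (BT.node 1158 (BT.leaf cE1158) (BT.leaf cE1159))) (BT.node 1161 (BT.node 1160 (BT.leaf cE1160) (BT.leaf cE1161)) (BT.leaf cE1162)))) (BT.node 1169 (BT.node 1166 (BT.node 1164 (BT.node 1163 (BT.leaf cE1163) (BT.leaf cE1164)) (BT.node 1165 (BT.leaf cE1165) (BT.leaf cE1166))) (BT.node 1168 (BT.node 1167 (BT.leaf cE1167) (BT.leaf cE1168)) (BT.leaf cE1169))) (BT.node 1173 (BT.node 1171 (BT.node 1170 (BT.leaf cE1170) (BT.leaf cE1171)) (BT.node 1172 (BT.leaf cE1172) (BT.leaf cE1173))) (BT.node 1175 (BT.node 1174 (BT.leaf cE1174) (BT.leaf cE1175)) (BT.leaf cE1176)))))) (BT.node 1204 (BT.node 1190 (BT.node 1183 (BT.node 1180 (BT.node 1178 (BT.node 1177 (BT.leaf cE1177) (BT.leaf cE1178)) (BT.node 1179 (BT.leaf cE1179) (BT.leaf cE1180))) (BT.node 1182 (BT.node 1181 (BT.leaf cE1181) (BT.leaf cE1182)) (BT.leaf cE1183))) (BT.node 1187 (BT.node 1185 (BT.node 1184 (BT.leaf cE1184) (BT.leaf cE1185)) (BT.node 1186 (BT.leaf cE1186) (BT.leaf cE1187))) (BT.node 1189 (BT.node 1188 (BT.leaf cE1188) (BT.leaf cE1189)) (BT.leaf cE1190)))) (BT.node 1197 (BT.node 1194 (BT.node 1192 (BT.node 1191 (BT.leaf cE1191) (BT.leaf cE1192)) (BT.node 1193 (BT.leaf cE1193) (BT.leaf cE1194))) (BT.node 1196 (BT.node 1195 (BT.leaf cE1195) (BT.leaf cE1196)) (BT.leaf cE1197))) (BT.node 1201 (BT.node 1199 (BT.node 1198 (BT.leaf cE1198) (BT.leaf cE1199)) (BT.node 1200 (BT.leaf cE1200) (BT.leaf cE1201))) (BT.node 1203 (BT.node 1202 (BT.leaf cE1202) (BT.leaf cE1203)) (BT.leaf cE1204))))) (BT.node 1218 (BT.node 1211 (BT.node 1208 (BT.node 1206 (BT.node 1205 (BT.leaf cE1205) (BT.leaf cE1206)) (BT.node 1207 (BT.leaf cE1207) (BT.leaf cE1208))) (BT.node 1210 (BT.node 1209 (BT.leaf cE1209) (BT.leaf cE1210)) (BT.leaf cE1211))) (BT.node 1215 (BT.node 1213 (BT.node 1212 (BT.leaf cE1212) (BT.leaf cE1213)) (BT.node 1214 (BT.leaf cE1214) (BT.leaf cE1215))) (BT.node 1217 (BT.node 1216 (BT.leaf cE1216) (BT.leaf cE1217)) (BT.leaf cE1218)))) (BT.node 1225 (BT.node 1222 (BT.node 1220 (BT.node 1219 (BT.leaf cE1219) (BT.leaf cE1220)) (BT.node 1221 (BT.leaf cE1221) (BT.leaf cE1222))) (BT.node 1224 (BT.node 1223 (BT.leaf cE1223) (BT.leaf cE1224)) (BT.leaf cE1225))) (BT.node 1229 (BT.node 1227 (BT.node 1226 (BT.leaf cE1226) (BT.leaf cE1227)) (BT.node 1228 (BT.leaf cE1228) (BT.leaf cE1229))) (BT.node 1231 (BT.node 1230 (BT.leaf cE1230) (BT.leaf cE1231)) (BT.leaf cE1232))))))) (BT.node 1288 (BT.node 1260 (BT.node 1246 (BT.node 1239 (BT.node 1236 (BT.node 1234 (BT.node 1233 (BT.leaf cE1233) (BT.leaf cE1234)) (BT.node 1235 (BT.leaf cE1235) (BT.leaf cE1236))) (BT.node 1238 (BT.node 1237 (BT.leaf cE1237) (BT.leaf cE1238)) (BT.leaf cE1239))) (BT.node 1243 (BT.node 1241 (BT.node 1240 (BT.leaf cE1240) (BT.leaf cE1241)) (BT.node 1242 (BT.leaf cE1242) (BT.leaf cE1243))) (BT.node 1245 (BT.node 1244 (BT.leaf cE1244) (BT.leaf cE1245)) (BT.leaf cE1246)))) (BT.node 1253 (BT.node 1250 (BT.node 1248 (BT.node 1247 (BT.leaf cE1247) (BT.leaf cE1248)) (BT.node 1249 (BT.leaf cE1249) (BT.leaf cE1250))) (BT.node 1252 (BT.node 1251 (BT.leaf cE1251) (BT.leaf cE1252)) (BT.leaf cE1253))) (BT.node 1257 (BT.node 1255 (BT.node 1254 (BT.leaf cE1254) (BT.leaf cE1255)) (BT.node 1256 (BT.leaf cE1256) (BT.leaf cE1257))) (BT.node 1259 (BT.node 1258 (BT.leaf cE1258) (BT.leaf cE1259)) (BT.leaf cE1260))))) (BT.node 1274 (BT.node 1267 (BT.node 1264 (BT.node 1262 (BT.node 1261 (BT.leaf cE1261) (BT.leaf cE1262)) (BT.node 1263 (BT.leaf cE1263) (BT.leaf cE1264))) (BT.node 1266 (BT.node 1265 (BT.leaf cE1265) (BT.leaf cE1266)) (BT.leaf cE1267))) (BT.node 1271 (BT.node 1269 (BT.node 1268 (BT.leaf cE1268) (BT.leaf cE1269)) (BT.node 1270 (BT.leaf cE1270) (BT.leaf cE1271))) (BT.node 1273 (BT.node 1272 (BT.leaf cE1272) (BT.leaf cE1273)) (BT.leaf cE1274)))) (BT.node 1281 (BT.node 1278 (BT.node 1276 (BT.node 1275 (BT.leaf cE1275) (BT.leaf cE1276)) (BT.node 1277 (BT.leaf cE1277) (BT.leaf cE1278))) (BT.node 1280 (BT.node 1279 (BT.leaf cE1279) (BT.leaf cE1280)) (BT.leaf cE1281))) (BT.node 1285 (BT.node 1283 (BT.node 1282 (BT.leaf cE1282) (BT.leaf cE1283)) (BT.node 1284 (BT.leaf cE1284) (BT.leaf cE1285))) (BT.node 1287 (BT.node 1286 (BT.leaf cE1286) (BT.leaf cE1287)) (BT.leaf cE1288)))))) (BT.node 1316 (BT.node 1302 (BT.node 1295 (BT.node 1292 (BT.node 1290 (BT.node 1289 (BT.leaf cE1289) (BT.leaf cE1290)) (BT.node 1291 (BT.leaf cE1291) (BT.leaf cE1292))) (BT.node 1294 (BT.node 1293 (BT.leaf cE1293) (BT.leaf cE1294)) (BT.leaf cE1295))) (BT.node 1299 (BT.node 1297 (BT.node 1296 (BT.leaf cE1296) (BT.leaf cE1297)) (BT.node 1298 (BT.leaf cE1298) (BT.leaf cE1299))) (BT.node 1301 (BT.node 1300 (BT.leaf cE1300) (BT.leaf cE1301)) (BT.leaf cE1302)))) (BT.node 1309 (BT.node 1306 (BT.node 1304 (BT.node 1303 (BT.leaf cE1303) (BT.leaf cE1304)) (BT.node 1305 (BT.leaf cE1305) (BT.leaf cE1306))) (BT.node 1308 (BT.node 1307 (BT.leaf cE1307) (BT.leaf cE1308)) (BT.leaf cE1309))) (BT.node 1313 (BT.node 1311 (BT.node 1310 (BT.leaf cE1310) (BT.leaf cE1311)) (BT.node 1312 (BT.leaf cE1312) (BT.leaf cE1313))) (BT.node 1315 (BT.node 1314 (BT.leaf cE1314) (BT.leaf cE1315)) (BT.leaf cE1316))))) (BT.node 1330 (BT.node 1323 (BT.node 1320 (BT.node 1318 (BT.node 1317 (BT.leaf cE1317) (BT.leaf cE1318)) (BT.node 1319 (BT.leaf cE1319) (BT.leaf cE1320))) (BT.node 1322 (BT.node 1321 (BT.leaf cE1321) (BT.leaf cE1322)) (BT.leaf cE1323))) (BT.node 1327 (BT.node 1325 (BT.node 1324 (BT.leaf cE1324) (BT.leaf cE1325)) (BT.node 1326 (BT.leaf cE1326) (BT.leaf cE1327))) (BT.node 1329 (BT.node 1328 (BT.leaf cE1328) (BT.leaf cE1329)) (BT.leaf cE1330)))) (BT.node 1337 (BT.node 1334 (BT.node 1332 (BT.node 1331 (BT.leaf cE1331) (BT.leaf cE1332)) (BT.node 1333 (BT.leaf cE1333) (BT.leaf cE1334))) (BT.node 1336 (BT.node 1335 (BT.leaf cE1335) (BT.leaf cE1336)) (BT.leaf cE1337))) (BT.node 1341 (BT.node 1339 (BT.node 1338 (BT.leaf cE1338) (BT.leaf cE1339)) (BT.node 1340 (BT.leaf cE1340) (BT.leaf cE1341))) (BT.node 1343 (BT.node 1342 (BT.leaf cE1342) (BT.leaf cE1343)) (BT.leaf cE1344))))))))) (BT.node 1568 (BT.node 1456 (BT.node 1400 (BT.node 1372 (BT.node 1358 (BT.node 1351 (BT.node 1348 (BT.node 1346 (BT.node 1345 (BT.leaf cE1345) (BT.leaf cE1346)) (BT.node 1347 (BT.leaf cE1347) (BT.leaf cE1348))) (BT.node 1350 (BT.node 1349 (BT.leaf cE1349) (BT.leaf cE1350)) (BT.leaf cE1351))) (BT.node 1355 (BT.node 1353 (BT.node 1352 (BT.leaf cE1352) (BT.leaf cE1353)) (BT.node 1354 (BT.leaf cE1354) (BT.leaf cE1355))) (BT.node 1357 (BT.node 1356 (BT.leaf cE1356) (BT.leaf cE1357)) (BT.leaf cE1358)))) (BT.node 1365 (BT.node 1362 (BT.node 1360 (BT.node 1359 (BT.leaf cE1359) (BT.leaf cE1360)) (BT.node 1361 (BT.leaf cE1361) (BT.leaf cE1362))) (BT.node 1364 (BT.node 1363 (BT.leaf cE1363) (BT.leaf cE1364)) (BT.leaf cE1365))) (BT.node 1369 (BT.node 1367 (BT.node 1366 (BT.leaf cE1366) (BT.leaf cE1367)) (BT.node 1368 (BT.leaf cE1368) (BT.leaf cE1369))) (BT.node 1371 (BT.node 1370 (BT.leaf cE1370) (BT.leaf cE1371)) (BT.leaf cE1372))))) (BT.node 1386 (BT.node 1379 (BT.node 1376 (BT.node 1374 (BT.node 1373 (BT.leaf cE1373) (BT.leaf cE1374)) (BT.node 1375 (BT.leaf cE1375) (BT.leaf cE1376))) (BT.node 1378 (BT.node 1377 (BT.leaf cE1377) (BT.leaf cE1378)) (BT.leaf cE1379))) (BT.node 1383 (BT.node 1381 (BT.node 1380 (BT.leaf cE1380) (BT.leaf cE1381)) (BT.node 1382 (BT.leaf cE1382) (BT.leaf cE1383))) (BT.node 1385 (BT.node 1384 (BT.leaf cE1384) (BT.leaf cE1385)) (BT.leaf cE1386)))) (BT.node 1393 (BT.node 1390 (BT.node 1388 (BT.node 1387 (BT.leaf cE1387) (BT.leaf cE1388)) (BT.node 1389 (BT.leaf cE1389) (BT.leaf cE1390))) (BT.node 1392 (BT.node 1391 (BT.leaf cE1391) (BT.leaf cE1392)) (BT.leaf cE1393))) (BT.node 1397 (BT.node 1395 (BT.node 1394 (BT.leaf cE1394) (BT.leaf cE1395)) (BT.node 1396 (BT.leaf cE1396) (BT.leaf cE1397))) (BT.node 1399 (BT.node 1398 (BT.leaf cE1398) (BT.leaf cE1399)) (BT.leaf cE1400)))))) (BT.node 1428 (BT.node 1414 (BT.node 1407 (BT.node 1404 (BT.node 1402 (BT.node 1401 (BT.leaf cE1401) (BT.leaf cE1402)) (BT.node 1403 (BT.leaf cE1403) (BT.leaf cE1404))) (BT.node 1406 (BT.node 1405 (BT.leaf cE1405) (BT.leaf cE1406)) (BT.leaf cE1407))) (BT.node 1411 (BT.node 1409 (BT.node 1408 (BT.leaf cE1408) (BT.leaf cE1409)) (BT.node 1410 (BT.leaf cE1410) (BT.leaf cE1411))) (BT.node 1413 (BT.node 1412 (BT.leaf cE1412) (BT.leaf cE1413)) (BT.leaf cE1414)))) (BT.node 1421 (BT.node 1418 (BT.node 1416 (BT.node 1415 (BT.leaf cE1415) (BT.leaf cE1416)) (BT.node 1417 (BT.leaf cE1417) (BT.leaf cE1418))) (BT.node 1420 (BT.node 1419 (BT.leaf cE1419) (BT.leaf cE1420)) (BT.leaf cE1421))) (BT.node 1425 (BT.node 1423 (BT.node 1422 (BT.leaf cE1422) (BT.leaf cE1423)) (BT.node 1424 (BT.leaf cE1424) (BT.leaf cE1425))) (BT.node 1427 (BT.node 1426 (BT.leaf cE1426) (BT.leaf cE1427)) (BT.leaf cE1428))))) (BT.node 1442 (BT.node 1435 (BT.node 1432 (BT.node 1430 (BT.node 1429 (BT.leaf cE1429) (BT.leaf cE1430)) (BT.node 1431 (BT.leaf cE1431) (BT.leaf cE1432))) (BT.node 1434 (BT.node 1433 (BT.leaf cE1433) (BT.leaf cE1434)) (BT.leaf cE1435))) (BT.node 1439 (BT.node 1437 (BT.node 1436 (BT.leaf cE1436) (BT.leaf cE1437)) (BT.node 1438 (BT.leaf cE1438) (BT.leaf cE1439))) (BT.node 1441 (BT.node 1440 (BT.leaf cE1440) (BT.leaf cE1441)) (BT.leaf cE1442)))) (BT.node 1449 (BT.node 1446 (BT.node 1444 (BT.node 1443 (BT.leaf cE1443) (BT.leaf cE1444)) (BT.node 1445 (BT.leaf cE1445) (BT.leaf cE1446))) (BT.node 1448 (BT.node 1447 (BT.leaf cE1447) (BT.leaf cE1448)) (BT.leaf cE1449))) (BT.node 1453 (BT.node 1451 (BT.node 1450 (BT.leaf cE1450) (BT.leaf cE1451)) (BT.node 1452 (BT.leaf cE1452) (BT.leaf cE1453))) (BT.node 1455 (BT.node 1454 (BT.leaf cE1454) (BT.leaf cE1455)) (BT.leaf cE1456))))))) (BT.node 1512 (BT.node 1484 (BT.node 1470 (BT.node 1463 (BT.node 1460 (BT.node 1458 (BT.node 1457 (BT.leaf cE1457) (BT.leaf cE1458)) (BT.node 1459 (BT.leaf cE1459) (BT.leaf cE1460))) (BT.node 1462 (BT.node 1461 (BT.leaf cE1461) (BT.leaf cE1462)) (BT.leaf cE1463))) (BT.node 1467 (BT.node 1465 (BT.node 1464 (BT.leaf cE1464) (BT.leaf cE1465)) (BT.node 1466 (BT.leaf cE1466) (BT.leaf cE1467))) (BT.node 1469 (BT.node 1468 (BT.leaf cE1468) (BT.leaf cE1469)) (BT.leaf cE1470)))) (BT.node 1477 (BT.node 1474 (BT.node 1472 (BT.node 1471 (BT.leaf cE1471) (BT.leaf cE1472)) (BT.node 1473 (BT.leaf cE1473) (BT.leaf cE1474))) (BT.node 1476 (BT.node 1475 (BT.leaf cE1475) (BT.leaf cE1476)) (BT.leaf cE1477))) (BT.node 1481 (BT.node 1479 (BT.node 1478 (BT.leaf cE1478) (BT.leaf cE1479)) (BT.node 1480 (BT.leaf cE1480) (BT.leaf cE1481))) (BT.node 1483 (BT.node 1482 (BT.leaf cE1482) (BT.leaf cE1483)) (BT.leaf cE1484))))) (BT.node 1498 (BT.node 1491 (BT.node 1488 (BT.node 1486 (BT.node 1485 (BT.leaf cE1485) (BT.leaf cE1486)) (BT.node 1487 (BT.leaf cE1487) (BT.leaf cE1488))) (BT.node 1490 (BT.node 1489 (BT.leaf cE1489) (BT.leaf cE1490)) (BT.leaf cE1491))) (BT.node 1495 (BT.node 1493 (BT.node 1492 (BT.leaf cE1492) (BT.leaf cE1493)) (BT.node 1494 (BT.leaf cE1494) (BT.leaf cE1495))) (BT.node 1497 (BT.node 1496 (BT.leaf cE1496) (BT.leaf cE1497)) (BT.leaf cE1498)))) (BT.node 1505 (BT.node 1502 (BT.node 1500 (BT.node 1499 (BT.leaf cE1499) (BT.leaf cE1500)) (BT.node 1501 (BT.leaf cE1501) (BT.leaf cE1502))) (BT.node 1504 (BT.node 1503 (BT.leaf cE1503) (BT.leaf cE1504)) (BT.leaf cE1505))) (BT.node 1509 (BT.node 1507 (BT.node 1506 (BT.leaf cE1506) (BT.leaf cE1507)) (BT.node 1508 (BT.leaf cE1508) (BT.leaf cE1509))) (BT.node 1511 (BT.node 1510 (BT.leaf cE1510) (BT.leaf cE1511)) (BT.leaf cE1512)))))) (BT.node 1540 (BT.node 1526 (BT.node 1519 (BT.node 1516 (BT.node 1514 (BT.node 1513 (BT.leaf cE1513) (BT.leaf cE1514)) (BT.node 1515 (BT.leaf cE1515) (BT.leaf cE1516))) (BT.node 1518 (BT.node 1517 (BT.leaf cE1517) (BT.leaf cE1518)) (BT.leaf cE1519))) (BT.node 1523 (BT.node 1521 (BT.node 1520 (BT.leaf cE1520) (BT.leaf cE1521)) (BT.node 1522 (BT.leaf cE1522) (BT.leaf cE1523))) (BT.node 1525 (BT.node 1524 (BT.leaf cE1524) (BT.leaf cE1525)) (BT.leaf cE1526)))) (BT.node 1533 (BT.node 1530 (BT.node 1528 (BT.node 1527 (BT.leaf cE1527) (BT.leaf cE1528)) (BT.node 1529 (BT.leaf cE1529) (BT.leaf cE1530))) (BT.node 1532 (BT.node 1531 (BT.leaf cE1531) (BT.leaf cE1532)) (BT.leaf cE1533))) (BT.node 1537 (BT.node 1535 (BT.node 1534 (BT.leaf cE1534) (BT.leaf cE1535)) (BT.node 1536 (BT.leaf cE1536) (BT.leaf cE1537))) (BT.node 1539 (BT.node 1538 (BT.leaf cE1538) (BT.leaf cE1539)) (BT.leaf cE1540))))) (BT.node 1554 (BT.node 1547 (BT.node 1544 (BT.node 1542 (BT.node 1541 (BT.leaf cE1541) (BT.leaf cE1542)) (BT.node 1543 (BT.leaf cE1543) (BT.leaf cE1544))) (BT.node 1546 (BT.node 1545 (BT.leaf cE1545) (BT.leaf cE1546)) (BT.leaf cE1547))) (BT.node 1551 (BT.node 1549 (BT.node 1548 (BT.leaf cE1548) (BT.leaf cE1549)) (BT.node 1550 (BT.leaf cE1550) (BT.leaf cE1551))) (BT.node 1553 (BT.node 1552 (BT.leaf cE1552) (BT.leaf cE1553)) (BT.leaf cE1554)))) (BT.node 1561 (BT.node 1558 (BT.node 1556 (BT.node 1555 (BT.leaf cE1555) (BT.leaf cE1556)) (BT.node 1557 (BT.leaf cE1557) (BT.leaf cE1558))) (BT.node 1560 (BT.node 1559 (BT.leaf cE1559) (BT.leaf cE1560)) (BT.leaf cE1561))) (BT.node 1565 (BT.node 1563 (BT.node 1562 (BT.leaf cE1562) (BT.leaf cE1563)) (BT.node 1564 (BT.leaf cE1564) (BT.leaf cE1565))) (BT.node 1567 (BT.node 1566 (BT.leaf cE1566) (BT.leaf cE1567)) (BT.leaf cE1568)))))))) (BT.node 1680 (BT.node 1624 (BT.node 1596 (BT.node 1582 (BT.node 1575 (BT.node 1572 (BT.node 1570 (BT.node 1569 (BT.leaf cE1569) (BT.leaf cE1570)) (BT.node 1571 (BT.leaf cE1571) (BT.leaf cE1572))) (BT.node 1574 (BT.node 1573 (BT.leaf cE1573) (BT.leaf cE1574)) (BT.leaf cE1575))) (BT.node 1579 (BT.node 1577 (BT.node 1576 (BT.leaf cE1576) (BT.leaf cE1577)) (BT.node 1578 (BT.leaf cE1578) (BT.leaf cE1579))) (BT.node 1581 (BT.node 1580 (BT.leaf cE1580) (BT.leaf cE1581)) (BT.leaf cE1582)))) (BT.node 1589 (BT.node 1586 (BT.node 1584 (BT.node 1583 (BT.leaf cE1583) (BT.leaf cE1584)) (BT.node 1585 (BT.leaf cE1585) (BT.leaf cE1586))) (BT.node 1588 (BT.node 1587 (BT.leaf cE1587) (BT.leaf cE1588)) (BT.leaf cE1589))) (BT.node 1593 (BT.node 1591 (BT.node 1590 (BT.leaf cE1590) (BT.leaf cE1591)) (BT.node 1592 (BT.leaf cE1592) (BT.leaf cE1593))) (BT.node 1595 (BT.node 1594 (BT.leaf cE1594) (BT.leaf cE1595)) (BT.leaf cE1596))))) (BT.node 1610 (BT.node 1603 (BT.node 1600 (BT.node 1598 (BT.node 1597 (BT.leaf cE1597) (BT.leaf cE1598)) (BT.node 1599 (BT.leaf cE1599) (BT.leaf cE1600))) (BT.node 1602 (BT.node 1601 (BT.leaf cE1601) (BT.leaf cE1602)) (BT.leaf cE1603))) (BT.node 1607 (BT.node 1605 (BT.node 1604 (BT.leaf cE1604) (BT.leaf cE1605)) (BT.node 1606 (BT.leaf cE1606) (BT.leaf cE1607))) (BT.node 1609 (BT.node 1608 (BT.leaf cE1608) (BT.leaf cE1609)) (BT.leaf cE1610)))) (BT.node 1617 (BT.node 1614 (BT.node 1612 (BT.node 1611 (BT.leaf cE1611) (BT.leaf cE1612)) (BT.node 1613 (BT.leaf cE1613) (BT.leaf cE1614))) (BT.node 1616 (BT.node 1615 (BT.leaf cE1615) (BT.leaf cE1616)) (BT.leaf cE1617))) (BT.node 1621 (BT.node 1619 (BT.node 1618 (BT.leaf cE1618) (BT.leaf cE1619)) (BT.node 1620 (BT.leaf cE1620) (BT.leaf cE1621))) (BT.node 1623 (BT.node 1622 (BT.leaf cE1622) (BT.leaf cE1623)) (BT.leaf cE1624)))))) (BT.node 1652 (BT.node 1638 (BT.node 1631 (BT.node 1628 (BT.node 1626 (BT.node 1625 (BT.leaf cE1625) (BT.leaf cE1626)) (BT.node 1627 (BT.leaf cE1627) (BT.leaf cE1628))) (BT.node 1630 (BT.node 1629 (BT.leaf cE1629) (BT.leaf cE1630)) (BT.leaf cE1631))) (BT.node 1635 (BT.node 1633 (BT.node 1632 (BT.leaf cE1632) (BT.leaf cE1633)) (BT.node 1634 (BT.leaf cE1634) (BT.leaf cE1635))) (BT.node 1637 (BT.node 1636 (BT.leaf cE1636) (BT.leaf cE1637)) (BT.leaf cE1638)))) (BT.node 1645 (BT.node 1642 (BT.node 1640 (BT.node 1639 (BT.leaf cE1639) (BT.leaf cE1640)) (BT.node 1641 (BT.leaf cE1641) (BT.leaf cE1642))) (BT.node 1644 (BT.node 1643 (BT.leaf cE1643) (BT.leaf cE1644)) (BT.leaf cE1645))) (BT.node 1649 (BT.node 1647 (BT.node 1646 (BT.leaf cE1646) (BT.leaf cE1647)) (BT.node 1648 (BT.leaf cE1648) (BT.leaf cE1649))) (BT.node 1651 (BT.node 1650 (BT.leaf cE1650) (BT.leaf cE1651)) (BT.leaf cE1652))))) (BT.node 1666 (BT.node 1659 (BT.node 1656 (BT.node 1654 (BT.node 1653 (BT.leaf cE1653) (BT.leaf cE1654)) (BT.node 1655 (BT.leaf cE1655) (BT.leaf cE1656))) (BT.node 1658 (BT.node 1657 (BT.leaf cE1657) (BT.leaf cE1658)) (BT.leaf cE1659))) (BT.node 1663 (BT.node 1661 (BT.node 1660 (BT.leaf cE1660) (BT.leaf cE1661)) (BT.node 1662 (BT.leaf cE1662) (BT.leaf cE1663))) (BT.node 1665 (BT.node 1664 (BT.leaf cE1664) (BT.leaf cE1665)) (BT.leaf cE1666)))) (BT.node 1673 (BT.node 1670 (BT.node 1668 (BT.node 1667 (BT.leaf cE1667) (BT.leaf cE1668)) (BT.node 1669 (BT.leaf cE1669) (BT.leaf cE1670))) (BT.node 1672 (BT.node 1671 (BT.leaf cE1671) (BT.leaf cE1672)) (BT.leaf cE1673))) (BT.node 1677 (BT.node 1675 (BT.node 1674 (BT.leaf cE1674) (BT.leaf cE1675)) (BT.node 1676 (BT.leaf cE1676) (BT.leaf cE1677))) (BT.node 1679 (BT.node 1678 (BT.leaf cE1678) (BT.leaf cE1679)) (BT.leaf cE1680))))))) (BT.node 1736 (BT.node 1708 (BT.node 1694 (BT.node 1687 (BT.node 1684 (BT.node 1682 (BT.node 1681 (BT.leaf cE1681) (BT.leaf cE1682)) (BT.node 1683 (BT.leaf cE1683) (BT.leaf cE1684))) (BT.node 1686 (BT.node 1685 (BT.leaf cE1685) (BT.leaf cE1686)) (BT.leaf cE1687))) (BT.node 1691 (BT.node 1689 (BT.node 1688 (BT.leaf cE1688) (BT.leaf cE1689)) (BT.node 1690 (BT.leaf cE1690) (BT.leaf cE1691))) (BT.node 1693 (BT.node 1692 (BT.leaf cE1692) (BT.leaf cE1693)) (BT.leaf cE1694)))) (BT.node 1701 (BT.node 1698 (BT.node 1696 (BT.node 1695 (BT.leaf cE1695) (BT.leaf cE1696)) (BT.node 1697 (BT.leaf cE1697) (BT.leaf cE1698))) (BT.node 1700 (BT.node 1699 (BT.leaf cE1699) (BT.leaf cE1700)) (BT.leaf cE1701))) (BT.node 1705 (BT.node 1703 (BT.node 1702 (BT.leaf cE1702) (BT.leaf cE1703)) (BT.node 1704 (BT.leaf cE1704) (BT.leaf cE1705))) (BT.node 1707 (BT.node 1706 (BT.leaf cE1706) (BT.leaf cE1707)) (BT.leaf cE1708))))) (BT.node 1722 (BT.node 1715 (BT.node 1712 (BT.node 1710 (BT.node 1709 (BT.leaf cE1709) (BT.leaf cE1710)) (BT.node 1711 (BT.leaf cE1711) (BT.leaf cE1712))) (BT.node 1714 (BT.node 1713 (BT.leaf cE1713) (BT.leaf cE1714)) (BT.leaf cE1715))) (BT.node 1719 (BT.node 1717 (BT.node 1716 (BT.leaf cE1716) (BT.leaf cE1717)) (BT.node 1718 (BT.leaf cE1718) (BT.leaf cE1719))) (BT.node 1721 (BT.node 1720 (BT.leaf cE1720) (BT.leaf cE1721)) (BT.leaf cE1722)))) (BT.node 1729 (BT.node 1726 (BT.node 1724 (BT.node 1723 (BT.leaf cE1723) (BT.leaf cE1724)) (BT.node 1725 (BT.leaf cE1725) (BT.leaf cE1726))) (BT.node 1728 (BT.node 1727 (BT.leaf cE1727) (BT.leaf cE1728)) (BT.leaf cE1729))) (BT.node 1733 (BT.node 1731 (BT.node 1730 (BT.leaf cE1730) (BT.leaf cE1731)) (BT.node 1732 (BT.leaf cE1732) (BT.leaf cE1733))) (BT.node 1735 (BT.node 1734 (BT.leaf cE1734) (BT.leaf cE1735)) (BT.leaf cE1736)))))) (BT.node 1764 (BT.node 1750 (BT.node 1743 (BT.node 1740 (BT.node 1738 (BT.node 1737 (BT.leaf cE1737) (BT.leaf cE1738)) (BT.node 1739 (BT.leaf cE1739) (BT.leaf cE1740))) (BT.node 1742 (BT.node 1741 (BT.leaf cE1741) (BT.leaf cE1742)) (BT.leaf cE1743))) (BT.node 1747 (BT.node 1745 (BT.node 1744 (BT.leaf cE1744) (BT.leaf cE1745)) (BT.node 1746 (BT.leaf cE1746) (BT.leaf cE1747))) (BT.node 1749 (BT.node 1748 (BT.leaf cE1748) (BT.leaf cE1749)) (BT.leaf cE1750)))) (BT.node 1757 (BT.node 1754 (BT.node 1752 (BT.node 1751 (BT.leaf cE1751) (BT.leaf cE1752)) (BT.node 1753 (BT.leaf cE1753) (BT.leaf cE1754))) (BT.node 1756 (BT.node 1755 (BT.leaf cE1755) (BT.leaf cE1756)) (BT.leaf cE1757))) (BT.node 1761 (BT.node 1759 (BT.node 1758 (BT.leaf cE1758) (BT.leaf cE1759)) (BT.node 1760 (BT.leaf cE1760) (BT.leaf cE1761))) (BT.node 1763 (BT.node 1762 (BT.leaf cE1762) (BT.leaf cE1763)) (BT.leaf cE1764))))) (BT.node 1778 (BT.node 1771 (BT.node 1768 (BT.node 1766 (BT.node 1765 (BT.leaf cE1765) (BT.leaf cE1766)) (BT.node 1767 (BT.leaf cE1767) (BT.leaf cE1768))) (BT.node 1770 (BT.node 1769 (BT.leaf cE1769) (BT.leaf cE1770)) (BT.leaf cE1771))) (BT.node 1775 (BT.node 1773 (BT.node 1772 (BT.leaf cE1772) (BT.leaf cE1773)) (BT.node 1774 (BT.leaf cE1774) (BT.leaf cE1775))) (BT.node 1777 (BT.node 1776 (BT.leaf cE1776) (BT.leaf cE1777)) (BT.leaf cE1778)))) (BT.node 1785 (BT.node 1782 (BT.node 1780 (BT.node 1779 (BT.leaf cE1779) (BT.leaf cE1780)) (BT.node 1781 (BT.leaf cE1781) (BT.leaf cE1782))) (BT.node 1784 (BT.node 1783 (BT.leaf cE1783) (BT.leaf cE1784)) (BT.leaf cE1785))) (BT.node 1789 (BT.node 1787 (BT.node 1786 (BT.leaf cE1786) (BT.leaf cE1787)) (BT.node 1788 (BT.leaf cE1788) (BT.leaf cE1789))) (BT.node 1791 (BT.node 1790 (BT.leaf cE1790) (BT.leaf cE1791)) (BT.leaf cE1792))))))))))) (BT.node 2688 (BT.node 2240 (BT.node 2016 (BT.node 1904 (BT.node 1848 (BT.node 1820 (BT.node 1806 (BT.node 1799 (BT.node 1796 (BT.node 1794 (BT.node 1793 (BT.leaf cE1793) (BT.leaf cE1794)) (BT.node 1795 (BT.leaf cE1795) (BT.leaf cE1796))) (BT.node 1798 (BT.node 1797 (BT.leaf cE1797) (BT.leaf cE1798)) (BT.leaf cE1799))) (BT.node 1803 (BT.node 1801 (BT.node 1800 (BT.leaf cE1800) (BT.leaf cE1801)) (BT.node 1802 (BT.leaf cE1802) (BT.leaf cE1803))) (BT.node 1805 (BT.node 1804 (BT.leaf cE1804) (BT.leaf cE1805)) (BT.leaf cE1806)))) (BT.node 1813 (BT.node 1810 (BT.node 1808 (BT.node 1807 (BT.leaf cE1807) (BT.leaf cE1808)) (BT.node 1809 (BT.leaf cE1809) (BT.leaf cE1810))) (BT.node 1812 (BT.node 1811 (BT.leaf cE1811) (BT.leaf cE1812)) (BT.leaf cE1813))) (BT.node 1817 (BT.node 1815 (BT.node 1814 (BT.leaf cE1814) (BT.leaf cE1815)) (BT.node 1816 (BT.leaf cE1816) (BT.leaf cE1817))) (BT.node 1819 (BT.node 1818 (BT.leaf cE1818) (BT.leaf cE1819)) (BT.leaf cE1820))))) (BT.node 1834 (BT.node 1827 (BT.node 1824 (BT.node 1822 (BT.node 1821 (BT.leaf cE1821) (BT.leaf cE1822)) (BT.node 1823 (BT.leaf cE1823) (BT.leaf cE1824))) (BT.node 1826 (BT.node 1825 (BT.leaf cE1825) (BT.leaf cE1826)) (BT.leaf cE1827))) (BT.node 1831 (BT.node 1829 (BT.node 1828 (BT.leaf cE1828) (BT.leaf cE1829)) (BT.node 1830 (BT.leaf cE1830) (BT.leaf cE1831))) (BT.node 1833 (BT.node 1832 (BT.leaf cE1832) (BT.leaf cE1833)) (BT.leaf cE1834)))) (BT.node 1841 (BT.node 1838 (BT.node 1836 (BT.node 1835 (BT.leaf cE1835) (BT.leaf cE1836)) (BT.node 1837 (BT.leaf cE1837) (BT.leaf cE1838))) (BT.node 1840 (BT.node 1839 (BT.leaf cE1839) (BT.leaf cE1840)) (BT.leaf cE1841))) (BT.node 1845 (BT.node 1843 (BT.node 1842 (BT.leaf cE1842) (BT.leaf cE1843)) (BT.node 1844 (BT.leaf cE1844) (BT.leaf cE1845))) (BT.node 1847 (BT.node 1846 (BT.leaf cE1846) (BT.leaf cE1847)) (BT.leaf cE1848)))))) (BT.node 1876 (BT.node 1862 (BT.node 1855 (BT.node 1852 (BT.node 1850 (BT.node 1849 (BT.leaf cE1849) (BT.leaf cE1850)) (BT.node 1851 (BT.leaf cE1851) (BT.leaf cE1852))) (BT.node 1854 (BT.node 1853 (BT.leaf cE1853) (BT.leaf cE1854)) (BT.leaf cE1855))) (BT.node 1859 (BT.node 1857 (BT.node 1856 (BT.leaf cE1856) (BT.leaf cE1857)) (BT.node 1858 (BT.leaf cE1858) (BT.leaf cE1859))) (BT.node 1861 (BT.node 1860 (BT.leaf cE1860) (BT.leaf cE1861)) (BT.leaf cE1862)))) (BT.node 1869 (BT.node 1866 (BT.node 1864 (BT.node 1863 (BT.leaf cE1863) (BT.leaf cE1864)) (BT.node 1865 (BT.leaf cE1865) (BT.leaf cE1866))) (BT.node 1868 (BT.node 1867 (BT.leaf cE1867) (BT.leaf cE1868)) (BT.leaf cE1869))) (BT.node 1873 (BT.node 1871 (BT.node 1870 (BT.leaf cE1870) (BT.leaf cE1871)) (BT.node 1872 (BT.leaf cE1872) (BT.leaf cE1873))) (BT.node 1875 (BT.node 1874 (BT.leaf cE1874) (BT.leaf cE1875)) (BT.leaf cE1876))))) (BT.node 1890 (BT.node 1883 (BT.node 1880 (BT.node 1878 (BT.node 1877 (BT.leaf cE1877) (BT.leaf cE1878)) (BT.node 1879 (BT.leaf cE1879) (BT.leaf cE1880))) (BT.node 1882 (BT.node 1881 (BT.leaf cE1881) (BT.leaf cE1882)) (BT.leaf cE1883))) (BT.node 1887 (BT.node 1885 (BT.node 1884 (BT.leaf cE1884) (BT.leaf cE1885)) (BT.node 1886 (BT.leaf cE1886) (BT.leaf cE1887))) (BT.node 1889 (BT.node 1888 (BT.leaf cE1888) (BT.leaf cE1889)) (BT.leaf cE1890)))) (BT.node 1897 (BT.node 1894 (BT.node 1892 (BT.node 1891 (BT.leaf cE1891) (BT.leaf cE1892)) (BT.node 1893 (BT.leaf cE1893) (BT.leaf cE1894))) (BT.node 1896 (BT.node 1895 (BT.leaf cE1895) (BT.leaf cE1896)) (BT.leaf cE1897))) (BT.node 1901 (BT.node 1899 (BT.node 1898 (BT.leaf cE1898) (BT.leaf cE1899)) (BT.node 1900 (BT.leaf cE1900) (BT.leaf cE1901))) (BT.node 1903 (BT.node 1902 (BT.leaf cE1902) (BT.leaf cE1903)) (BT.leaf cE1904))))))) (BT.node 1960 (BT.node 1932 (BT.node 1918 (BT.node 1911 (BT.node 1908 (BT.node 1906 (BT.node 1905 (BT.leaf cE1905) (BT.leaf cE1906)) (BT.node 1907 (BT.leaf cE1907) (BT.leaf cE1908))) (BT.node 1910 (BT.node 1909 (BT.leaf cE1909) (BT.leaf cE1910)) (BT.leaf cE1911))) (BT.node 1915 (BT.node 1913 (BT.node 1912 (BT.leaf cE1912) (BT.leaf cE1913)) (BT.node 1914 (BT.leaf cE1914) (BT.leaf cE1915))) (BT.node 1917 (BT.node 1916 (BT.leaf cE1916) (BT.leaf cE1917)) (BT.leaf cE1918)))) (BT.node 1925 (BT.node 1922 (BT.node 1920 (BT.node 1919 (BT.leaf cE1919) (BT.leaf cE1920)) (BT.node 1921 (BT.leaf cE1921) (BT.leaf cE1922))) (BT.node 1924 (BT.node 1923 (BT.leaf cE1923) (BT.leaf cE1924)) (BT.leaf cE1925))) (BT.node 1929 (BT.node 1927 (BT.node 1926 (BT.leaf cE1926) (BT.leaf cE1927)) (BT.node 1928 (BT.leaf cE1928) (BT.leaf cE1929))) (BT.node 1931 (BT.node 1930 (BT.leaf cE1930) (BT.leaf cE1931)) (BT.leaf cE1932))))) (BT.node 1946 (BT.node 1939 (BT.node 1936 (BT.node 1934 (BT.node 1933 (BT.leaf cE1933) (BT.leaf cE1934)) (BT.node 1935 (BT.leaf cE1935) (BT.leaf cE1936))) (BT.node 1938 (BT.node 1937 (BT.leaf cE1937) (BT.leaf cE1938)) (BT.leaf cE1939))) (BT.node 1943 (BT.node 1941 (BT.node 1940 (BT.leaf cE1940) (BT.leaf cE1941)) (BT.node 1942 (BT.leaf cE1942) (BT.leaf cE1943))) (BT.node 1945 (BT.node 1944 (BT.leaf cE1944) (BT.leaf cE1945)) (BT.leaf cE1946)))) (BT.node 1953 (BT.node 1950 (BT.node 1948 (BT.node 1947 (BT.leaf cE1947) (BT.leaf cE1948)) (BT.node 1949 (BT.leaf cE1949) (BT.leaf cE1950))) (BT.node 1952 (BT.node 1951 (BT.leaf cE1951) (BT.leaf cE1952)) (BT.leaf cE1953))) (BT.node 1957 (BT.node 1955 (BT.node 1954 (BT.leaf cE1954) (BT.leaf cE1955)) (BT.node 1956 (BT.leaf cE1956) (BT.leaf cE1957))) (BT.node 1959 (BT.node 1958 (BT.leaf cE1958) (BT.leaf cE1959)) (BT.leaf cE1960)))))) (BT.node 1988 (BT.node 1974 (BT.node 1967 (BT.node 1964 (BT.node 1962 (BT.node 1961 (BT.leaf cE1961) (BT.leaf cE1962)) (BT.node 1963 (BT.leaf cE1963) (BT.leaf cE1964))) (BT.node 1966 (BT.node 1965 (BT.leaf cE1965) (BT.leaf cE1966)) (BT.leaf cE1967))) (BT.node 1971 (BT.node 1969 (BT.node 1968 (BT.leaf cE1968) (BT.leaf cE1969)) (BT.node 1970 (BT.leaf cE1970) (BT.leaf cE1971))) (BT.node 1973 (BT.node 1972 (BT.leaf cE1972) (BT.leaf cE1973)) (BT.leaf cE1974)))) (BT.node 1981 (BT.node 1978 (BT.node 1976 (BT.node 1975 (BT.leaf cE1975) (BT.leaf cE1976)) (BT.node 1977 (BT.leaf cE1977) (BT.leaf cE1978))) (BT.node 1980 (BT.node 1979 (BT.leaf cE1979) (BT.leaf cE1980)) (BT.leaf cE1981))) (BT.node 1985 (BT.node 1983 (BT.node 1982 (BT.leaf cE1982) (BT.leaf cE1983)) (BT.node 1984 (BT.leaf cE1984) (BT.leaf cE1985))) (BT.node 1987 (BT.node 1986 (BT.leaf cE1986) (BT.leaf cE1987)) (BT.leaf cE1988))))) (BT.node 2002 (BT.node 1995 (BT.node 1992 (BT.node 1990 (BT.node 1989 (BT.leaf cE1989) (BT.leaf cE1990)) (BT.node 1991 (BT.leaf cE1991) (BT.leaf cE1992))) (BT.node 1994 (BT.node 1993 (BT.leaf cE1993) (BT.leaf cE1994)) (BT.leaf cE1995))) (BT.node 1999 (BT.node 1997 (BT.node 1996 (BT.leaf cE1996) (BT.leaf cE1997)) (BT.node 1998 (BT.leaf cE1998) (BT.leaf cE1999))) (BT.node 2001 (BT.node 2000 (BT.leaf cE2000) (BT.leaf cE2001)) (BT.leaf cE2002)))) (BT.node 2009 (BT.node 2006 (BT.node 2004 (BT.node 2003 (BT.leaf cE2003) (BT.leaf cE2004)) (BT.node 2005 (BT.leaf cE2005) (BT.leaf cE2006))) (BT.node 2008 (BT.node 2007 (BT.leaf cE2007) (BT.leaf cE2008)) (BT.leaf cE2009))) (BT.node 2013 (BT.node 2011 (BT.node 2010 (BT.leaf cE2010) (BT.leaf cE2011)) (BT.node 2012 (BT.leaf cE2012) (BT.leaf cE2013))) (BT.node 2015 (BT.node 2014 (BT.leaf cE2014) (BT.leaf cE2015)) (BT.leaf cE2016)))))))) (BT.node 2128 (BT.node 2072 (BT.node 2044 (BT.node 2030 (BT.node 2023 (BT.node 2020 (BT.node 2018 (BT.node 2017 (BT.leaf cE2017) (BT.leaf cE2018)) (BT.node 2019 (BT.leaf cE2019) (BT.leaf cE2020))) (BT.node 2022 (BT.node 2021 (BT.leaf cE2021) (BT.leaf cE2022)) (BT.leaf cE2023))) (BT.node 2027 (BT.node 2025 (BT.node 2024 (BT.leaf cE2024) (BT.leaf cE2025)) (BT.node 2026 (BT.leaf cE2026) (BT.leaf cE2027))) (BT.node 2029 (BT.node 2028 (BT.leaf cE2028) (BT.leaf cE2029)) (BT.leaf cE2030)))) (BT.node 2037 (BT.node 2034 (BT.node 2032 (BT.node 2031 (BT.leaf cE2031) (BT.leaf cE2032)) (BT.node 2033 (BT.leaf cE2033) (BT.leaf cE2034))) (BT.node 2036 (BT.node 2035 (BT.leaf cE2035) (BT.leaf cE2036)) (BT.leaf cE2037))) (BT.node 2041 (BT.node 2039 (BT.node 2038 (BT.leaf cE2038) (BT.leaf cE2039)) (BT.node 2040 (BT.leaf cE2040) (BT.leaf cE2041))) (BT.node 2043 (BT.node 2042 (BT.leaf cE2042) (BT.leaf cE2043)) (BT.leaf cE2044))))) (BT.node 2058 (BT.node 2051 (BT.node 2048 (BT.node 2046 (BT.node 2045 (BT.leaf cE2045) (BT.leaf cE2046)) (BT.node 2047 (BT.leaf cE2047) (BT.leaf cE2048))) (BT.node 2050 (BT.node 2049 (BT.leaf cE2049) (BT.leaf cE2050)) (BT.leaf cE2051))) (BT.node 2055 (BT.node 2053 (BT.node 2052 (BT.leaf cE2052) (BT.leaf cE2053)) (BT.node 2054 (BT.leaf cE2054) (BT.leaf cE2055))) (BT.node 2057 (BT.node 2056 (BT.leaf cE2056) (BT.leaf cE2057)) (BT.leaf cE2058)))) (BT.node 2065 (BT.node 2062 (BT.node 2060 (BT.node 2059 (BT.leaf cE2059) (BT.leaf cE2060)) (BT.node 2061 (BT.leaf cE2061) (BT.leaf cE2062))) (BT.node 2064 (BT.node 2063 (BT.leaf cE2063) (BT.leaf cE2064)) (BT.leaf cE2065))) (BT.node 2069 (BT.node 2067 (BT.node 2066 (BT.leaf cE2066) (BT.leaf cE2067)) (BT.node 2068 (BT.leaf cE2068) (BT.leaf cE2069))) (BT.node 2071 (BT.node 2070 (BT.leaf cE2070) (BT.leaf cE2071)) (BT.leaf cE2072)))))) (BT.node 2100 (BT.node 2086 (BT.node 2079 (BT.node 2076 (BT.node 2074 (BT.node 2073 (BT.leaf cE2073) (BT.leaf cE2074)) (BT.node 2075 (BT.leaf cE2075) (BT.leaf cE2076))) (BT.node 2078 (BT.node 2077 (BT.leaf cE2077) (BT.leaf cE2078)) (BT.leaf cE2079))) (BT.node 2083 (BT.node 2081 (BT.node 2080 (BT.leaf cE2080) (BT.leaf cE2081)) (BT.node 2082 (BT.leaf cE2082) (BT.leaf cE2083))) (BT.node 2085 (BT.node 2084 (BT.leaf cE2084) (BT.leaf cE2085)) (BT.leaf cE2086)))) (BT.node 2093 (BT.node 2090 (BT.node 2088 (BT.node 2087 (BT.leaf cE2087) (BT.leaf cE2088)) (BT.node 2089 (BT.leaf cE2089) (BT.leaf cE2090))) (BT.node 2092 (BT.node 2091 (BT.leaf cE2091) (BT.leaf cE2092)) (BT.leaf cE2093))) (BT.node 2097 (BT.node 2095 (BT.node 2094 (BT.leaf cE2094) (BT.leaf cE2095)) (BT.node 2096 (BT.leaf cE2096) (BT.leaf cE2097))) (BT.node 2099 (BT.node 2098 (BT.leaf cE2098) (BT.leaf cE2099)) (BT.leaf cE2100))))) (BT.node 2114 (BT.node 2107 (BT.node 2104 (BT.node 2102 (BT.node 2101 (BT.leaf cE2101) (BT.leaf cE2102)) (BT.node 2103 (BT.leaf cE2103) (BT.leaf cE2104))) (BT.node 2106 (BT.node 2105 (BT.leaf cE2105) (BT.leaf cE2106)) (BT.leaf cE2107))) (BT.node 2111 (BT.node 2109 (BT.node 2108 (BT.leaf cE2108) (BT.leaf cE2109)) (BT.node 2110 (BT.leaf cE2110) (BT.leaf cE2111))) (BT.node 2113 (BT.node 2112 (BT.leaf cE2112) (BT.leaf cE2113)) (BT.leaf cE2114)))) (BT.node 2121 (BT.node 2118 (BT.node 2116 (BT.node 2115 (BT.leaf cE2115) (BT.leaf cE2116)) (BT.node 2117 (BT.leaf cE2117) (BT.leaf cE2118))) (BT.node 2120 (BT.node 2119 (BT.leaf cE2119) (BT.leaf cE2120)) (BT.leaf cE2121))) (BT.node 2125 (BT.node 2123 (BT.node 2122 (BT.leaf cE2122) (BT.leaf cE2123)) (BT.node 2124 (BT.leaf cE2124) (BT.leaf cE2125))) (BT.node 2127 (BT.node 2126 (BT.leaf cE2126) (BT.leaf cE2127)) (BT.leaf cE2128))))))) (BT.node 2184 (BT.node 2156 (BT.node 2142 (BT.node 2135 (BT.node 2132 (BT.node 2130 (BT.node 2129 (BT.leaf cE2129) (BT.leaf cE2130)) (BT.node 2131 (BT.leaf cE2131) (BT.leaf cE2132))) (BT.node 2134 (BT.node 2133 (BT.leaf cE2133) (BT.leaf cE2134)) (BT.leaf cE2135))) (BT.node 2139 (BT.node 2137 (BT.node 2136 (BT.leaf cE2136) (BT.leaf cE2137)) (BT.node 2138 (BT.leaf cE2138) (BT.leaf cE2139))) (BT.node 2141 (BT.node 2140 (BT.leaf cE2140) (BT.leaf cE2141)) (BT.leaf cE2142)))) (BT.node 2149 (BT.node 2146 (BT.node 2144 (BT.node 2143 (BT.leaf cE2143) (BT.leaf cE2144)) (BT.node 2145 (BT.leaf cE2145) (BT.leaf cE2146))) (BT.node 2148 (BT.node 2147 (BT.leaf cE2147) (BT.leaf cE2148)) (BT.leaf cE2149))) (BT.node 2153 (BT.node 2151 (BT.node 2150 (BT.leaf cE2150) (BT.leaf cE2151)) (BT.node 2152 (BT.leaf cE2152) (BT.leaf cE2153))) (BT.node 2155 (BT.node 2154 (BT.leaf cE2154) (BT.leaf cE2155)) (BT.leaf cE2156))))) (BT.node 2170 (BT.node 2163 (BT.node 2160 (BT.node 2158 (BT.node 2157 (BT.leaf cE2157) (BT.leaf cE2158)) (BT.node 2159 (BT.leaf cE2159) (BT.leaf cE2160))) (BT.node 2162 (BT.node 2161 (BT.leaf cE2161) (BT.leaf cE2162)) (BT.leaf cE2163))) (BT.node 2167 (BT.node 2165 (BT.node 2164 (BT.leaf cE2164) (BT.leaf cE2165)) (BT.node 2166 (BT.leaf cE2166) (BT.leaf cE2167))) (BT.node 2169 (BT.node 2168 (BT.leaf cE2168) (BT.leaf cE2169)) (BT.leaf cE2170)))) (BT.node 2177 (BT.node 2174 (BT.node 2172 (BT.node 2171 (BT.leaf cE2171) (BT.leaf cE2172)) (BT.node 2173 (BT.leaf cE2173) (BT.leaf cE2174))) (BT.node 2176 (BT.node 2175 (BT.leaf cE2175) (BT.leaf cE2176)) (BT.leaf cE2177))) (BT.node 2181 (BT.node 2179 (BT.node 2178 (BT.leaf cE2178) (BT.leaf cE2179)) (BT.node 2180 (BT.leaf cE2180) (BT.leaf cE2181))) (BT.node 2183 (BT.node 2182 (BT.leaf cE2182) (BT.leaf cE2183)) (BT.leaf cE2184)))))) (BT.node 2212 (BT.node 2198 (BT.node 2191 (BT.node 2188 (BT.node 2186 (BT.node 2185 (BT.leaf cE2185) (BT.leaf cE2186)) (BT.node 2187 (BT.leaf cE2187) (BT.leaf cE2188))) (BT.node 2190 (BT.node 2189 (BT.leaf cE2189) (BT.leaf cE2190)) (BT.leaf cE2191))) (BT.node 2195 (BT.node 2193 (BT.node 2192 (BT.leaf cE2192) (BT.leaf cE2193)) (BT.node 2194 (BT.leaf cE2194) (BT.leaf cE2195))) (BT.node 2197 (BT.node 2196 (BT.leaf cE2196) (BT.leaf cE2197)) (BT.leaf cE2198)))) (BT.node 2205 (BT.node 2202 (BT.node 2200 (BT.node 2199 (BT.leaf cE2199) (BT.leaf cE2200)) (BT.node 2201 (BT.leaf cE2201) (BT.leaf cE2202))) (BT.node 2204 (BT.node 2203 (BT.leaf cE2203) (BT.leaf cE2204)) (BT.leaf cE2205))) (BT.node 2209 (BT.node 2207 (BT.node 2206 (BT.leaf cE2206) (BT.leaf cE2207)) (BT.node 2208 (BT.leaf cE2208) (BT.leaf cE2209))) (BT.node 2211 (BT.node 2210 (BT.leaf cE2210) (BT.leaf cE2211)) (BT.leaf cE2212))))) (BT.node 2226 (BT.node 2219 (BT.node 2216 (BT.node 2214 (BT.node 2213 (BT.leaf cE2213) (BT.leaf cE2214)) (BT.node 2215 (BT.leaf cE2215) (BT.leaf cE2216))) (BT.node 2218 (BT.node 2217 (BT.leaf cE2217) (BT.leaf cE2218)) (BT.leaf cE2219))) (BT.node 2223 (BT.node 2221 (BT.node 2220 (BT.leaf cE2220) (BT.leaf cE2221)) (BT.node 2222 (BT.leaf cE2222) (BT.leaf cE2223))) (BT.node 2225 (BT.node 2224 (BT.leaf cE2224) (BT.leaf cE2225)) (BT.leaf cE2226)))) (BT.node 2233 (BT.node 2230 (BT.node 2228 (BT.node 2227 (BT.leaf cE2227) (BT.leaf cE2228)) (BT.node 2229 (BT.leaf cE2229) (BT.leaf cE2230))) (BT.node 2232 (BT.node 2231 (BT.leaf cE2231) (BT.leaf cE2232)) (BT.leaf cE2233))) (BT.node 2237 (BT.node 2235 (BT.node 2234 (BT.leaf cE2234) (BT.leaf cE2235)) (BT.node 2236 (BT.leaf cE2236) (BT.leaf cE2237))) (BT.node 2239 (BT.node 2238 (BT.leaf cE2238) (BT.leaf cE2239)) (BT.leaf cE2240))))))))) (BT.node 2464 (BT.node 2352 (BT.node 2296 (BT.node 2268 (BT.node 2254 (BT.node 2247 (BT.node 2244 (BT.node 2242 (BT.node 2241 (BT.leaf cE2241) (BT.leaf cE2242)) (BT.node 2243 (BT.leaf cE2243) (BT.leaf cE2244))) (BT.node 2246 (BT.node 2245 (BT.leaf cE2245) (BT.leaf cE2246)) (BT.leaf cE2247))) (BT.node 2251 (BT.node 2249 (BT.node 2248 (BT.leaf cE2248) (BT.leaf cE2249)) (BT.node 2250 (BT.leaf cE2250) (BT.leaf cE2251))) (BT.node 2253 (BT.node 2252 (BT.leaf cE2252) (BT.leaf cE2253)) (BT.leaf cE2254)))) (BT.node 2261 (BT.node 2258 (BT.node 2256 (BT.node 2255 (BT.leaf cE2255) (BT.leaf cE2256)) (BT.node 2257 (BT.leaf cE2257) (BT.leaf cE2258))) (BT.node 2260 (BT.node 2259 (BT.leaf cE2259) (BT.leaf cE2260)) (BT.leaf cE2261))) (BT.node 2265 (BT.node 2263 (BT.node 2262 (BT.leaf cE2262) (BT.leaf cE2263)) (BT.node 2264 (BT.leaf cE2264) (BT.leaf cE2265))) (BT.node 2267 (BT.node 2266 (BT.leaf cE2266) (BT.leaf cE2267)) (BT.leaf cE2268))))) (BT.node 2282 (BT.node 2275 (BT.node 2272 (BT.node 2270 (BT.node 2269 (BT.leaf cE2269) (BT.leaf cE2270)) (BT.node 2271 (BT.leaf cE2271) (BT.leaf cE2272))) (BT.node 2274 (BT.node 2273 (BT.leaf cE2273) (BT.leaf cE2274)) (BT.leaf cE2275))) (BT.node 2279 (BT.node 2277 (BT.node 2276 (BT.leaf cE2276) (BT.leaf cE2277)) (BT.node 2278 (BT.leaf cE2278) (BT.leaf cE2279))) (BT.node 2281 (BT.node 2280 (BT.leaf cE2280) (BT.leaf cE2281)) (BT.leaf cE2282)))) (BT.node 2289 (BT.node 2286 (BT.node 2284 (BT.node 2283 (BT.leaf cE2283) (BT.leaf cE2284)) (BT.node 2285 (BT.leaf cE2285) (BT.leaf cE2286))) (BT.node 2288 (BT.node 2287 (BT.leaf cE2287) (BT.leaf cE2288)) (BT.leaf cE2289))) (BT.node 2293 (BT.node 2291 (BT.node 2290 (BT.leaf cE2290) (BT.leaf cE2291)) (BT.node 2292 (BT.leaf cE2292) (BT.leaf cE2293))) (BT.node 2295 (BT.node 2294 (BT.leaf cE2294) (BT.leaf cE2295)) (BT.leaf cE2296)))))) (BT.node 2324 (BT.node 2310 (BT.node 2303 (BT.node 2300 (BT.node 2298 (BT.node 2297 (BT.leaf cE2297) (BT.leaf cE2298)) (BT.node 2299 (BT.leaf cE2299) (BT.leaf cE2300))) (BT.node 2302 (BT.node 2301 (BT.leaf cE2301) (BT.leaf cE2302)) (BT.leaf cE2303))) (BT.node 2307 (BT.node 2305 (BT.node 2304 (BT.leaf cE2304) (BT.leaf cE2305)) (BT.node 2306 (BT.leaf cE2306) (BT.leaf cE2307))) (BT.node 2309 (BT.node 2308 (BT.leaf cE2308) (BT.leaf cE2309)) (BT.leaf cE2310)))) (BT.node 2317 (BT.node 2314 (BT.node 2312 (BT.node 2311 (BT.leaf cE2311) (BT.leaf cE2312)) (BT.node 2313 (BT.leaf cE2313) (BT.leaf cE2314))) (BT.node 2316 (BT.node 2315 (BT.leaf cE2315) (BT.leaf cE2316)) (BT.leaf cE2317))) (BT.node 2321 (BT.node 2319 (BT.node 2318 (BT.leaf cE2318) (BT.leaf cE2319)) (BT.node 2320 (BT.leaf cE2320) (BT.leaf cE2321))) (BT.node 2323 (BT.node 2322 (BT.leaf cE2322) (BT.leaf cE2323)) (BT.leaf cE2324))))) (BT.node 2338 (BT.node 2331 (BT.node 2328 (BT.node 2326 (BT.node 2325 (BT.leaf cE2325) (BT.leaf cE2326)) (BT.node 2327 (BT.leaf cE2327) (BT.leaf cE2328))) (BT.node 2330 (BT.node 2329 (BT.leaf cE2329) (BT.leaf cE2330)) (BT.leaf cE2331))) (BT.node 2335 (BT.node 2333 (BT.node 2332 (BT.leaf cE2332) (BT.leaf cE2333)) (BT.node 2334 (BT.leaf cE2334) (BT.leaf cE2335))) (BT.node 2337 (BT.node 2336 (BT.leaf cE2336) (BT.leaf cE2337)) (BT.leaf cE2338)))) (BT.node 2345 (BT.node 2342 (BT.node 2340 (BT.node 2339 (BT.leaf cE2339) (BT.leaf cE2340)) (BT.node 2341 (BT.leaf cE2341) (BT.leaf cE2342))) (BT.node 2344 (BT.node 2343 (BT.leaf cE2343) (BT.leaf cE2344)) (BT.leaf cE2345))) (BT.node 2349 (BT.node 2347 (BT.node 2346 (BT.leaf cE2346) (BT.leaf cE2347)) (BT.node 2348 (BT.leaf cE2348) (BT.leaf cE2349))) (BT.node 2351 (BT.node 2350 (BT.leaf cE2350) (BT.leaf cE2351)) (BT.leaf cE2352))))))) (BT.node 2408 (BT.node 2380 (BT.node 2366 (BT.node 2359 (BT.node 2356 (BT.node 2354 (BT.node 2353 (BT.leaf cE2353) (BT.leaf cE2354)) (BT.node 2355 (BT.leaf cE2355) (BT.leaf cE2356))) (BT.node 2358 (BT.node 2357 (BT.leaf cE2357) (BT.leaf cE2358)) (BT.leaf cE2359))) (BT.node 2363 (BT.node 2361 (BT.node 2360 (BT.leaf cE2360) (BT.leaf cE2361)) (BT.node 2362 (BT.leaf cE2362) (BT.leaf cE2363))) (BT.node 2365 (BT.node 2364 (BT.leaf cE2364) (BT.leaf cE2365)) (BT.leaf cE2366)))) (BT.node 2373 (BT.node 2370 (BT.node 2368 (BT.node 2367 (BT.leaf cE2367) (BT.leaf cE2368)) (BT.node 2369 (BT.leaf cE2369) (BT.leaf cE2370))) (BT.node 2372 (BT.node 2371 (BT.leaf cE2371) (BT.leaf cE2372)) (BT.leaf cE2373))) (BT.node 2377 (BT.node 2375 (BT.node 2374 (BT.leaf cE2374) (BT.leaf cE2375)) (BT.node 2376 (BT.leaf cE2376) (BT.leaf cE2377))) (BT.node 2379 (BT.node 2378 (BT.leaf cE2378) (BT.leaf cE2379)) (BT.leaf cE2380))))) (BT.node 2394 (BT.node 2387 (BT.node 2384 (BT.node 2382 (BT.node 2381 (BT.leaf cE2381) (BT.leaf cE2382)) (BT.node 2383 (BT.leaf cE2383) (BT.leaf cE2384))) (BT.node 2386 (BT.node 2385 (BT.leaf cE2385) (BT.leaf cE2386)) (BT.leaf cE2387))) (BT.node 2391 (BT.node 2389 (BT.node 2388 (BT.leaf cE2388) (BT.leaf cE2389)) (BT.node 2390 (BT.leaf cE2390) (BT.leaf cE2391))) (BT.node 2393 (BT.node 2392 (BT.leaf cE2392) (BT.leaf cE2393)) (BT.leaf cE2394)))) (BT.node 2401 (BT.node 2398 (BT.node 2396 (BT.node 2395 (BT.leaf cE2395) (BT.leaf cE2396)) (BT.node 2397 (BT.leaf cE2397) (BT.leaf cE2398))) (BT.node 2400 (BT.node 2399 (BT.leaf cE2399) (BT.leaf cE2400)) (BT.leaf cE2401))) (BT.node 2405 (BT.node 2403 (BT.node 2402 (BT.leaf cE2402) (BT.leaf cE2403)) (BT.node 2404 (BT.leaf cE2404) (BT.leaf cE2405))) (BT.node 2407 (BT.node 2406 (BT.leaf cE2406) (BT.leaf cE2407)) (BT.leaf cE2408)))))) (BT.node 2436 (BT.node 2422 (BT.node 2415 (BT.node 2412 (BT.node 2410 (BT.node 2409 (BT.leaf cE2409) (BT.leaf cE2410)) (BT.node 2411 (BT.leaf cE2411) (BT.leaf cE2412))) (BT.node 2414 (BT.node 2413 (BT.leaf cE2413) (BT.leaf cE2414)) (BT.leaf cE2415))) (BT.node 2419 (BT.node 2417 (BT.node 2416 (BT.leaf cE2416) (BT.leaf cE2417)) (BT.node 2418 (BT.leaf cE2418) (BT.leaf cE2419))) (BT.node 2421 (BT.node 2420 (BT.leaf cE2420) (BT.leaf cE2421)) (BT.leaf cE2422)))) (BT.node 2429 (BT.node 2426 (BT.node 2424 (BT.node 2423 (BT.leaf cE2423) (BT.leaf cE2424)) (BT.node 2425 (BT.leaf cE2425) (BT.leaf cE2426))) (BT.node 2428 (BT.node 2427 (BT.leaf cE2427) (BT.leaf cE2428)) (BT.leaf cE2429))) (BT.node 2433 (BT.node 2431 (BT.node 2430 (BT.leaf cE2430) (BT.leaf cE2431)) (BT.node 2432 (BT.leaf cE2432) (BT.leaf cE2433))) (BT.node 2435 (BT.node 2434 (BT.leaf cE2434) (BT.leaf cE2435)) (BT.leaf cE2436))))) (BT.node 2450 (BT.node 2443 (BT.node 2440 (BT.node 2438 (BT.node 2437 (BT.leaf cE2437) (BT.leaf cE2438)) (BT.node 2439 (BT.leaf cE2439) (BT.leaf cE2440))) (BT.node 2442 (BT.node 2441 (BT.leaf cE2441) (BT.leaf cE2442)) (BT.leaf cE2443))) (BT.node 2447 (BT.node 2445 (BT.node 2444 (BT.leaf cE2444) (BT.leaf cE2445)) (BT.node 2446 (BT.leaf cE2446) (BT.leaf cE2447))) (BT.node 2449 (BT.node 2448 (BT.leaf cE2448) (BT.leaf cE2449)) (BT.leaf cE2450)))) (BT.node 2457 (BT.node 2454 (BT.node 2452 (BT.node 2451 (BT.leaf cE2451) (BT.leaf cE2452)) (BT.node 2453 (BT.leaf cE2453) (BT.leaf cE2454))) (BT.node 2456 (BT.node 2455 (BT.leaf cE2455) (BT.leaf cE2456)) (BT.leaf cE2457))) (BT.node 2461 (BT.node 2459 (BT.node 2458 (BT.leaf cE2458) (BT.leaf cE2459)) (BT.node 2460 (BT.leaf cE2460) (BT.leaf cE2461))) (BT.node 2463 (BT.node 2462 (BT.leaf cE2462) (BT.leaf cE2463)) (BT.leaf cE2464)))))))) (BT.node 2576 (BT.node 2520 (BT.node 2492 (BT.node 2478 (BT.node 2471 (BT.node 2468 (BT.node 2466 (BT.node 2465 (BT.leaf cE2465) (BT.leaf cE2466)) (BT.node 2467 (BT.leaf cE2467) (BT.leaf cE2468))) (BT.node 2470 (BT.node 2469 (BT.leaf cE2469) (BT.leaf cE2470)) (BT.leaf cE2471))) (BT.node 2475 (BT.node 2473 (BT.node 2472 (BT.leaf cE2472) (BT.leaf cE2473)) (BT.node 2474 (BT.leaf cE2474) (BT.leaf cE2475))) (BT.node 2477 (BT.node 2476 (BT.leaf cE2476) (BT.leaf cE2477)) (BT.leaf cE2478)))) (BT.node 2485 (BT.node 2482 (BT.node 2480 (BT.node 2479 (BT.leaf cE2479) (BT.leaf cE2480)) (BT.node 2481 (BT.leaf cE2481) (BT.leaf cE2482))) (BT.node 2484 (BT.node 2483 (BT.leaf cE2483) (BT.leaf cE2484)) (BT.leaf cE2485))) (BT.node 2489 (BT.node 2487 (BT.node 2486 (BT.leaf cE2486) (BT.leaf cE2487)) (BT.node 2488 (BT.leaf cE2488) (BT.leaf cE2489))) (BT.node 2491 (BT.node 2490 (BT.leaf cE2490) (BT.leaf cE2491)) (BT.leaf cE2492))))) (BT.node 2506 (BT.node 2499 (BT.node 2496 (BT.node 2494 (BT.node 2493 (BT.leaf cE2493) (BT.leaf cE2494)) (BT.node 2495 (BT.leaf cE2495) (BT.leaf cE2496))) (BT.node 2498 (BT.node 2497 (BT.leaf cE2497) (BT.leaf cE2498)) (BT.leaf cE2499))) (BT.node 2503 (BT.node 2501 (BT.node 2500 (BT.leaf cE2500) (BT.leaf cE2501)) (BT.node 2502 (BT.leaf cE2502) (BT.leaf cE2503))) (BT.node 2505 (BT.node 2504 (BT.leaf cE2504) (BT.leaf cE2505)) (BT.leaf cE2506)))) (BT.node 2513 (BT.node 2510 (BT.node 2508 (BT.node 2507 (BT.leaf cE2507) (BT.leaf cE2508)) (BT.node 2509 (BT.leaf cE2509) (BT.leaf cE2510))) (BT.node 2512 (BT.node 2511 (BT.leaf cE2511) (BT.leaf cE2512)) (BT.leaf cE2513))) (BT.node 2517 (BT.node 2515 (BT.node 2514 (BT.leaf cE2514) (BT.leaf cE2515)) (BT.node 2516 (BT.leaf cE2516) (BT.leaf cE2517))) (BT.node 2519 (BT.node 2518 (BT.leaf cE2518) (BT.leaf cE2519)) (BT.leaf cE2520)))))) (BT.node 2548 (BT.node 2534 (BT.node 2527 (BT.node 2524 (BT.node 2522 (BT.node 2521 (BT.leaf cE2521) (BT.leaf cE2522)) (BT.node 2523 (BT.leaf cE2523) (BT.leaf cE2524))) (BT.node 2526 (BT.node 2525 (BT.leaf cE2525) (BT.leaf cE2526)) (BT.leaf cE2527))) (BT.node 2531 (BT.node 2529 (BT.node 2528 (BT.leaf cE2528) (BT.leaf cE2529)) (BT.node 2530 (BT.leaf cE2530) (BT.leaf cE2531))) (BT.node 2533 (BT.node 2532 (BT.leaf cE2532) (BT.leaf cE2533)) (BT.leaf cE2534)))) (BT.node 2541 (BT.node 2538 (BT.node 2536 (BT.node 2535 (BT.leaf cE2535) (BT.leaf cE2536)) (BT.node 2537 (BT.leaf cE2537) (BT.leaf cE2538))) (BT.node 2540 (BT.node 2539 (BT.leaf cE2539) (BT.leaf cE2540)) (BT.leaf cE2541))) (BT.node 2545 (BT.node 2543 (BT.node 2542 (BT.leaf cE2542) (BT.leaf cE2543)) (BT.node 2544 (BT.leaf cE2544) (BT.leaf cE2545))) (BT.node 2547 (BT.node 2546 (BT.leaf cE2546) (BT.leaf cE2547)) (BT.leaf cE2548))))) (BT.node 2562 (BT.node 2555 (BT.node 2552 (BT.node 2550 (BT.node 2549 (BT.leaf cE2549) (BT.leaf cE2550)) (BT.node 2551 (BT.leaf cE2551) (BT.leaf cE2552))) (BT.node 2554 (BT.node 2553 (BT.leaf cE2553) (BT.leaf cE2554)) (BT.leaf cE2555))) (BT.node 2559 (BT.node 2557 (BT.node 2556 (BT.leaf cE2556) (BT.leaf cE2557)) (BT.node 2558 (BT.leaf cE2558) (BT.leaf cE2559))) (BT.node 2561 (BT.node 2560 (BT.leaf cE2560) (BT.leaf cE2561)) (BT.leaf cE2562)))) (BT.node 2569 (BT.node 2566 (BT.node 2564 (BT.node 2563 (BT.leaf cE2563) (BT.leaf cE2564)) (BT.node 2565 (BT.leaf cE2565) (BT.leaf cE2566))) (BT.node 2568 (BT.node 2567 (BT.leaf cE2567) (BT.leaf cE2568)) (BT.leaf cE2569))) (BT.node 2573 (BT.node 2571 (BT.node 2570 (BT.leaf cE2570) (BT.leaf cE2571)) (BT.node 2572 (BT.leaf cE2572) (BT.leaf cE2573))) (BT.node 2575 (BT.node 2574 (BT.leaf cE2574) (BT.leaf cE2575)) (BT.leaf cE2576))))))) (BT.node 2632 (BT.node 2604 (BT.node 2590 (BT.node 2583 (BT.node 2580 (BT.node 2578 (BT.node 2577 (BT.leaf cE2577) (BT.leaf cE2578)) (BT.node 2579 (BT.leaf cE2579) (BT.leaf cE2580))) (BT.node 2582 (BT.node 2581 (BT.leaf cE2581) (BT.leaf cE2582)) (BT.leaf cE2583))) (BT.node 2587 (BT.node 2585 (BT.node 2584 (BT.leaf cE2584) (BT.leaf cE2585)) (BT.node 2586 (BT.leaf cE2586) (BT.leaf cE2587))) (BT.node 2589 (BT.node 2588 (BT.leaf cE2588) (BT.leaf cE2589)) (BT.leaf cE2590)))) (BT.node 2597 (BT.node 2594 (BT.node 2592 (BT.node 2591 (BT.leaf cE2591) (BT.leaf cE2592)) (BT.node 2593 (BT.leaf cE2593) (BT.leaf cE2594))) (BT.node 2596 (BT.node 2595 (BT.leaf cE2595) (BT.leaf cE2596)) (BT.leaf cE2597))) (BT.node 2601 (BT.node 2599 (BT.node 2598 (BT.leaf cE2598) (BT.leaf cE2599)) (BT.node 2600 (BT.leaf cE2600) (BT.leaf cE2601))) (BT.node 2603 (BT.node 2602 (BT.leaf cE2602) (BT.leaf cE2603)) (BT.leaf cE2604))))) (BT.node 2618 (BT.node 2611 (BT.node 2608 (BT.node 2606 (BT.node 2605 (BT.leaf cE2605) (BT.leaf cE2606)) (BT.node 2607 (BT.leaf cE2607) (BT.leaf cE2608))) (BT.node 2610 (BT.node 2609 (BT.leaf cE2609) (BT.leaf cE2610)) (BT.leaf cE2611))) (BT.node 2615 (BT.node 2613 (BT.node 2612 (BT.leaf cE2612) (BT.leaf cE2613)) (BT.node 2614 (BT.leaf cE2614) (BT.leaf cE2615))) (BT.node 2617 (BT.node 2616 (BT.leaf cE2616) (BT.leaf cE2617)) (BT.leaf cE2618)))) (BT.node 2625 (BT.node 2622 (BT.node 2620 (BT.node 2619 (BT.leaf cE2619) (BT.leaf cE2620)) (BT.node 2621 (BT.leaf cE2621) (BT.leaf cE2622))) (BT.node 2624 (BT.node 2623 (BT.leaf cE2623) (BT.leaf cE2624)) (BT.leaf cE2625))) (BT.node 2629 (BT.node 2627 (BT.node 2626 (BT.leaf cE2626) (BT.leaf cE2627)) (BT.node 2628 (BT.leaf cE2628) (BT.leaf cE2629))) (BT.node 2631 (BT.node 2630 (BT.leaf cE2630) (BT.leaf cE2631)) (BT.leaf cE2632)))))) (BT.node 2660 (BT.node 2646 (BT.node 2639 (BT.node 2636 (BT.node 2634 (BT.node 2633 (BT.leaf cE2633) (BT.leaf cE2634)) (BT.node 2635 (BT.leaf cE2635) (BT.leaf cE2636))) (BT.node 2638 (BT.node 2637 (BT.leaf cE2637) (BT.leaf cE2638)) (BT.leaf cE2639))) (BT.node 2643 (BT.node 2641 (BT.node 2640 (BT.leaf cE2640) (BT.leaf cE2641)) (BT.node 2642 (BT.leaf cE2642) (BT.leaf cE2643))) (BT.node 2645 (BT.node 2644 (BT.leaf cE2644) (BT.leaf cE2645)) (BT.leaf cE2646)))) (BT.node 2653 (BT.node 2650 (BT.node 2648 (BT.node 2647 (BT.leaf cE2647) (BT.leaf cE2648)) (BT.node 2649 (BT.leaf cE2649) (BT.leaf cE2650))) (BT.node 2652 (BT.node 2651 (BT.leaf cE2651) (BT.leaf cE2652)) (BT.leaf cE2653))) (BT.node 2657 (BT.node 2655 (BT.node 2654 (BT.leaf cE2654) (BT.leaf cE2655)) (BT.node 2656 (BT.leaf cE2656) (BT.leaf cE2657))) (BT.node 2659 (BT.node 2658 (BT.leaf cE2658) (BT.leaf cE2659)) (BT.leaf cE2660))))) (BT.node 2674 (BT.node 2667 (BT.node 2664 (BT.node 2662 (BT.node 2661 (BT.leaf cE2661) (BT.leaf cE2662)) (BT.node 2663 (BT.leaf cE2663) (BT.leaf cE2664))) (BT.node 2666 (BT.node 2665 (BT.leaf cE2665) (BT.leaf cE2666)) (BT.leaf cE2667))) (BT.node 2671 (BT.node 2669 (BT.node 2668 (BT.leaf cE2668) (BT.leaf cE2669)) (BT.node 2670 (BT.leaf cE2670) (BT.leaf cE2671))) (BT.node 2673 (BT.node 2672 (BT.leaf cE2672) (BT.leaf cE2673)) (BT.leaf cE2674)))) (BT.node 2681 (BT.node 2678 (BT.node 2676 (BT.node 2675 (BT.leaf cE2675) (BT.leaf cE2676)) (BT.node 2677 (BT.leaf cE2677) (BT.leaf cE2678))) (BT.node 2680 (BT.node 2679 (BT.leaf cE2679) (BT.leaf cE2680)) (BT.leaf cE2681))) (BT.node 2685 (BT.node 2683 (BT.node 2682 (BT.leaf cE2682) (BT.leaf cE2683)) (BT.node 2684 (BT.leaf cE2684) (BT.leaf cE2685))) (BT.node 2687 (BT.node 2686 (BT.leaf cE2686) (BT.leaf cE2687)) (BT.leaf cE2688)))))))))) (BT.node 3136 (BT.node 2912 (BT.node 2800 (BT.node 2744 (BT.node 2716 (BT.node 2702 (BT.node 2695 (BT.node 2692 (BT.node 2690 (BT.node 2689 (BT.leaf cE2689) (BT.leaf cE2690)) (BT.node 2691 (BT.leaf cE2691) (BT.leaf cE2692))) (BT.node 2694 (BT.node 2693 (BT.leaf cE2693) (BT.leaf cE2694)) (BT.leaf cE2695))) (BT.node 2699 (BT.node 2697 (BT.node 2696 (BT.leaf cE2696) (BT.leaf cE2697)) (BT.node 2698 (BT.leaf cE2698) (BT.leaf cE2699))) (BT.node 2701 (BT.node 2700 (BT.leaf cE2700) (BT.leaf cE2701)) (BT.leaf cE2702)))) (BT.node 2709 (BT.node 2706 (BT.node 2704 (BT.node 2703 (BT.leaf cE2703) (BT.leaf cE2704)) (BT.node 2705 (BT.leaf cE2705) (BT.leaf cE2706))) (BT.node 2708 (BT.node 2707 (BT.leaf cE2707) (BT.leaf cE2708)) (BT.leaf cE2709))) (BT.node 2713 (BT.node 2711 (BT.node 2710 (BT.leaf cE2710) (BT.leaf cE2711)) (BT.node 2712 (BT.leaf cE2712) (BT.leaf cE2713))) (BT.node 2715 (BT.node 2714 (BT.leaf cE2714) (BT.leaf cE2715)) (BT.leaf cE2716))))) (BT.node 2730 (BT.node 2723 (BT.node 2720 (BT.node 2718 (BT.node 2717 (BT.leaf cE2717) (BT.leaf cE2718)) (BT.node 2719 (BT.leaf cE2719) (BT.leaf cE2720))) (BT.node 2722 (BT.node 2721 (BT.leaf cE2721) (BT.leaf cE2722)) (BT.leaf cE2723))) (BT.node 2727 (BT.node 2725 (BT.node 2724 (BT.leaf cE2724) (BT.leaf cE2725)) (BT.node 2726 (BT.leaf cE2726) (BT.leaf cE2727))) (BT.node 2729 (BT.node 2728 (BT.leaf cE2728) (BT.leaf cE2729)) (BT.leaf cE2730)))) (BT.node 2737 (BT.node 2734 (BT.node 2732 (BT.node 2731 (BT.leaf cE2731) (BT.leaf cE2732)) (BT.node 2733 (BT.leaf cE2733) (BT.leaf cE2734))) (BT.node 2736 (BT.node 2735 (BT.leaf cE2735) (BT.leaf cE2736)) (BT.leaf cE2737))) (BT.node 2741 (BT.node 2739 (BT.node 2738 (BT.leaf cE2738) (BT.leaf cE2739)) (BT.node 2740 (BT.leaf cE2740) (BT.leaf cE2741))) (BT.node 2743 (BT.node 2742 (BT.leaf cE2742) (BT.leaf cE2743)) (BT.leaf cE2744)))))) (BT.node 2772 (BT.node 2758 (BT.node 2751 (BT.node 2748 (BT.node 2746 (BT.node 2745 (BT.leaf cE2745) (BT.leaf cE2746)) (BT.node 2747 (BT.leaf cE2747) (BT.leaf cE2748))) (BT.node 2750 (BT.node 2749 (BT.leaf cE2749) (BT.leaf cE2750)) (BT.leaf cE2751))) (BT.node 2755 (BT.node 2753 (BT.node 2752 (BT.leaf cE2752) (BT.leaf cE2753)) (BT.node 2754 (BT.leaf cE2754) (BT.leaf cE2755))) (BT.node 2757 (BT.node 2756 (BT.leaf cE2756) (BT.leaf cE2757)) (BT.leaf cE2758)))) (BT.node 2765 (BT.node 2762 (BT.node 2760 (BT.node 2759 (BT.leaf cE2759) (BT.leaf cE2760)) (BT.node 2761 (BT.leaf cE2761) (BT.leaf cE2762))) (BT.node 2764 (BT.node 2763 (BT.leaf cE2763) (BT.leaf cE2764)) (BT.leaf cE2765))) (BT.node 2769 (BT.node 2767 (BT.node 2766 (BT.leaf cE2766) (BT.leaf cE2767)) (BT.node 2768 (BT.leaf cE2768) (BT.leaf cE2769))) (BT.node 2771 (BT.node 2770 (BT.leaf cE2770) (BT.leaf cE2771)) (BT.leaf cE2772))))) (BT.node 2786 (BT.node 2779 (BT.node 2776 (BT.node 2774 (BT.node 2773 (BT.leaf cE2773) (BT.leaf cE2774)) (BT.node 2775 (BT.leaf cE2775) (BT.leaf cE2776))) (BT.node 2778 (BT.node 2777 (BT.leaf cE2777) (BT.leaf cE2778)) (BT.leaf cE2779))) (BT.node 2783 (BT.node 2781 (BT.node 2780 (BT.leaf cE2780) (BT.leaf cE2781)) (BT.node 2782 (BT.leaf cE2782) (BT.leaf cE2783))) (BT.node 2785 (BT.node 2784 (BT.leaf cE2784) (BT.leaf cE2785)) (BT.leaf cE2786)))) (BT.node 2793 (BT.node 2790 (BT.node 2788 (BT.node 2787 (BT.leaf cE2787) (BT.leaf cE2788)) (BT.node 2789 (BT.leaf cE2789) (BT.leaf cE2790))) (BT.node 2792 (BT.node 2791 (BT.leaf cE2791) (BT.leaf cE2792)) (BT.leaf cE2793))) (BT.node 2797 (BT.node 2795 (BT.node 2794 (BT.leaf cE2794) (BT.leaf cE2795)) (BT.node 2796 (BT.leaf cE2796) (BT.leaf cE2797))) (BT.node 2799 (BT.node 2798 (BT.leaf cE2798) (BT.leaf cE2799)) (BT.leaf cE2800))))))) (BT.node 2856 (BT.node 2828 (BT.node 2814 (BT.node 2807 (BT.node 2804 (BT.node 2802 (BT.node 2801 (BT.leaf cE2801) (BT.leaf cE2802)) (BT.node 2803 (BT.leaf cE2803) (BT.leaf cE2804))) (BT.node 2806 (BT.node 2805 (BT.leaf cE2805) (BT.leaf cE2806)) (BT.leaf cE2807))) (BT.node 2811 (BT.node 2809 (BT.node 2808 (BT.leaf cE2808) (BT.leaf cE2809)) (BT.node 2810 (BT.leaf cE2810) (BT.leaf cE2811))) (BT.node 2813 (BT.node 2812 (BT.leaf cE2812) (BT.leaf cE2813)) (BT.leaf cE2814)))) (BT.node 2821 (BT.node 2818 (BT.node 2816 (BT.node 2815 (BT.leaf cE2815) (BT.leaf cE2816)) (BT.node 2817 (BT.leaf cE2817) (BT.leaf cE2818))) (BT.node 2820 (BT.node 2819 (BT.leaf cE2819) (BT.leaf cE2820)) (BT.leaf cE2821))) (BT.node 2825 (BT.node 2823 (BT.node 2822 (BT.leaf cE2822) (BT.leaf cE2823)) (BT.node 2824 (BT.leaf cE2824) (BT.leaf cE2825))) (BT.node 2827 (BT.node 2826 (BT.leaf cE2826) (BT.leaf cE2827)) (BT.leaf cE2828))))) (BT.node 2842 (BT.node 2835 (BT.node 2832 (BT.node 2830 (BT.node 2829 (BT.leaf cE2829) (BT.leaf cE2830)) (BT.node 2831 (BT.leaf cE2831) (BT.leaf cE2832))) (BT.node 2834 (BT.node 2833 (BT.leaf cE2833) (BT.leaf cE2834)) (BT.leaf cE2835))) (BT.node 2839 (BT.node 2837 (BT.node 2836 (BT.leaf cE2836) (BT.leaf cE2837)) (BT.node 2838 (BT.leaf cE2838) (BT.leaf cE2839))) (BT.node 2841 (BT.node 2840 (BT.leaf cE2840) (BT.leaf cE2841)) (BT.leaf cE2842)))) (BT.node 2849 (BT.node 2846 (BT.node 2844 (BT.node 2843 (BT.leaf cE2843) (BT.leaf cE2844)) (BT.node 2845 (BT.leaf cE2845) (BT.leaf cE2846))) (BT.node 2848 (BT.node 2847 (BT.leaf cE2847) (BT.leaf cE2848)) (BT.leaf cE2849))) (BT.node 2853 (BT.node 2851 (BT.node 2850 (BT.leaf cE2850) (BT.leaf cE2851)) (BT.node 2852 (BT.leaf cE2852) (BT.leaf cE2853))) (BT.node 2855 (BT.node 2854 (BT.leaf cE2854) (BT.leaf cE2855)) (BT.leaf cE2856)))))) (BT.node 2884 (BT.node 2870 (BT.node 2863 (BT.node 2860 (BT.node 2858 (BT.node 2857 (BT.leaf cE2857) (BT.leaf cE2858)) (BT.node 2859 (BT.leaf cE2859) (BT.leaf cE2860))) (BT.node 2862 (BT.node 2861 (BT.leaf cE2861) (BT.leaf cE2862)) (BT.leaf cE2863))) (BT.node 2867 (BT.node 2865 (BT.node 2864 (BT.leaf cE2864) (BT.leaf cE2865)) (BT.node 2866 (BT.leaf cE2866) (BT.leaf cE2867))) (BT.node 2869 (BT.node 2868 (BT.leaf cE2868) (BT.leaf cE2869)) (BT.leaf cE2870)))) (BT.node 2877 (BT.node 2874 (BT.node 2872 (BT.node 2871 (BT.leaf cE2871) (BT.leaf cE2872)) (BT.node 2873 (BT.leaf cE2873) (BT.leaf cE2874))) (BT.node 2876 (BT.node 2875 (BT.leaf cE2875) (BT.leaf cE2876)) (BT.leaf cE2877))) (BT.node 2881 (BT.node 2879 (BT.node 2878 (BT.leaf cE2878) (BT.leaf cE2879)) (BT.node 2880 (BT.leaf cE2880) (BT.leaf cE2881))) (BT.node 2883 (BT.node 2882 (BT.leaf cE2882) (BT.leaf cE2883)) (BT.leaf cE2884))))) (BT.node 2898 (BT.node 2891 (BT.node 2888 (BT.node 2886 (BT.node 2885 (BT.leaf cE2885) (BT.leaf cE2886)) (BT.node 2887 (BT.leaf cE2887) (BT.leaf cE2888))) (BT.node 2890 (BT.node 2889 (BT.leaf cE2889) (BT.leaf cE2890)) (BT.leaf cE2891))) (BT.node 2895 (BT.node 2893 (BT.node 2892 (BT.leaf cE2892) (BT.leaf cE2893)) (BT.node 2894 (BT.leaf cE2894) (BT.leaf cE2895))) (BT.node 2897 (BT.node 2896 (BT.leaf cE2896) (BT.leaf cE2897)) (BT.leaf cE2898)))) (BT.node 2905 (BT.node 2902 (BT.node 2900 (BT.node 2899 (BT.leaf cE2899) (BT.leaf cE2900)) (BT.node 2901 (BT.leaf cE2901) (BT.leaf cE2902))) (BT.node 2904 (BT.node 2903 (BT.leaf cE2903) (BT.leaf cE2904)) (BT.leaf cE2905))) (BT.node 2909 (BT.node 2907 (BT.node 2906 (BT.leaf cE2906) (BT.leaf cE2907)) (BT.node 2908 (BT.leaf cE2908) (BT.leaf cE2909))) (BT.node 2911 (BT.node 2910 (BT.leaf cE2910) (BT.leaf cE2911)) (BT.leaf cE2912)))))))) (BT.node 3024 (BT.node 2968 (BT.node 2940 (BT.node 2926 (BT.node 2919 (BT.node 2916 (BT.node 2914 (BT.node 2913 (BT.leaf cE2913) (BT.leaf cE2914)) (BT.node 2915 (BT.leaf cE2915) (BT.leaf cE2916))) (BT.node 2918 (BT.node 2917 (BT.leaf cE2917) (BT.leaf cE2918)) (BT.leaf cE2919))) (BT.node 2923 (BT.node 2921 (BT.node 2920 (BT.leaf cE2920) (BT.leaf cE2921)) (BT.node 2922 (BT.leaf cE2922) (BT.leaf cE2923))) (BT.node 2925 (BT.node 2924 (BT.leaf cE2924) (BT.leaf cE2925)) (BT.leaf cE2926)))) (BT.node 2933 (BT.node 2930 (BT.node 2928 (BT.node 2927 (BT.leaf cE2927) (BT.leaf cE2928)) (BT.node 2929 (BT.leaf cE2929) (BT.leaf cE2930))) (BT.node 2932 (BT.node 2931 (BT.leaf cE2931) (BT.leaf cE2932)) (BT.leaf cE2933))) (BT.node 2937 (BT.node 2935 (BT.node 2934 (BT.leaf cE2934) (BT.leaf cE2935)) (BT.node 2936 (BT.leaf cE2936) (BT.leaf cE2937))) (BT.node 2939 (BT.node 2938 (BT.leaf cE2938) (BT.leaf cE2939)) (BT.leaf cE2940))))) (BT.node 2954 (BT.node 2947 (BT.node 2944 (BT.node 2942 (BT.node 2941 (BT.leaf cE2941) (BT.leaf cE2942)) (BT.node 2943 (BT.leaf cE2943) (BT.leaf cE2944))) (BT.node 2946 (BT.node 2945 (BT.leaf cE2945) (BT.leaf cE2946)) (BT.leaf cE2947))) (BT.node 2951 (BT.node 2949 (BT.node 2948 (BT.leaf cE2948) (BT.leaf cE2949)) (BT.node 2950 (BT.leaf cE2950) (BT.leaf cE2951))) (BT.node 2953 (BT.node 2952 (BT.leaf cE2952) (BT.leaf cE2953)) (BT.leaf cE2954)))) (BT.node 2961 (BT.node 2958 (BT.node 2956 (BT.node 2955 (BT.leaf cE2955) (BT.leaf cE2956)) (BT.node 2957 (BT.leaf cE2957) (BT.leaf cE2958))) (BT.node 2960 (BT.node 2959 (BT.leaf cE2959) (BT.leaf cE2960)) (BT.leaf cE2961))) (BT.node 2965 (BT.node 2963 (BT.node 2962 (BT.leaf cE2962) (BT.leaf cE2963)) (BT.node 2964 (BT.leaf cE2964) (BT.leaf cE2965))) (BT.node 2967 (BT.node 2966 (BT.leaf cE2966) (BT.leaf cE2967)) (BT.leaf cE2968)))))) (BT.node 2996 (BT.node 2982 (BT.node 2975 (BT.node 2972 (BT.node 2970 (BT.node 2969 (BT.leaf cE2969) (BT.leaf cE2970)) (BT.node 2971 (BT.leaf cE2971) (BT.leaf cE2972))) (BT.node 2974 (BT.node 2973 (BT.leaf cE2973) (BT.leaf cE2974)) (BT.leaf cE2975))) (BT.node 2979 (BT.node 2977 (BT.node 2976 (BT.leaf cE2976) (BT.leaf cE2977)) (BT.node 2978 (BT.leaf cE2978) (BT.leaf cE2979))) (BT.node 2981 (BT.node 2980 (BT.leaf cE2980) (BT.leaf cE2981)) (BT.leaf cE2982)))) (BT.node 2989 (BT.node 2986 (BT.node 2984 (BT.node 2983 (BT.leaf cE2983) (BT.leaf cE2984)) (BT.node 2985 (BT.leaf cE2985) (BT.leaf cE2986))) (BT.node 2988 (BT.node 2987 (BT.leaf cE2987) (BT.leaf cE2988)) (BT.leaf cE2989))) (BT.node 2993 (BT.node 2991 (BT.node 2990 (BT.leaf cE2990) (BT.leaf cE2991)) (BT.node 2992 (BT.leaf cE2992) (BT.leaf cE2993))) (BT.node 2995 (BT.node 2994 (BT.leaf cE2994) (BT.leaf cE2995)) (BT.leaf cE2996))))) (BT.node 3010 (BT.node 3003 (BT.node 3000 (BT.node 2998 (BT.node 2997 (BT.leaf cE2997) (BT.leaf cE2998)) (BT.node 2999 (BT.leaf cE2999) (BT.leaf cE3000))) (BT.node 3002 (BT.node 3001 (BT.leaf cE3001) (BT.leaf cE3002)) (BT.leaf cE3003))) (BT.node 3007 (BT.node 3005 (BT.node 3004 (BT.leaf cE3004) (BT.leaf cE3005)) (BT.node 3006 (BT.leaf cE3006) (BT.leaf cE3007))) (BT.node 3009 (BT.node 3008 (BT.leaf cE3008) (BT.leaf cE3009)) (BT.leaf cE3010)))) (BT.node 3017 (BT.node 3014 (BT.node 3012 (BT.node 3011 (BT.leaf cE3011) (BT.leaf cE3012)) (BT.node 3013 (BT.leaf cE3013) (BT.leaf cE3014))) (BT.node 3016 (BT.node 3015 (BT.leaf cE3015) (BT.leaf cE3016)) (BT.leaf cE3017))) (BT.node 3021 (BT.node 3019 (BT.node 3018 (BT.leaf cE3018) (BT.leaf cE3019)) (BT.node 3020 (BT.leaf cE3020) (BT.leaf cE3021))) (BT.node 3023 (BT.node 3022 (BT.leaf cE3022) (BT.leaf cE3023)) (BT.leaf cE3024))))))) (BT.node 3080 (BT.node 3052 (BT.node 3038 (BT.node 3031 (BT.node 3028 (BT.node 3026 (BT.node 3025 (BT.leaf cE3025) (BT.leaf cE3026)) (BT.node 3027 (BT.leaf cE3027) (BT.leaf cE3028))) (BT.node 3030 (BT.node 3029 (BT.leaf cE3029) (BT.leaf cE3030)) (BT.leaf cE3031))) (BT.node 3035 (BT.node 3033 (BT.node 3032 (BT.leaf cE3032) (BT.leaf cE3033)) (BT.node 3034 (BT.leaf cE3034) (BT.leaf cE3035))) (BT.node 3037 (BT.node 3036 (BT.leaf cE3036) (BT.leaf cE3037)) (BT.leaf cE3038)))) (BT.node 3045 (BT.node 3042 (BT.node 3040 (BT.node 3039 (BT.leaf cE3039) (BT.leaf cE3040)) (BT.node 3041 (BT.leaf cE3041) (BT.leaf cE3042))) (BT.node 3044 (BT.node 3043 (BT.leaf cE3043) (BT.leaf cE3044)) (BT.leaf cE3045))) (BT.node 3049 (BT.node 3047 (BT.node 3046 (BT.leaf cE3046) (BT.leaf cE3047)) (BT.node 3048 (BT.leaf cE3048) (BT.leaf cE3049))) (BT.node 3051 (BT.node 3050 (BT.leaf cE3050) (BT.leaf cE3051)) (BT.leaf cE3052))))) (BT.node 3066 (BT.node 3059 (BT.node 3056 (BT.node 3054 (BT.node 3053 (BT.leaf cE3053) (BT.leaf cE3054)) (BT.node 3055 (BT.leaf cE3055) (BT.leaf cE3056))) (BT.node 3058 (BT.node 3057 (BT.leaf cE3057) (BT.leaf cE3058)) (BT.leaf cE3059))) (BT.node 3063 (BT.node 3061 (BT.node 3060 (BT.leaf cE3060) (BT.leaf cE3061)) (BT.node 3062 (BT.leaf cE3062) (BT.leaf cE3063))) (BT.node 3065 (BT.node 3064 (BT.leaf cE3064) (BT.leaf cE3065)) (BT.leaf cE3066)))) (BT.node 3073 (BT.node 3070 (BT.node 3068 (BT.node 3067 (BT.leaf cE3067) (BT.leaf cE3068)) (BT.node 3069 (BT.leaf cE3069) (BT.leaf cE3070))) (BT.node 3072 (BT.node 3071 (BT.leaf cE3071) (BT.leaf cE3072)) (BT.leaf cE3073))) (BT.node 3077 (BT.node 3075 (BT.node 3074 (BT.leaf cE3074) (BT.leaf cE3075)) (BT.node 3076 (BT.leaf cE3076) (BT.leaf cE3077))) (BT.node 3079 (BT.node 3078 (BT.leaf cE3078) (BT.leaf cE3079)) (BT.leaf cE3080)))))) (BT.node 3108 (BT.node 3094 (BT.node 3087 (BT.node 3084 (BT.node 3082 (BT.node 3081 (BT.leaf cE3081) (BT.leaf cE3082)) (BT.node 3083 (BT.leaf cE3083) (BT.leaf cE3084))) (BT.node 3086 (BT.node 3085 (BT.leaf cE3085) (BT.leaf cE3086)) (BT.leaf cE3087))) (BT.node 3091 (BT.node 3089 (BT.node 3088 (BT.leaf cE3088) (BT.leaf cE3089)) (BT.node 3090 (BT.leaf cE3090) (BT.leaf cE3091))) (BT.node 3093 (BT.node 3092 (BT.leaf cE3092) (BT.leaf cE3093)) (BT.leaf cE3094)))) (BT.node 3101 (BT.node 3098 (BT.node 3096 (BT.node 3095 (BT.leaf cE3095) (BT.leaf cE3096)) (BT.node 3097 (BT.leaf cE3097) (BT.leaf cE3098))) (BT.node 3100 (BT.node 3099 (BT.leaf cE3099) (BT.leaf cE3100)) (BT.leaf cE3101))) (BT.node 3105 (BT.node 3103 (BT.node 3102 (BT.leaf cE3102) (BT.leaf cE3103)) (BT.node 3104 (BT.leaf cE3104) (BT.leaf cE3105))) (BT.node 3107 (BT.node 3106 (BT.leaf cE3106) (BT.leaf cE3107)) (BT.leaf cE3108))))) (BT.node 3122 (BT.node 3115 (BT.node 3112 (BT.node 3110 (BT.node 3109 (BT.leaf cE3109) (BT.leaf cE3110)) (BT.node 3111 (BT.leaf cE3111) (BT.leaf cE3112))) (BT.node 3114 (BT.node 3113 (BT.leaf cE3113) (BT.leaf cE3114)) (BT.leaf cE3115))) (BT.node 3119 (BT.node 3117 (BT.node 3116 (BT.leaf cE3116) (BT.leaf cE3117)) (BT.node 3118 (BT.leaf cE3118) (BT.leaf cE3119))) (BT.node 3121 (BT.node 3120 (BT.leaf cE3120) (BT.leaf cE3121)) (BT.leaf cE3122)))) (BT.node 3129 (BT.node 3126 (BT.node 3124 (BT.node 3123 (BT.leaf cE3123) (BT.leaf cE3124)) (BT.node 3125 (BT.leaf cE3125) (BT.leaf cE3126))) (BT.node 3128 (BT.node 3127 (BT.leaf cE3127) (BT.leaf cE3128)) (BT.leaf cE3129))) (BT.node 3133 (BT.node 3131 (BT.node 3130 (BT.leaf cE3130) (BT.leaf cE3131)) (BT.node 3132 (BT.leaf cE3132) (BT.leaf cE3133))) (BT.node 3135 (BT.node 3134 (BT.leaf cE3134) (BT.leaf cE3135)) (BT.leaf cE3136))))))))) (BT.node 3360 (BT.node 3248 (BT.node 3192 (BT.node 3164 (BT.node 3150 (BT.node 3143 (BT.node 3140 (BT.node 3138 (BT.node 3137 (BT.leaf cE3137) (BT.leaf cE3138)) (BT.node 3139 (BT.leaf cE3139) (BT.leaf cE3140))) (BT.node 3142 (BT.node 3141 (BT.leaf cE3141) (BT.leaf cE3142)) (BT.leaf cE3143))) (BT.node 3147 (BT.node 3145 (BT.node 3144 (BT.leaf cE3144) (BT.leaf cE3145)) (BT.node 3146 (BT.leaf cE3146) (BT.leaf cE3147))) (BT.node 3149 (BT.node 3148 (BT.leaf cE3148) (BT.leaf cE3149)) (BT.leaf cE3150)))) (BT.node 3157 (BT.node 3154 (BT.node 3152 (BT.node 3151 (BT.leaf cE3151) (BT.leaf cE3152)) (BT.node 3153 (BT.leaf cE3153) (BT.leaf cE3154))) (BT.node 3156 (BT.node 3155 (BT.leaf cE3155) (BT.leaf cE3156)) (BT.leaf cE3157))) (BT.node 3161 (BT.node 3159 (BT.node 3158 (BT.leaf cE3158) (BT.leaf cE3159)) (BT.node 3160 (BT.leaf cE3160) (BT.leaf cE3161))) (BT.node 3163 (BT.node 3162 (BT.leaf cE3162) (BT.leaf cE3163)) (BT.leaf cE3164))))) (BT.node 3178 (BT.node 3171 (BT.node 3168 (BT.node 3166 (BT.node 3165 (BT.leaf cE3165) (BT.leaf cE3166)) (BT.node 3167 (BT.leaf cE3167) (BT.leaf cE3168))) (BT.node 3170 (BT.node 3169 (BT.leaf cE3169) (BT.leaf cE3170)) (BT.leaf cE3171))) (BT.node 3175 (BT.node 3173 (BT.node 3172 (BT.leaf cE3172) (BT.leaf cE3173)) (BT.node 3174 (BT.leaf cE3174) (BT.leaf cE3175))) (BT.node 3177 (BT.node 3176 (BT.leaf cE3176) (BT.leaf cE3177)) (BT.leaf cE3178)))) (BT.node 3185 (BT.node 3182 (BT.node 3180 (BT.node 3179 (BT.leaf cE3179) (BT.leaf cE3180)) (BT.node 3181 (BT.leaf cE3181) (BT.leaf cE3182))) (BT.node 3184 (BT.node 3183 (BT.leaf cE3183) (BT.leaf cE3184)) (BT.leaf cE3185))) (BT.node 3189 (BT.node 3187 (BT.node 3186 (BT.leaf cE3186) (BT.leaf cE3187)) (BT.node 3188 (BT.leaf cE3188) (BT.leaf cE3189))) (BT.node 3191 (BT.node 3190 (BT.leaf cE3190) (BT.leaf cE3191)) (BT.leaf cE3192)))))) (BT.node 3220 (BT.node 3206 (BT.node 3199 (BT.node 3196 (BT.node 3194 (BT.node 3193 (BT.leaf cE3193) (BT.leaf cE3194)) (BT.node 3195 (BT.leaf cE3195) (BT.leaf cE3196))) (BT.node 3198 (BT.node 3197 (BT.leaf cE3197) (BT.leaf cE3198)) (BT.leaf cE3199))) (BT.node 3203 (BT.node 3201 (BT.node 3200 (BT.leaf cE3200) (BT.leaf cE3201)) (BT.node 3202 (BT.leaf cE3202) (BT.leaf cE3203))) (BT.node 3205 (BT.node 3204 (BT.leaf cE3204) (BT.leaf cE3205)) (BT.leaf cE3206)))) (BT.node 3213 (BT.node 3210 (BT.node 3208 (BT.node 3207 (BT.leaf cE3207) (BT.leaf cE3208)) (BT.node 3209 (BT.leaf cE3209) (BT.leaf cE3210))) (BT.node 3212 (BT.node 3211 (BT.leaf cE3211) (BT.leaf cE3212)) (BT.leaf cE3213))) (BT.node 3217 (BT.node 3215 (BT.node 3214 (BT.leaf cE3214) (BT.leaf cE3215)) (BT.node 3216 (BT.leaf cE3216) (BT.leaf cE3217))) (BT.node 3219 (BT.node 3218 (BT.leaf cE3218) (BT.leaf cE3219)) (BT.leaf cE3220))))) (BT.node 3234 (BT.node 3227 (BT.node 3224 (BT.node 3222 (BT.node 3221 (BT.leaf cE3221) (BT.leaf cE3222)) (BT.node 3223 (BT.leaf cE3223) (BT.leaf cE3224))) (BT.node 3226 (BT.node 3225 (BT.leaf cE3225) (BT.leaf cE3226)) (BT.leaf cE3227))) (BT.node 3231 (BT.node 3229 (BT.node 3228 (BT.leaf cE3228) (BT.leaf cE3229)) (BT.node 3230 (BT.leaf cE3230) (BT.leaf cE3231))) (BT.node 3233 (BT.node 3232 (BT.leaf cE3232) (BT.leaf cE3233)) (BT.leaf cE3234)))) (BT.node 3241 (BT.node 3238 (BT.node 3236 (BT.node 3235 (BT.leaf cE3235) (BT.leaf cE3236)) (BT.node 3237 (BT.leaf cE3237) (BT.leaf cE3238))) (BT.node 3240 (BT.node 3239 (BT.leaf cE3239) (BT.leaf cE3240)) (BT.leaf cE3241))) (BT.node 3245 (BT.node 3243 (BT.node 3242 (BT.leaf cE3242) (BT.leaf cE3243)) (BT.node 3244 (BT.leaf cE3244) (BT.leaf cE3245))) (BT.node 3247 (BT.node 3246 (BT.leaf cE3246) (BT.leaf cE3247)) (BT.leaf cE3248))))))) (BT.node 3304 (BT.node 3276 (BT.node 3262 (BT.node 3255 (BT.node 3252 (BT.node 3250 (BT.node 3249 (BT.leaf cE3249) (BT.leaf cE3250)) (BT.node 3251 (BT.leaf cE3251) (BT.leaf cE3252))) (BT.node 3254 (BT.node 3253 (BT.leaf cE3253) (BT.leaf cE3254)) (BT.leaf cE3255))) (BT.node 3259 (BT.node 3257 (BT.node 3256 (BT.leaf cE3256) (BT.leaf cE3257)) (BT.node 3258 (BT.leaf cE3258) (BT.leaf cE3259))) (BT.node 3261 (BT.node 3260 (BT.leaf cE3260) (BT.leaf cE3261)) (BT.leaf cE3262)))) (BT.node 3269 (BT.node 3266 (BT.node 3264 (BT.node 3263 (BT.leaf cE3263) (BT.leaf cE3264)) (BT.node 3265 (BT.leaf cE3265) (BT.leaf cE3266))) (BT.node 3268 (BT.node 3267 (BT.leaf cE3267) (BT.leaf cE3268)) (BT.leaf cE3269))) (BT.node 3273 (BT.node 3271 (BT.node 3270 (BT.leaf cE3270) (BT.leaf cE3271)) (BT.node 3272 (BT.leaf cE3272) (BT.leaf cE3273))) (BT.node 3275 (BT.node 3274 (BT.leaf cE3274) (BT.leaf cE3275)) (BT.leaf cE3276))))) (BT.node 3290 (BT.node 3283 (BT.node 3280 (BT.node 3278 (BT.node 3277 (BT.leaf cE3277) (BT.leaf cE3278)) (BT.node 3279 (BT.leaf cE3279) (BT.leaf cE3280))) (BT.node 3282 (BT.node 3281 (BT.leaf cE3281) (BT.leaf cE3282)) (BT.leaf cE3283))) (BT.node 3287 (BT.node 3285 (BT.node 3284 (BT.leaf cE3284) (BT.leaf cE3285)) (BT.node 3286 (BT.leaf cE3286) (BT.leaf cE3287))) (BT.node 3289 (BT.node 3288 (BT.leaf cE3288) (BT.leaf cE3289)) (BT.leaf cE3290)))) (BT.node 3297 (BT.node 3294 (BT.node 3292 (BT.node 3291 (BT.leaf cE3291) (BT.leaf cE3292)) (BT.node 3293 (BT.leaf cE3293) (BT.leaf cE3294))) (BT.node 3296 (BT.node 3295 (BT.leaf cE3295) (BT.leaf cE3296)) (BT.leaf cE3297))) (BT.node 3301 (BT.node 3299 (BT.node 3298 (BT.leaf cE3298) (BT.leaf cE3299)) (BT.node 3300 (BT.leaf cE3300) (BT.leaf cE3301))) (BT.node 3303 (BT.node 3302 (BT.leaf cE3302) (BT.leaf cE3303)) (BT.leaf cE3304)))))) (BT.node 3332 (BT.node 3318 (BT.node 3311 (BT.node 3308 (BT.node 3306 (BT.node 3305 (BT.leaf cE3305) (BT.leaf cE3306)) (BT.node 3307 (BT.leaf cE3307) (BT.leaf cE3308))) (BT.node 3310 (BT.node 3309 (BT.leaf cE3309) (BT.leaf cE3310)) (BT.leaf cE3311))) (BT.node 3315 (BT.node 3313 (BT.node 3312 (BT.leaf cE3312) (BT.leaf cE3313)) (BT.node 3314 (BT.leaf cE3314) (BT.leaf cE3315))) (BT.node 3317 (BT.node 3316 (BT.leaf cE3316) (BT.leaf cE3317)) (BT.leaf cE3318)))) (BT.node 3325 (BT.node 3322 (BT.node 3320 (BT.node 3319 (BT.leaf cE3319) (BT.leaf cE3320)) (BT.node 3321 (BT.leaf cE3321) (BT.leaf cE3322))) (BT.node 3324 (BT.node 3323 (BT.leaf cE3323) (BT.leaf cE3324)) (BT.leaf cE3325))) (BT.node 3329 (BT.node 3327 (BT.node 3326 (BT.leaf cE3326) (BT.leaf cE3327)) (BT.node 3328 (BT.leaf cE3328) (BT.leaf cE3329))) (BT.node 3331 (BT.node 3330 (BT.leaf cE3330) (BT.leaf cE3331)) (BT.leaf cE3332))))) (BT.node 3346 (BT.node 3339 (BT.node 3336 (BT.node 3334 (BT.node 3333 (BT.leaf cE3333) (BT.leaf cE3334)) (BT.node 3335 (BT.leaf cE3335) (BT.leaf cE3336))) (BT.node 3338 (BT.node 3337 (BT.leaf cE3337) (BT.leaf cE3338)) (BT.leaf cE3339))) (BT.node 3343 (BT.node 3341 (BT.node 3340 (BT.leaf cE3340) (BT.leaf cE3341)) (BT.node 3342 (BT.leaf cE3342) (BT.leaf cE3343))) (BT.node 3345 (BT.node 3344 (BT.leaf cE3344) (BT.leaf cE3345)) (BT.leaf cE3346)))) (BT.node 3353 (BT.node 3350 (BT.node 3348 (BT.node 3347 (BT.leaf cE3347) (BT.leaf cE3348)) (BT.node 3349 (BT.leaf cE3349) (BT.leaf cE3350))) (BT.node 3352 (BT.node 3351 (BT.leaf cE3351) (BT.leaf cE3352)) (BT.leaf cE3353))) (BT.node 3357 (BT.node 3355 (BT.node 3354 (BT.leaf cE3354) (BT.leaf cE3355)) (BT.node 3356 (BT.leaf cE3356) (BT.leaf cE3357))) (BT.node 3359 (BT.node 3358 (BT.leaf cE3358) (BT.leaf cE3359)) (BT.leaf cE3360)))))))) (BT.node 3472 (BT.node 3416 (BT.node 3388 (BT.node 3374 (BT.node 3367 (BT.node 3364 (BT.node 3362 (BT.node 3361 (BT.leaf cE3361) (BT.leaf cE3362)) (BT.node 3363 (BT.leaf cE3363) (BT.leaf cE3364))) (BT.node 3366 (BT.node 3365 (BT.leaf cE3365) (BT.leaf cE3366)) (BT.leaf cE3367))) (BT.node 3371 (BT.node 3369 (BT.node 3368 (BT.leaf cE3368) (BT.leaf cE3369)) (BT.node 3370 (BT.leaf cE3370) (BT.leaf cE3371))) (BT.node 3373 (BT.node 3372 (BT.leaf cE3372) (BT.leaf cE3373)) (BT.leaf cE3374)))) (BT.node 3381 (BT.node 3378 (BT.node 3376 (BT.node 3375 (BT.leaf cE3375) (BT.leaf cE3376)) (BT.node 3377 (BT.leaf cE3377) (BT.leaf cE3378))) (BT.node 3380 (BT.node 3379 (BT.leaf cE3379) (BT.leaf cE3380)) (BT.leaf cE3381))) (BT.node 3385 (BT.node 3383 (BT.node 3382 (BT.leaf cE3382) (BT.leaf cE3383)) (BT.node 3384 (BT.leaf cE3384) (BT.leaf cE3385))) (BT.node 3387 (BT.node 3386 (BT.leaf cE3386) (BT.leaf cE3387)) (BT.leaf cE3388))))) (BT.node 3402 (BT.node 3395 (BT.node 3392 (BT.node 3390 (BT.node 3389 (BT.leaf cE3389) (BT.leaf cE3390)) (BT.node 3391 (BT.leaf cE3391) (BT.leaf cE3392))) (BT.node 3394 (BT.node 3393 (BT.leaf cE3393) (BT.leaf cE3394)) (BT.leaf cE3395))) (BT.node 3399 (BT.node 3397 (BT.node 3396 (BT.leaf cE3396) (BT.leaf cE3397)) (BT.node 3398 (BT.leaf cE3398) (BT.leaf cE3399))) (BT.node 3401 (BT.node 3400 (BT.leaf cE3400) (BT.leaf cE3401)) (BT.leaf cE3402)))) (BT.node 3409 (BT.node 3406 (BT.node 3404 (BT.node 3403 (BT.leaf cE3403) (BT.leaf cE3404)) (BT.node 3405 (BT.leaf cE3405) (BT.leaf cE3406))) (BT.node 3408 (BT.node 3407 (BT.leaf cE3407) (BT.leaf cE3408)) (BT.leaf cE3409))) (BT.node 3413 (BT.node 3411 (BT.node 3410 (BT.leaf cE3410) (BT.leaf cE3411)) (BT.node 3412 (BT.leaf cE3412) (BT.leaf cE3413))) (BT.node 3415 (BT.node 3414 (BT.leaf cE3414) (BT.leaf cE3415)) (BT.leaf cE3416)))))) (BT.node 3444 (BT.node 3430 (BT.node 3423 (BT.node 3420 (BT.node 3418 (BT.node 3417 (BT.leaf cE3417) (BT.leaf cE3418)) (BT.node 3419 (BT.leaf cE3419) (BT.leaf cE3420))) (BT.node 3422 (BT.node 3421 (BT.leaf cE3421) (BT.leaf cE3422)) (BT.leaf cE3423))) (BT.node 3427 (BT.node 3425 (BT.node 3424 (BT.leaf cE3424) (BT.leaf cE3425)) (BT.node 3426 (BT.leaf cE3426) (BT.leaf cE3427))) (BT.node 3429 (BT.node 3428 (BT.leaf cE3428) (BT.leaf cE3429)) (BT.leaf cE3430)))) (BT.node 3437 (BT.node 3434 (BT.node 3432 (BT.node 3431 (BT.leaf cE3431) (BT.leaf cE3432)) (BT.node 3433 (BT.leaf cE3433) (BT.leaf cE3434))) (BT.node 3436 (BT.node 3435 (BT.leaf cE3435) (BT.leaf cE3436)) (BT.leaf cE3437))) (BT.node 3441 (BT.node 3439 (BT.node 3438 (BT.leaf cE3438) (BT.leaf cE3439)) (BT.node 3440 (BT.leaf cE3440) (BT.leaf cE3441))) (BT.node 3443 (BT.node 3442 (BT.leaf cE3442) (BT.leaf cE3443)) (BT.leaf cE3444))))) (BT.node 3458 (BT.node 3451 (BT.node 3448 (BT.node 3446 (BT.node 3445 (BT.leaf cE3445) (BT.leaf cE3446)) (BT.node 3447 (BT.leaf cE3447) (BT.leaf cE3448))) (BT.node 3450 (BT.node 3449 (BT.leaf cE3449) (BT.leaf cE3450)) (BT.leaf cE3451))) (BT.node 3455 (BT.node 3453 (BT.node 3452 (BT.leaf cE3452) (BT.leaf cE3453)) (BT.node 3454 (BT.leaf cE3454) (BT.leaf cE3455))) (BT.node 3457 (BT.node 3456 (BT.leaf cE3456) (BT.leaf cE3457)) (BT.leaf cE3458)))) (BT.node 3465 (BT.node 3462 (BT.node 3460 (BT.node 3459 (BT.leaf cE3459) (BT.leaf cE3460)) (BT.node 3461 (BT.leaf cE3461) (BT.leaf cE3462))) (BT.node 3464 (BT.node 3463 (BT.leaf cE3463) (BT.leaf cE3464)) (BT.leaf cE3465))) (BT.node 3469 (BT.node 3467 (BT.node 3466 (BT.leaf cE3466) (BT.leaf cE3467)) (BT.node 3468 (BT.leaf cE3468) (BT.leaf cE3469))) (BT.node 3471 (BT.node 3470 (BT.leaf cE3470) (BT.leaf cE3471)) (BT.leaf cE3472))))))) (BT.node 3528 (BT.node 3500 (BT.node 3486 (BT.node 3479 (BT.node 3476 (BT.node 3474 (BT.node 3473 (BT.leaf cE3473) (BT.leaf cE3474)) (BT.node 3475 (BT.leaf cE3475) (BT.leaf cE3476))) (BT.node 3478 (BT.node 3477 (BT.leaf cE3477) (BT.leaf cE3478)) (BT.leaf cE3479))) (BT.node 3483 (BT.node 3481 (BT.node 3480 (BT.leaf cE3480) (BT.leaf cE3481)) (BT.node 3482 (BT.leaf cE3482) (BT.leaf cE3483))) (BT.node 3485 (BT.node 3484 (BT.leaf cE3484) (BT.leaf cE3485)) (BT.leaf cE3486)))) (BT.node 3493 (BT.node 3490 (BT.node 3488 (BT.node 3487 (BT.leaf cE3487) (BT.leaf cE3488)) (BT.node 3489 (BT.leaf cE3489) (BT.leaf cE3490))) (BT.node 3492 (BT.node 3491 (BT.leaf cE3491) (BT.leaf cE3492)) (BT.leaf cE3493))) (BT.node 3497 (BT.node 3495 (BT.node 3494 (BT.leaf cE3494) (BT.leaf cE3495)) (BT.node 3496 (BT.leaf cE3496) (BT.leaf cE3497))) (BT.node 3499 (BT.node 3498 (BT.leaf cE3498) (BT.leaf cE3499)) (BT.leaf cE3500))))) (BT.node 3514 (BT.node 3507 (BT.node 3504 (BT.node 3502 (BT.node 3501 (BT.leaf cE3501) (BT.leaf cE3502)) (BT.node 3503 (BT.leaf cE3503) (BT.leaf cE3504))) (BT.node 3506 (BT.node 3505 (BT.leaf cE3505) (BT.leaf cE3506)) (BT.leaf cE3507))) (BT.node 3511 (BT.node 3509 (BT.node 3508 (BT.leaf cE3508) (BT.leaf cE3509)) (BT.node 3510 (BT.leaf cE3510) (BT.leaf cE3511))) (BT.node 3513 (BT.node 3512 (BT.leaf cE3512) (BT.leaf cE3513)) (BT.leaf cE3514)))) (BT.node 3521 (BT.node 3518 (BT.node 3516 (BT.node 3515 (BT.leaf cE3515) (BT.leaf cE3516)) (BT.node 3517 (BT.leaf cE3517) (BT.leaf cE3518))) (BT.node 3520 (BT.node 3519 (BT.leaf cE3519) (BT.leaf cE3520)) (BT.leaf cE3521))) (BT.node 3525 (BT.node 3523 (BT.node 3522 (BT.leaf cE3522) (BT.leaf cE3523)) (BT.node 3524 (BT.leaf cE3524) (BT.leaf cE3525))) (BT.node 3527 (BT.node 3526 (BT.leaf cE3526) (BT.leaf cE3527)) (BT.leaf cE3528)))))) (BT.node 3556 (BT.node 3542 (BT.node 3535 (BT.node 3532 (BT.node 3530 (BT.node 3529 (BT.leaf cE3529) (BT.leaf cE3530)) (BT.node 3531 (BT.leaf cE3531) (BT.leaf cE3532))) (BT.node 3534 (BT.node 3533 (BT.leaf cE3533) (BT.leaf cE3534)) (BT.leaf cE3535))) (BT.node 3539 (BT.node 3537 (BT.node 3536 (BT.leaf cE3536) (BT.leaf cE3537)) (BT.node 3538 (BT.leaf cE3538) (BT.leaf cE3539))) (BT.node 3541 (BT.node 3540 (BT.leaf cE3540) (BT.leaf cE3541)) (BT.leaf cE3542)))) (BT.node 3549 (BT.node 3546 (BT.node 3544 (BT.node 3543 (BT.leaf cE3543) (BT.leaf cE3544)) (BT.node 3545 (BT.leaf cE3545) (BT.leaf cE3546))) (BT.node 3548 (BT.node 3547 (BT.leaf cE3547) (BT.leaf cE3548)) (BT.leaf cE3549))) (BT.node 3553 (BT.node 3551 (BT.node 3550 (BT.leaf cE3550) (BT.leaf cE3551)) (BT.node 3552 (BT.leaf cE3552) (BT.leaf cE3553))) (BT.node 3555 (BT.node 3554 (BT.leaf cE3554) (BT.leaf cE3555)) (BT.leaf cE3556))))) (BT.node 3570 (BT.node 3563 (BT.node 3560 (BT.node 3558 (BT.node 3557 (BT.leaf cE3557) (BT.leaf cE3558)) (BT.node 3559 (BT.leaf cE3559) (BT.leaf cE3560))) (BT.node 3562 (BT.node 3561 (BT.leaf cE3561) (BT.leaf cE3562)) (BT.leaf cE3563))) (BT.node 3567 (BT.node 3565 (BT.node 3564 (BT.leaf cE3564) (BT.leaf cE3565)) (BT.node 3566 (BT.leaf cE3566) (BT.leaf cE3567))) (BT.node 3569 (BT.node 3568 (BT.leaf cE3568) (BT.leaf cE3569)) (BT.leaf cE3570)))) (BT.node 3577 (BT.node 3574 (BT.node 3572 (BT.node 3571 (BT.leaf cE3571) (BT.leaf cE3572)) (BT.node 3573 (BT.leaf cE3573) (BT.leaf cE3574))) (BT.node 3576 (BT.node 3575 (BT.leaf cE3575) (BT.leaf cE3576)) (BT.leaf cE3577))) (BT.node 3581 (BT.node 3579 (BT.node 3578 (BT.leaf cE3578) (BT.leaf cE3579)) (BT.node 3580 (BT.leaf cE3580) (BT.leaf cE3581))) (BT.node 3583 (BT.node 3582 (BT.leaf cE3582) (BT.leaf cE3583)) (BT.leaf cE3584))))))))))))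
/-- justification chunks -/
def colJT : BT ℕ := (BT.node 1792 (BT.node 896 (BT.node 448 (BT.node 224 (BT.node 112 (BT.node 56 (BT.node 28 (BT.node 14 (BT.node 7 (BT.node 3 (BT.node 1 (BT.node 0 (BT.leaf cJ0) (BT.leaf cJ1)) (BT.node 2 (BT.leaf cJ2) (BT.leaf cJ3))) (BT.node 5 (BT.node 4 (BT.leaf cJ4) (BT.leaf cJ5)) (BT.node 6 (BT.leaf cJ6) (BT.leaf cJ7)))) (BT.node 11 (BT.node 9 (BT.node 8 (BT.leaf cJ8) (BT.leaf cJ9)) (BT.node 10 (BT.leaf cJ10) (BT.leaf cJ11))) (BT.node 13 (BT.node 12 (BT.leaf cJ12) (BT.leaf cJ13)) (BT.leaf cJ14)))) (BT.node 21 (BT.node 18 (BT.node 16 (BT.node 15 (BT.leaf cJ15) (BT.leaf cJ16)) (BT.node 17 (BT.leaf cJ17) (BT.leaf cJ18))) (BT.node 20 (BT.node 19 (BT.leaf cJ19) (BT.leaf cJ20)) (BT.leaf cJ21))) (BT.node 25 (BT.node 23 (BT.node 22 (BT.leaf cJ22) (BT.leaf cJ23)) (BT.node 24 (BT.leaf cJ24) (BT.leaf cJ25))) (BT.node 27 (BT.node 26 (BT.leaf cJ26) (BT.leaf cJ27)) (BT.leaf cJ28))))) (BT.node 42 (BT.node 35 (BT.node 32 (BT.node 30 (BT.node 29 (BT.leaf cJ29) (BT.leaf cJ30)) (BT.node 31 (BT.leaf cJ31) (BT.leaf cJ32))) (BT.node 34 (BT.node 33 (BT.leaf cJ33) (BT.leaf cJ34)) (BT.leaf cJ35))) (BT.node 39 (BT.node 37 (BT.node 36 (BT.leaf cJ36) (BT.leaf cJ37)) (BT.node 38 (BT.leaf cJ38) (BT.leaf cJ39))) (BT.node 41 (BT.node 40 (BT.leaf cJ40) (BT.leaf cJ41)) (BT.leaf cJ42)))) (BT.node 49 (BT.node 46 (BT.node 44 (BT.node 43 (BT.leaf cJ43) (BT.leaf cJ44)) (BT.node 45 (BT.leaf cJ45) (BT.leaf cJ46))) (BT.node 48 (BT.node 47 (BT.leaf cJ47) (BT.leaf cJ48)) (BT.leaf cJ49))) (BT.node 53 (BT.node 51 (BT.node 50 (BT.leaf cJ50) (BT.leaf cJ51)) (BT.node 52 (BT.leaf cJ52) (BT.leaf cJ53))) (BT.node 55 (BT.node 54 (BT.leaf cJ54) (BT.leaf cJ55)) (BT.leaf cJ56)))))) (BT.node 84 (BT.node 70 (BT.node 63 (BT.node 60 (BT.node 58 (BT.node 57 (BT.leaf cJ57) (BT.leaf cJ58)) (BT.node 59 (BT.leaf cJ59) (BT.leaf cJ60))) (BT.node 62 (BT.node 61 (BT.leaf cJ61) (BT.leaf cJ62)) (BT.leaf cJ63))) (BT.node 67 (BT.node 65 (BT.node 64 (BT.leaf cJ64) (BT.leaf cJ65)) (BT.node 66 (BT.leaf cJ66) (BT.leaf cJ67))) (BT.node 69 (BT.node 68 (BT.leaf cJ68) (BT.leaf cJ69)) (BT.leaf cJ70)))) (BT.node 77 (BT.node 74 (BT.node 72 (BT.node 71 (BT.leaf cJ71) (BT.leaf cJ72)) (BT.node 73 (BT.leaf cJ73) (BT.leaf cJ74))) (BT.node 76 (BT.node 75 (BT.leaf cJ75) (BT.leaf cJ76)) (BT.leaf cJ77))) (BT.node 81 (BT.node 79 (BT.node 78 (BT.leaf cJ78) (BT.leaf cJ79)) (BT.node 80 (BT.leaf cJ80) (BT.leaf cJ81))) (BT.node 83 (BT.node 82 (BT.leaf cJ82) (BT.leaf cJ83)) (BT.leaf cJ84))))) (BT.node 98 (BT.node 91 (BT.node 88 (BT.node 86 (BT.node 85 (BT.leaf cJ85) (BT.leaf cJ86)) (BT.node 87 (BT.leaf cJ87) (BT.leaf cJ88))) (BT.node 90 (BT.node 89 (BT.leaf cJ89) (BT.leaf cJ90)) (BT.leaf cJ91))) (BT.node 95 (BT.node 93 (BT.node 92 (BT.leaf cJ92) (BT.leaf cJ93)) (BT.node 94 (BT.leaf cJ94) (BT.leaf cJ95))) (BT.node 97 (BT.node 96 (BT.leaf cJ96) (BT.leaf cJ97)) (BT.leaf cJ98)))) (BT.node 105 (BT.node 102 (BT.node 100 (BT.node 99 (BT.leaf cJ99) (BT.leaf cJ100)) (BT.node 101 (BT.leaf cJ101) (BT.leaf cJ102))) (BT.node 104 (BT.node 103 (BT.leaf cJ103) (BT.leaf cJ104)) (BT.leaf cJ105))) (BT.node 109 (BT.node 107 (BT.node 106 (BT.leaf cJ106) (BT.leaf cJ107)) (BT.node 108 (BT.leaf cJ108) (BT.leaf cJ109))) (BT.node 111 (BT.node 110 (BT.leaf cJ110) (BT.leaf cJ111)) (BT.leaf cJ112))))))) (BT.node 168 (BT.node 140 (BT.node 126 (BT.node 119 (BT.node 116 (BT.node 114 (BT.node 113 (BT.leaf cJ113) (BT.leaf cJ114)) (BT.node 115 (BT.leaf cJ115) (BT.leaf cJ116))) (BT.node 118 (BT.node 117 (BT.leaf cJ117) (BT.leaf cJ118)) (BT.leaf cJ119))) (BT.node 123 (BT.node 121 (BT.node 120 (BT.leaf cJ120) (BT.leaf cJ121)) (BT.node 122 (BT.leaf cJ122) (BT.leaf cJ123))) (BT.node 125 (BT.node 124 (BT.leaf cJ124) (BT.leaf cJ125)) (BT.leaf cJ126)))) (BT.node 133 (BT.node 130 (BT.node 128 (BT.node 127 (BT.leaf cJ127) (BT.leaf cJ128)) (BT.node 129 (BT.leaf cJ129) (BT.leaf cJ130))) (BT.node 132 (BT.node 131 (BT.leaf cJ131) (BT.leaf cJ132)) (BT.leaf cJ133))) (BT.node 137 (BT.node 135 (BT.node 134 (BT.leaf cJ134) (BT.leaf cJ135)) (BT.node 136 (BT.leaf cJ136) (BT.leaf cJ137))) (BT.node 139 (BT.node 138 (BT.leaf cJ138) (BT.leaf cJ139)) (BT.leaf cJ140))))) (BT.node 154 (BT.node 147 (BT.node 144 (BT.node 142 (BT.node 141 (BT.leaf cJ141) (BT.leaf cJ142)) (BT.node 143 (BT.leaf cJ143) (BT.leaf cJ144))) (BT.node 146 (BT.node 145 (BT.leaf cJ145) (BT.leaf cJ146)) (BT.leaf cJ147))) (BT.node 151 (BT.node 149 (BT.node 148 (BT.leaf cJ148) (BT.leaf cJ149)) (BT.node 150 (BT.leaf cJ150) (BT.leaf cJ151))) (BT.node 153 (BT.node 152 (BT.leaf cJ152) (BT.leaf cJ153)) (BT.leaf cJ154)))) (BT.node 161 (BT.node 158 (BT.node 156 (BT.node 155 (BT.leaf cJ155) (BT.leaf cJ156)) (BT.node 157 (BT.leaf cJ157) (BT.leaf cJ158))) (BT.node 160 (BT.node 159 (BT.leaf cJ159) (BT.leaf cJ160)) (BT.leaf cJ161))) (BT.node 165 (BT.node 163 (BT.node 162 (BT.leaf cJ162) (BT.leaf cJ163)) (BT.node 164 (BT.leaf cJ164) (BT.leaf cJ165))) (BT.node 167 (BT.node 166 (BT.leaf cJ166) (BT.leaf cJ167)) (BT.leaf cJ168)))))) (BT.node 196 (BT.node 182 (BT.node 175 (BT.node 172 (BT.node 170 (BT.node 169 (BT.leaf cJ169) (BT.leaf cJ170)) (BT.node 171 (BT.leaf cJ171) (BT.leaf cJ172))) (BT.node 174 (BT.node 173 (BT.leaf cJ173) (BT.leaf cJ174)) (BT.leaf cJ175))) (BT.node 179 (BT.node 177 (BT.node 176 (BT.leaf cJ176) (BT.leaf cJ177)) (BT.node 178 (BT.leaf cJ178) (BT.leaf cJ179))) (BT.node 181 (BT.node 180 (BT.leaf cJ180) (BT.leaf cJ181)) (BT.leaf cJ182)))) (BT.node 189 (BT.node 186 (BT.node 184 (BT.node 183 (BT.leaf cJ183) (BT.leaf cJ184)) (BT.node 185 (BT.leaf cJ185) (BT.leaf cJ186))) (BT.node 188 (BT.node 187 (BT.leaf cJ187) (BT.leaf cJ188)) (BT.leaf cJ189))) (BT.node 193 (BT.node 191 (BT.node 190 (BT.leaf cJ190) (BT.leaf cJ191)) (BT.node 192 (BT.leaf cJ192) (BT.leaf cJ193))) (BT.node 195 (BT.node 194 (BT.leaf cJ194) (BT.leaf cJ195)) (BT.leaf cJ196))))) (BT.node 210 (BT.node 203 (BT.node 200 (BT.node 198 (BT.node 197 (BT.leaf cJ197) (BT.leaf cJ198)) (BT.node 199 (BT.leaf cJ199) (BT.leaf cJ200))) (BT.node 202 (BT.node 201 (BT.leaf cJ201) (BT.leaf cJ202)) (BT.leaf cJ203))) (BT.node 207 (BT.node 205 (BT.node 204 (BT.leaf cJ204) (BT.leaf cJ205)) (BT.node 206 (BT.leaf cJ206) (BT.leaf cJ207))) (BT.node 209 (BT.node 208 (BT.leaf cJ208) (BT.leaf cJ209)) (BT.leaf cJ210)))) (BT.node 217 (BT.node 214 (BT.node 212 (BT.node 211 (BT.leaf cJ211) (BT.leaf cJ212)) (BT.node 213 (BT.leaf cJ213) (BT.leaf cJ214))) (BT.node 216 (BT.node 215 (BT.leaf cJ215) (BT.leaf cJ216)) (BT.leaf cJ217))) (BT.node 221 (BT.node 219 (BT.node 218 (BT.leaf cJ218) (BT.leaf cJ219)) (BT.node 220 (BT.leaf cJ220) (BT.leaf cJ221))) (BT.node 223 (BT.node 222 (BT.leaf cJ222) (BT.leaf cJ223)) (BT.leaf cJ224)))))))) (BT.node 336 (BT.node 280 (BT.node 252 (BT.node 238 (BT.node 231 (BT.node 228 (BT.node 226 (BT.node 225 (BT.leaf cJ225) (BT.leaf cJ226)) (BT.node 227 (BT.leaf cJ227) (BT.leaf cJ228))) (BT.node 230 (BT.node 229 (BT.leaf cJ229) (BT.leaf cJ230)) (BT.leaf cJ231))) (BT.node 235 (BT.node 233 (BT.node 232 (BT.leaf cJ232) (BT.leaf cJ233)) (BT.node 234 (BT.leaf cJ234) (BT.leaf cJ235))) (BT.node 237 (BT.node 236 (BT.leaf cJ236) (BT.leaf cJ237)) (BT.leaf cJ238)))) (BT.node 245 (BT.node 242 (BT.node 240 (BT.node 239 (BT.leaf cJ239) (BT.leaf cJ240)) (BT.node 241 (BT.leaf cJ241) (BT.leaf cJ242))) (BT.node 244 (BT.node 243 (BT.leaf cJ243) (BT.leaf cJ244)) (BT.leaf cJ245))) (BT.node 249 (BT.node 247 (BT.node 246 (BT.leaf cJ246) (BT.leaf cJ247)) (BT.node 248 (BT.leaf cJ248) (BT.leaf cJ249))) (BT.node 251 (BT.node 250 (BT.leaf cJ250) (BT.leaf cJ251)) (BT.leaf cJ252))))) (BT.node 266 (BT.node 259 (BT.node 256 (BT.node 254 (BT.node 253 (BT.leaf cJ253) (BT.leaf cJ254)) (BT.node 255 (BT.leaf cJ255) (BT.leaf cJ256))) (BT.node 258 (BT.node 257 (BT.leaf cJ257) (BT.leaf cJ258)) (BT.leaf cJ259))) (BT.node 263 (BT.node 261 (BT.node 260 (BT.leaf cJ260) (BT.leaf cJ261)) (BT.node 262 (BT.leaf cJ262) (BT.leaf cJ263))) (BT.node 265 (BT.node 264 (BT.leaf cJ264) (BT.leaf cJ265)) (BT.leaf cJ266)))) (BT.node 273 (BT.node 270 (BT.node 268 (BT.node 267 (BT.leaf cJ267) (BT.leaf cJ268)) (BT.node 269 (BT.leaf cJ269) (BT.leaf cJ270))) (BT.node 272 (BT.node 271 (BT.leaf cJ271) (BT.leaf cJ272)) (BT.leaf cJ273))) (BT.node 277 (BT.node 275 (BT.node 274 (BT.leaf cJ274) (BT.leaf cJ275)) (BT.node 276 (BT.leaf cJ276) (BT.leaf cJ277))) (BT.node 279 (BT.node 278 (BT.leaf cJ278) (BT.leaf cJ279)) (BT.leaf cJ280)))))) (BT.node 308 (BT.node 294 (BT.node 287 (BT.node 284 (BT.node 282 (BT.node 281 (BT.leaf cJ281) (BT.leaf cJ282)) (BT.node 283 (BT.leaf cJ283) (BT.leaf cJ284))) (BT.node 286 (BT.node 285 (BT.leaf cJ285) (BT.leaf cJ286)) (BT.leaf cJ287))) (BT.node 291 (BT.node 289 (BT.node 288 (BT.leaf cJ288) (BT.leaf cJ289)) (BT.node 290 (BT.leaf cJ290) (BT.leaf cJ291))) (BT.node 293 (BT.node 292 (BT.leaf cJ292) (BT.leaf cJ293)) (BT.leaf cJ294)))) (BT.node 301 (BT.node 298 (BT.node 296 (BT.node 295 (BT.leaf cJ295) (BT.leaf cJ296)) (BT.node 297 (BT.leaf cJ297) (BT.leaf cJ298))) (BT.node 300 (BT.node 299 (BT.leaf cJ299) (BT.leaf cJ300)) (BT.leaf cJ301))) (BT.node 305 (BT.node 303 (BT.node 302 (BT.leaf cJ302) (BT.leaf cJ303)) (BT.node 304 (BT.leaf cJ304) (BT.leaf cJ305))) (BT.node 307 (BT.node 306 (BT.leaf cJ306) (BT.leaf cJ307)) (BT.leaf cJ308))))) (BT.node 322 (BT.node 315 (BT.node 312 (BT.node 310 (BT.node 309 (BT.leaf cJ309) (BT.leaf cJ310)) (BT.node 311 (BT.leaf cJ311) (BT.leaf cJ312))) (BT.node 314 (BT.node 313 (BT.leaf cJ313) (BT.leaf cJ314)) (BT.leaf cJ315))) (BT.node 319 (BT.node 317 (BT.node 316 (BT.leaf cJ316) (BT.leaf cJ317)) (BT.node 318 (BT.leaf cJ318) (BT.leaf cJ319))) (BT.node 321 (BT.node 320 (BT.leaf cJ320) (BT.leaf cJ321)) (BT.leaf cJ322)))) (BT.node 329 (BT.node 326 (BT.node 324 (BT.node 323 (BT.leaf cJ323) (BT.leaf cJ324)) (BT.node 325 (BT.leaf cJ325) (BT.leaf cJ326))) (BT.node 328 (BT.node 327 (BT.leaf cJ327) (BT.leaf cJ328)) (BT.leaf cJ329))) (BT.node 333 (BT.node 331 (BT.node 330 (BT.leaf cJ330) (BT.leaf cJ331)) (BT.node 332 (BT.leaf cJ332) (BT.leaf cJ333))) (BT.node 335 (BT.node 334 (BT.leaf cJ334) (BT.leaf cJ335)) (BT.leaf cJ336))))))) (BT.node 392 (BT.node 364 (BT.node 350 (BT.node 343 (BT.node 340 (BT.node 338 (BT.node 337 (BT.leaf cJ337) (BT.leaf cJ338)) (BT.node 339 (BT.leaf cJ339) (BT.leaf cJ340))) (BT.node 342 (BT.node 341 (BT.leaf cJ341) (BT.leaf cJ342)) (BT.leaf cJ343))) (BT.node 347 (BT.node 345 (BT.node 344 (BT.leaf cJ344) (BT.leaf cJ345)) (BT.node 346 (BT.leaf cJ346) (BT.leaf cJ347))) (BT.node 349 (BT.node 348 (BT.leaf cJ348) (BT.leaf cJ349)) (BT.leaf cJ350)))) (BT.node 357 (BT.node 354 (BT.node 352 (BT.node 351 (BT.leaf cJ351) (BT.leaf cJ352)) (BT.node 353 (BT.leaf cJ353) (BT.leaf cJ354))) (BT.node 356 (BT.node 355 (BT.leaf cJ355) (BT.leaf cJ356)) (BT.leaf cJ357))) (BT.node 361 (BT.node 359 (BT.node 358 (BT.leaf cJ358) (BT.leaf cJ359)) (BT.node 360 (BT.leaf cJ360) (BT.leaf cJ361))) (BT.node 363 (BT.node 362 (BT.leaf cJ362) (BT.leaf cJ363)) (BT.leaf cJ364))))) (BT.node 378 (BT.node 371 (BT.node 368 (BT.node 366 (BT.node 365 (BT.leaf cJ365) (BT.leaf cJ366)) (BT.node 367 (BT.leaf cJ367) (BT.leaf cJ368))) (BT.node 370 (BT.node 369 (BT.leaf cJ369) (BT.leaf cJ370)) (BT.leaf cJ371))) (BT.node 375 (BT.node 373 (BT.node 372 (BT.leaf cJ372) (BT.leaf cJ373)) (BT.node 374 (BT.leaf cJ374) (BT.leaf cJ375))) (BT.node 377 (BT.node 376 (BT.leaf cJ376) (BT.leaf cJ377)) (BT.leaf cJ378)))) (BT.node 385 (BT.node 382 (BT.node 380 (BT.node 379 (BT.leaf cJ379) (BT.leaf cJ380)) (BT.node 381 (BT.leaf cJ381) (BT.leaf cJ382))) (BT.node 384 (BT.node 383 (BT.leaf cJ383) (BT.leaf cJ384)) (BT.leaf cJ385))) (BT.node 389 (BT.node 387 (BT.node 386 (BT.leaf cJ386) (BT.leaf cJ387)) (BT.node 388 (BT.leaf cJ388) (BT.leaf cJ389))) (BT.node 391 (BT.node 390 (BT.leaf cJ390) (BT.leaf cJ391)) (BT.leaf cJ392)))))) (BT.node 420 (BT.node 406 (BT.node 399 (BT.node 396 (BT.node 394 (BT.node 393 (BT.leaf cJ393) (BT.leaf cJ394)) (BT.node 395 (BT.leaf cJ395) (BT.leaf cJ396))) (BT.node 398 (BT.node 397 (BT.leaf cJ397) (BT.leaf cJ398)) (BT.leaf cJ399))) (BT.node 403 (BT.node 401 (BT.node 400 (BT.leaf cJ400) (BT.leaf cJ401)) (BT.node 402 (BT.leaf cJ402) (BT.leaf cJ403))) (BT.node 405 (BT.node 404 (BT.leaf cJ404) (BT.leaf cJ405)) (BT.leaf cJ406)))) (BT.node 413 (BT.node 410 (BT.node 408 (BT.node 407 (BT.leaf cJ407) (BT.leaf cJ408)) (BT.node 409 (BT.leaf cJ409) (BT.leaf cJ410))) (BT.node 412 (BT.node 411 (BT.leaf cJ411) (BT.leaf cJ412)) (BT.leaf cJ413))) (BT.node 417 (BT.node 415 (BT.node 414 (BT.leaf cJ414) (BT.leaf cJ415)) (BT.node 416 (BT.leaf cJ416) (BT.leaf cJ417))) (BT.node 419 (BT.node 418 (BT.leaf cJ418) (BT.leaf cJ419)) (BT.leaf cJ420))))) (BT.node 434 (BT.node 427 (BT.node 424 (BT.node 422 (BT.node 421 (BT.leaf cJ421) (BT.leaf cJ422)) (BT.node 423 (BT.leaf cJ423) (BT.leaf cJ424))) (BT.node 426 (BT.node 425 (BT.leaf cJ425) (BT.leaf cJ426)) (BT.leaf cJ427))) (BT.node 431 (BT.node 429 (BT.node 428 (BT.leaf cJ428) (BT.leaf cJ429)) (BT.node 430 (BT.leaf cJ430) (BT.leaf cJ431))) (BT.node 433 (BT.node 432 (BT.leaf cJ432) (BT.leaf cJ433)) (BT.leaf cJ434)))) (BT.node 441 (BT.node 438 (BT.node 436 (BT.node 435 (BT.leaf cJ435) (BT.leaf cJ436)) (BT.node 437 (BT.leaf cJ437) (BT.leaf cJ438))) (BT.node 440 (BT.node 439 (BT.leaf cJ439) (BT.leaf cJ440)) (BT.leaf cJ441))) (BT.node 445 (BT.node 443 (BT.node 442 (BT.leaf cJ442) (BT.leaf cJ443)) (BT.node 444 (BT.leaf cJ444) (BT.leaf cJ445))) (BT.node 447 (BT.node 446 (BT.leaf cJ446) (BT.leaf cJ447)) (BT.leaf cJ448))))))))) (BT.node 672 (BT.node 560 (BT.node 504 (BT.node 476 (BT.node 462 (BT.node 455 (BT.node 452 (BT.node 450 (BT.node 449 (BT.leaf cJ449) (BT.leaf cJ450)) (BT.node 451 (BT.leaf cJ451) (BT.leaf cJ452))) (BT.node 454 (BT.node 453 (BT.leaf cJ453) (BT.leaf cJ454)) (BT.leaf cJ455))) (BT.node 459 (BT.node 457 (BT.node 456 (BT.leaf cJ456) (BT.leaf cJ457)) (BT.node 458 (BT.leaf cJ458) (BT.leaf cJ459))) (BT.node 461 (BT.node 460 (BT.leaf cJ460) (BT.leaf cJ461)) (BT.leaf cJ462)))) (BT.node 469 (BT.node 466 (BT.node 464 (BT.node 463 (BT.leaf cJ463) (BT.leaf cJ464)) (BT.node 465 (BT.leaf cJ465) (BT.leaf cJ466))) (BT.node 468 (BT.node 467 (BT.leaf cJ467) (BT.leaf cJ468)) (BT.leaf cJ469))) (BT.node 473 (BT.node 471 (BT.node 470 (BT.leaf cJ470) (BT.leaf cJ471)) (BT.node 472 (BT.leaf cJ472) (BT.leaf cJ473))) (BT.node 475 (BT.node 474 (BT.leaf cJ474) (BT.leaf cJ475)) (BT.leaf cJ476))))) (BT.node 490 (BT.node 483 (BT.node 480 (BT.node 478 (BT.node 477 (BT.leaf cJ477) (BT.leaf cJ478)) (BT.node 479 (BT.leaf cJ479) (BT.leaf cJ480))) (BT.node 482 (BT.node 481 (BT.leaf cJ481) (BT.leaf cJ482)) (BT.leaf cJ483))) (BT.node 487 (BT.node 485 (BT.node 484 (BT.leaf cJ484) (BT.leaf cJ485)) (BT.node 486 (BT.leaf cJ486) (BT.leaf cJ487))) (BT.node 489 (BT.node 488 (BT.leaf cJ488) (BT.leaf cJ489)) (BT.leaf cJ490)))) (BT.node 497 (BT.node 494 (BT.node 492 (BT.node 491 (BT.leaf cJ491) (BT.leaf cJ492)) (BT.node 493 (BT.leaf cJ493) (BT.leaf cJ494))) (BT.node 496 (BT.node 495 (BT.leaf cJ495) (BT.leaf cJ496)) (BT.leaf cJ497))) (BT.node 501 (BT.node 499 (BT.node 498 (BT.leaf cJ498) (BT.leaf cJ499)) (BT.node 500 (BT.leaf cJ500) (BT.leaf cJ501))) (BT.node 503 (BT.node 502 (BT.leaf cJ502) (BT.leaf cJ503)) (BT.leaf cJ504)))))) (BT.node 532 (BT.node 518 (BT.node 511 (BT.node 508 (BT.node 506 (BT.node 505 (BT.leaf cJ505) (BT.leaf cJ506)) (BT.node 507 (BT.leaf cJ507) (BT.leaf cJ508))) (BT.node 510 (BT.node 509 (BT.leaf cJ509) (BT.leaf cJ510)) (BT.leaf cJ511))) (BT.node 515 (BT.node 513 (BT.node 512 (BT.leaf cJ512) (BT.leaf cJ513)) (BT.node 514 (BT.leaf cJ514) (BT.leaf cJ515))) (BT.node 517 (BT.node 516 (BT.leaf cJ516) (BT.leaf cJ517)) (BT.leaf cJ518)))) (BT.node 525 (BT.node 522 (BT.node 520 (BT.node 519 (BT.leaf cJ519) (BT.leaf cJ520)) (BT.node 521 (BT.leaf cJ521) (BT.leaf cJ522))) (BT.node 524 (BT.node 523 (BT.leaf cJ523) (BT.leaf cJ524)) (BT.leaf cJ525))) (BT.node 529 (BT.node 527 (BT.node 526 (BT.leaf cJ526) (BT.leaf cJ527)) (BT.node 528 (BT.leaf cJ528) (BT.leaf cJ529))) (BT.node 531 (BT.node 530 (BT.leaf cJ530) (BT.leaf cJ531)) (BT.leaf cJ532))))) (BT.node 546 (BT.node 539 (BT.node 536 (BT.node 534 (BT.node 533 (BT.leaf cJ533) (BT.leaf cJ534)) (BT.node 535 (BT.leaf cJ535) (BT.leaf cJ536))) (BT.node 538 (BT.node 537 (BT.leaf cJ537) (BT.leaf cJ538)) (BT.leaf cJ539))) (BT.node 543 (BT.node 541 (BT.node 540 (BT.leaf cJ540) (BT.leaf cJ541)) (BT.node 542 (BT.leaf cJ542) (BT.leaf cJ543))) (BT.node 545 (BT.node 544 (BT.leaf cJ544) (BT.leaf cJ545)) (BT.leaf cJ546)))) (BT.node 553 (BT.node 550 (BT.node 548 (BT.node 547 (BT.leaf cJ547) (BT.leaf cJ548)) (BT.node 549 (BT.leaf cJ549) (BT.leaf cJ550))) (BT.node 552 (BT.node 551 (BT.leaf cJ551) (BT.leaf cJ552)) (BT.leaf cJ553))) (BT.node 557 (BT.node 555 (BT.node 554 (BT.leaf cJ554) (BT.leaf cJ555)) (BT.node 556 (BT.leaf cJ556) (BT.leaf cJ557))) (BT.node 559 (BT.node 558 (BT.leaf cJ558) (BT.leaf cJ559)) (BT.leaf cJ560))))))) (BT.node 616 (BT.node 588 (BT.node 574 (BT.node 567 (BT.node 564 (BT.node 562 (BT.node 561 (BT.leaf cJ561) (BT.leaf cJ562)) (BT.node 563 (BT.leaf cJ563) (BT.leaf cJ564))) (BT.node 566 (BT.node 565 (BT.leaf cJ565) (BT.leaf cJ566)) (BT.leaf cJ567))) (BT.node 571 (BT.node 569 (BT.node 568 (BT.leaf cJ568) (BT.leaf cJ569)) (BT.node 570 (BT.leaf cJ570) (BT.leaf cJ571))) (BT.node 573 (BT.node 572 (BT.leaf cJ572) (BT.leaf cJ573)) (BT.leaf cJ574)))) (BT.node 581 (BT.node 578 (BT.node 576 (BT.node 575 (BT.leaf cJ575) (BT.leaf cJ576)) (BT.node 577 (BT.leaf cJ577) (BT.leaf cJ578))) (BT.node 580 (BT.node 579 (BT.leaf cJ579) (BT.leaf cJ580)) (BT.leaf cJ581))) (BT.node 585 (BT.node 583 (BT.node 582 (BT.leaf cJ582) (BT.leaf cJ583)) (BT.node 584 (BT.leaf cJ584) (BT.leaf cJ585))) (BT.node 587 (BT.node 586 (BT.leaf cJ586) (BT.leaf cJ587)) (BT.leaf cJ588))))) (BT.node 602 (BT.node 595 (BT.node 592 (BT.node 590 (BT.node 589 (BT.leaf cJ589) (BT.leaf cJ590)) (BT.node 591 (BT.leaf cJ591) (BT.leaf cJ592))) (BT.node 594 (BT.node 593 (BT.leaf cJ593) (BT.leaf cJ594)) (BT.leaf cJ595))) (BT.node 599 (BT.node 597 (BT.node 596 (BT.leaf cJ596) (BT.leaf cJ597)) (BT.node 598 (BT.leaf cJ598) (BT.leaf cJ599))) (BT.node 601 (BT.node 600 (BT.leaf cJ600) (BT.leaf cJ601)) (BT.leaf cJ602)))) (BT.node 609 (BT.node 606 (BT.node 604 (BT.node 603 (BT.leaf cJ603) (BT.leaf cJ604)) (BT.node 605 (BT.leaf cJ605) (BT.leaf cJ606))) (BT.node 608 (BT.node 607 (BT.leaf cJ607) (BT.leaf cJ608)) (BT.leaf cJ609))) (BT.node 613 (BT.node 611 (BT.node 610 (BT.leaf cJ610) (BT.leaf cJ611)) (BT.node 612 (BT.leaf cJ612) (BT.leaf cJ613))) (BT.node 615 (BT.node 614 (BT.leaf cJ614) (BT.leaf cJ615)) (BT.leaf cJ616)))))) (BT.node 644 (BT.node 630 (BT.node 623 (BT.node 620 (BT.node 618 (BT.node 617 (BT.leaf cJ617) (BT.leaf cJ618)) (BT.node 619 (BT.leaf cJ619) (BT.leaf cJ620))) (BT.node 622 (BT.node 621 (BT.leaf cJ621) (BT.leaf cJ622)) (BT.leaf cJ623))) (BT.node 627 (BT.node 625 (BT.node 624 (BT.leaf cJ624) (BT.leaf cJ625)) (BT.node 626 (BT.leaf cJ626) (BT.leaf cJ627))) (BT.node 629 (BT.node 628 (BT.leaf cJ628) (BT.leaf cJ629)) (BT.leaf cJ630)))) (BT.node 637 (BT.node 634 (BT.node 632 (BT.node 631 (BT.leaf cJ631) (BT.leaf cJ632)) (BT.node 633 (BT.leaf cJ633) (BT.leaf cJ634))) (BT.node 636 (BT.node 635 (BT.leaf cJ635) (BT.leaf cJ636)) (BT.leaf cJ637))) (BT.node 641 (BT.node 639 (BT.node 638 (BT.leaf cJ638) (BT.leaf cJ639)) (BT.node 640 (BT.leaf cJ640) (BT.leaf cJ641))) (BT.node 643 (BT.node 642 (BT.leaf cJ642) (BT.leaf cJ643)) (BT.leaf cJ644))))) (BT.node 658 (BT.node 651 (BT.node 648 (BT.node 646 (BT.node 645 (BT.leaf cJ645) (BT.leaf cJ646)) (BT.node 647 (BT.leaf cJ647) (BT.leaf cJ648))) (BT.node 650 (BT.node 649 (BT.leaf cJ649) (BT.leaf cJ650)) (BT.leaf cJ651))) (BT.node 655 (BT.node 653 (BT.node 652 (BT.leaf cJ652) (BT.leaf cJ653)) (BT.node 654 (BT.leaf cJ654) (BT.leaf cJ655))) (BT.node 657 (BT.node 656 (BT.leaf cJ656) (BT.leaf cJ657)) (BT.leaf cJ658)))) (BT.node 665 (BT.node 662 (BT.node 660 (BT.node 659 (BT.leaf cJ659) (BT.leaf cJ660)) (BT.node 661 (BT.leaf cJ661) (BT.leaf cJ662))) (BT.node 664 (BT.node 663 (BT.leaf cJ663) (BT.leaf cJ664)) (BT.leaf cJ665))) (BT.node 669 (BT.node 667 (BT.node 666 (BT.leaf cJ666) (BT.leaf cJ667)) (BT.node 668 (BT.leaf cJ668) (BT.leaf cJ669))) (BT.node 671 (BT.node 670 (BT.leaf cJ670) (BT.leaf cJ671)) (BT.leaf cJ672)))))))) (BT.node 784 (BT.node 728 (BT.node 700 (BT.node 686 (BT.node 679 (BT.node 676 (BT.node 674 (BT.node 673 (BT.leaf cJ673) (BT.leaf cJ674)) (BT.node 675 (BT.leaf cJ675) (BT.leaf cJ676))) (BT.node 678 (BT.node 677 (BT.leaf cJ677) (BT.leaf cJ678)) (BT.leaf cJ679))) (BT.node 683 (BT.node 681 (BT.node 680 (BT.leaf cJ680) (BT.leaf cJ681)) (BT.node 682 (BT.leaf cJ682) (BT.leaf cJ683))) (BT.node 685 (BT.node 684 (BT.leaf cJ684) (BT.leaf cJ685)) (BT.leaf cJ686)))) (BT.node 693 (BT.node 690 (BT.node 688 (BT.node 687 (BT.leaf cJ687) (BT.leaf cJ688)) (BT.node 689 (BT.leaf cJ689) (BT.leaf cJ690))) (BT.node 692 (BT.node 691 (BT.leaf cJ691) (BT.leaf cJ692)) (BT.leaf cJ693))) (BT.node 697 (BT.node 695 (BT.node 694 (BT.leaf cJ694) (BT.leaf cJ695)) (BT.node 696 (BT.leaf cJ696) (BT.leaf cJ697))) (BT.node 699 (BT.node 698 (BT.leaf cJ698) (BT.leaf cJ699)) (BT.leaf cJ700))))) (BT.node 714 (BT.node 707 (BT.node 704 (BT.node 702 (BT.node 701 (BT.leaf cJ701) (BT.leaf cJ702)) (BT.node 703 (BT.leaf cJ703) (BT.leaf cJ704))) (BT.node 706 (BT.node 705 (BT.leaf cJ705) (BT.leaf cJ706)) (BT.leaf cJ707))) (BT.node 711 (BT.node 709 (BT.node 708 (BT.leaf cJ708) (BT.leaf cJ709)) (BT.node 710 (BT.leaf cJ710) (BT.leaf cJ711))) (BT.node 713 (BT.node 712 (BT.leaf cJ712) (BT.leaf cJ713)) (BT.leaf cJ714)))) (BT.node 721 (BT.node 718 (BT.node 716 (BT.node 715 (BT.leaf cJ715) (BT.leaf cJ716)) (BT.node 717 (BT.leaf cJ717) (BT.leaf cJ718))) (BT.node 720 (BT.node 719 (BT.leaf cJ719) (BT.leaf cJ720)) (BT.leaf cJ721))) (BT.node 725 (BT.node 723 (BT.node 722 (BT.leaf cJ722) (BT.leaf cJ723)) (BT.node 724 (BT.leaf cJ724) (BT.leaf cJ725))) (BT.node 727 (BT.node 726 (BT.leaf cJ726) (BT.leaf cJ727)) (BT.leaf cJ728)))))) (BT.node 756 (BT.node 742 (BT.node 735 (BT.node 732 (BT.node 730 (BT.node 729 (BT.leaf cJ729) (BT.leaf cJ730)) (BT.node 731 (BT.leaf cJ731) (BT.leaf cJ732))) (BT.node 734 (BT.node 733 (BT.leaf cJ733) (BT.leaf cJ734)) (BT.leaf cJ735))) (BT.node 739 (BT.node 737 (BT.node 736 (BT.leaf cJ736) (BT.leaf cJ737)) (BT.node 738 (BT.leaf cJ738) (BT.leaf cJ739))) (BT.node 741 (BT.node 740 (BT.leaf cJ740) (BT.leaf cJ741)) (BT.leaf cJ742)))) (BT.node 749 (BT.node 746 (BT.node 744 (BT.node 743 (BT.leaf cJ743) (BT.leaf cJ744)) (BT.node 745 (BT.leaf cJ745) (BT.leaf cJ746))) (BT.node 748 (BT.node 747 (BT.leaf cJ747) (BT.leaf cJ748)) (BT.leaf cJ749))) (BT.node 753 (BT.node 751 (BT.node 750 (BT.leaf cJ750) (BT.leaf cJ751)) (BT.node 752 (BT.leaf cJ752) (BT.leaf cJ753))) (BT.node 755 (BT.node 754 (BT.leaf cJ754) (BT.leaf cJ755)) (BT.leaf cJ756))))) (BT.node 770 (BT.node 763 (BT.node 760 (BT.node 758 (BT.node 757 (BT.leaf cJ757) (BT.leaf cJ758)) (BT.node 759 (BT.leaf cJ759) (BT.leaf cJ760))) (BT.node 762 (BT.node 761 (BT.leaf cJ761) (BT.leaf cJ762)) (BT.leaf cJ763))) (BT.node 767 (BT.node 765 (BT.node 764 (BT.leaf cJ764) (BT.leaf cJ765)) (BT.node 766 (BT.leaf cJ766) (BT.leaf cJ767))) (BT.node 769 (BT.node 768 (BT.leaf cJ768) (BT.leaf cJ769)) (BT.leaf cJ770)))) (BT.node 777 (BT.node 774 (BT.node 772 (BT.node 771 (BT.leaf cJ771) (BT.leaf cJ772)) (BT.node 773 (BT.leaf cJ773) (BT.leaf cJ774))) (BT.node 776 (BT.node 775 (BT.leaf cJ775) (BT.leaf cJ776)) (BT.leaf cJ777))) (BT.node 781 (BT.node 779 (BT.node 778 (BT.leaf cJ778) (BT.leaf cJ779)) (BT.node 780 (BT.leaf cJ780) (BT.leaf cJ781))) (BT.node 783 (BT.node 782 (BT.leaf cJ782) (BT.leaf cJ783)) (BT.leaf cJ784))))))) (BT.node 840 (BT.node 812 (BT.node 798 (BT.node 791 (BT.node 788 (BT.node 786 (BT.node 785 (BT.leaf cJ785) (BT.leaf cJ786)) (BT.node 787 (BT.leaf cJ787) (BT.leaf cJ788))) (BT.node 790 (BT.node 789 (BT.leaf cJ789) (BT.leaf cJ790)) (BT.leaf cJ791))) (BT.node 795 (BT.node 793 (BT.node 792 (BT.leaf cJ792) (BT.leaf cJ793)) (BT.node 794 (BT.leaf cJ794) (BT.leaf cJ795))) (BT.node 797 (BT.node 796 (BT.leaf cJ796) (BT.leaf cJ797)) (BT.leaf cJ798)))) (BT.node 805 (BT.node 802 (BT.node 800 (BT.node 799 (BT.leaf cJ799) (BT.leaf cJ800)) (BT.node 801 (BT.leaf cJ801) (BT.leaf cJ802))) (BT.node 804 (BT.node 803 (BT.leaf cJ803) (BT.leaf cJ804)) (BT.leaf cJ805))) (BT.node 809 (BT.node 807 (BT.node 806 (BT.leaf cJ806) (BT.leaf cJ807)) (BT.node 808 (BT.leaf cJ808) (BT.leaf cJ809))) (BT.node 811 (BT.node 810 (BT.leaf cJ810) (BT.leaf cJ811)) (BT.leaf cJ812))))) (BT.node 826 (BT.node 819 (BT.node 816 (BT.node 814 (BT.node 813 (BT.leaf cJ813) (BT.leaf cJ814)) (BT.node 815 (BT.leaf cJ815) (BT.leaf cJ816))) (BT.node 818 (BT.node 817 (BT.leaf cJ817) (BT.leaf cJ818)) (BT.leaf cJ819))) (BT.node 823 (BT.node 821 (BT.node 820 (BT.leaf cJ820) (BT.leaf cJ821)) (BT.node 822 (BT.leaf cJ822) (BT.leaf cJ823))) (BT.node 825 (BT.node 824 (BT.leaf cJ824) (BT.leaf cJ825)) (BT.leaf cJ826)))) (BT.node 833 (BT.node 830 (BT.node 828 (BT.node 827 (BT.leaf cJ827) (BT.leaf cJ828)) (BT.node 829 (BT.leaf cJ829) (BT.leaf cJ830))) (BT.node 832 (BT.node 831 (BT.leaf cJ831) (BT.leaf cJ832)) (BT.leaf cJ833))) (BT.node 837 (BT.node 835 (BT.node 834 (BT.leaf cJ834) (BT.leaf cJ835)) (BT.node 836 (BT.leaf cJ836) (BT.leaf cJ837))) (BT.node 839 (BT.node 838 (BT.leaf cJ838) (BT.leaf cJ839)) (BT.leaf cJ840)))))) (BT.node 868 (BT.node 854 (BT.node 847 (BT.node 844 (BT.node 842 (BT.node 841 (BT.leaf cJ841) (BT.leaf cJ842)) (BT.node 843 (BT.leaf cJ843) (BT.leaf cJ844))) (BT.node 846 (BT.node 845 (BT.leaf cJ845) (BT.leaf cJ846)) (BT.leaf cJ847))) (BT.node 851 (BT.node 849 (BT.node 848 (BT.leaf cJ848) (BT.leaf cJ849)) (BT.node 850 (BT.leaf cJ850) (BT.leaf cJ851))) (BT.node 853 (BT.node 852 (BT.leaf cJ852) (BT.leaf cJ853)) (BT.leaf cJ854)))) (BT.node 861 (BT.node 858 (BT.node 856 (BT.node 855 (BT.leaf cJ855) (BT.leaf cJ856)) (BT.node 857 (BT.leaf cJ857) (BT.leaf cJ858))) (BT.node 860 (BT.node 859 (BT.leaf cJ859) (BT.leaf cJ860)) (BT.leaf cJ861))) (BT.node 865 (BT.node 863 (BT.node 862 (BT.leaf cJ862) (BT.leaf cJ863)) (BT.node 864 (BT.leaf cJ864) (BT.leaf cJ865))) (BT.node 867 (BT.node 866 (BT.leaf cJ866) (BT.leaf cJ867)) (BT.leaf cJ868))))) (BT.node 882 (BT.node 875 (BT.node 872 (BT.node 870 (BT.node 869 (BT.leaf cJ869) (BT.leaf cJ870)) (BT.node 871 (BT.leaf cJ871) (BT.leaf cJ872))) (BT.node 874 (BT.node 873 (BT.leaf cJ873) (BT.leaf cJ874)) (BT.leaf cJ875))) (BT.node 879 (BT.node 877 (BT.node 876 (BT.leaf cJ876) (BT.leaf cJ877)) (BT.node 878 (BT.leaf cJ878) (BT.leaf cJ879))) (BT.node 881 (BT.node 880 (BT.leaf cJ880) (BT.leaf cJ881)) (BT.leaf cJ882)))) (BT.node 889 (BT.node 886 (BT.node 884 (BT.node 883 (BT.leaf cJ883) (BT.leaf cJ884)) (BT.node 885 (BT.leaf cJ885) (BT.leaf cJ886))) (BT.node 888 (BT.node 887 (BT.leaf cJ887) (BT.leaf cJ888)) (BT.leaf cJ889))) (BT.node 893 (BT.node 891 (BT.node 890 (BT.leaf cJ890) (BT.leaf cJ891)) (BT.node 892 (BT.leaf cJ892) (BT.leaf cJ893))) (BT.node 895 (BT.node 894 (BT.leaf cJ894) (BT.leaf cJ895)) (BT.leaf cJ896)))))))))) (BT.node 1344 (BT.node 1120 (BT.node 1008 (BT.node 952 (BT.node 924 (BT.node 910 (BT.node 903 (BT.node 900 (BT.node 898 (BT.node 897 (BT.leaf cJ897) (BT.leaf cJ898)) (BT.node 899 (BT.leaf cJ899) (BT.leaf cJ900))) (BT.node 902 (BT.node 901 (BT.leaf cJ901) (BT.leaf cJ902)) (BT.leaf cJ903))) (BT.node 907 (BT.node 905 (BT.node 904 (BT.leaf cJ904) (BT.leaf cJ905)) (BT.node 906 (BT.leaf cJ906) (BT.leaf cJ907))) (BT.node 909 (BT.node 908 (BT.leaf cJ908) (BT.leaf cJ909)) (BT.leaf cJ910)))) (BT.node 917 (BT.node 914 (BT.node 912 (BT.node 911 (BT.leaf cJ911) (BT.leaf cJ912)) (BT.node 913 (BT.leaf cJ913) (BT.leaf cJ914))) (BT.node 916 (BT.node 915 (BT.leaf cJ915) (BT.leaf cJ916)) (BT.leaf cJ917))) (BT.node 921 (BT.node 919 (BT.node 918 (BT.leaf cJ918) (BT.leaf cJ919)) (BT.node 920 (BT.leaf cJ920) (BT.leaf cJ921))) (BT.node 923 (BT.node 922 (BT.leaf cJ922) (BT.leaf cJ923)) (BT.leaf cJ924))))) (BT.node 938 (BT.node 931 (BT.node 928 (BT.node 926 (BT.node 925 (BT.leaf cJ925) (BT.leaf cJ926)) (BT.node 927 (BT.leaf cJ927) (BT.leaf cJ928))) (BT.node 930 (BT.node 929 (BT.leaf cJ929) (BT.leaf cJ930)) (BT.leaf cJ931))) (BT.node 935 (BT.node 933 (BT.node 932 (BT.leaf cJ932) (BT.leaf cJ933)) (BT.node 934 (BT.leaf cJ934) (BT.leaf cJ935))) (BT.node 937 (BT.node 936 (BT.leaf cJ936) (BT.leaf cJ937)) (BT.leaf cJ938)))) (BT.node 945 (BT.node 942 (BT.node 940 (BT.node 939 (BT.leaf cJ939) (BT.leaf cJ940)) (BT.node 941 (BT.leaf cJ941) (BT.leaf cJ942))) (BT.node 944 (BT.node 943 (BT.leaf cJ943) (BT.leaf cJ944)) (BT.leaf cJ945))) (BT.node 949 (BT.node 947 (BT.node 946 (BT.leaf cJ946) (BT.leaf cJ947)) (BT.node 948 (BT.leaf cJ948) (BT.leaf cJ949))) (BT.node 951 (BT.node 950 (BT.leaf cJ950) (BT.leaf cJ951)) (BT.leaf cJ952)))))) (BT.node 980 (BT.node 966 (BT.node 959 (BT.node 956 (BT.node 954 (BT.node 953 (BT.leaf cJ953) (BT.leaf cJ954)) (BT.node 955 (BT.leaf cJ955) (BT.leaf cJ956))) (BT.node 958 (BT.node 957 (BT.leaf cJ957) (BT.leaf cJ958)) (BT.leaf cJ959))) (BT.node 963 (BT.node 961 (BT.node 960 (BT.leaf cJ960) (BT.leaf cJ961)) (BT.node 962 (BT.leaf cJ962) (BT.leaf cJ963))) (BT.node 965 (BT.node 964 (BT.leaf cJ964) (BT.leaf cJ965)) (BT.leaf cJ966)))) (BT.node 973 (BT.node 970 (BT.node 968 (BT.node 967 (BT.leaf cJ967) (BT.leaf cJ968)) (BT.node 969 (BT.leaf cJ969) (BT.leaf cJ970))) (BT.node 972 (BT.node 971 (BT.leaf cJ971) (BT.leaf cJ972)) (BT.leaf cJ973))) (BT.node 977 (BT.node 975 (BT.node 974 (BT.leaf cJ974) (BT.leaf cJ975)) (BT.node 976 (BT.leaf cJ976) (BT.leaf cJ977))) (BT.node 979 (BT.node 978 (BT.leaf cJ978) (BT.leaf cJ979)) (BT.leaf cJ980))))) (BT.node 994 (BT.node 987 (BT.node 984 (BT.node 982 (BT.node 981 (BT.leaf cJ981) (BT.leaf cJ982)) (BT.node 983 (BT.leaf cJ983) (BT.leaf cJ984))) (BT.node 986 (BT.node 985 (BT.leaf cJ985) (BT.leaf cJ986)) (BT.leaf cJ987))) (BT.node 991 (BT.node 989 (BT.node 988 (BT.leaf cJ988) (BT.leaf cJ989)) (BT.node 990 (BT.leaf cJ990) (BT.leaf cJ991))) (BT.node 993 (BT.node 992 (BT.leaf cJ992) (BT.leaf cJ993)) (BT.leaf cJ994)))) (BT.node 1001 (BT.node 998 (BT.node 996 (BT.node 995 (BT.leaf cJ995) (BT.leaf cJ996)) (BT.node 997 (BT.leaf cJ997) (BT.leaf cJ998))) (BT.node 1000 (BT.node 999 (BT.leaf cJ999) (BT.leaf cJ1000)) (BT.leaf cJ1001))) (BT.node 1005 (BT.node 1003 (BT.node 1002 (BT.leaf cJ1002) (BT.leaf cJ1003)) (BT.node 1004 (BT.leaf cJ1004) (BT.leaf cJ1005))) (BT.node 1007 (BT.node 1006 (BT.leaf cJ1006) (BT.leaf cJ1007)) (BT.leaf cJ1008))))))) (BT.node 1064 (BT.node 1036 (BT.node 1022 (BT.node 1015 (BT.node 1012 (BT.node 1010 (BT.node 1009 (BT.leaf cJ1009) (BT.leaf cJ1010)) (BT.node 1011 (BT.leaf cJ1011) (BT.leaf cJ1012))) (BT.node 1014 (BT.node 1013 (BT.leaf cJ1013) (BT.leaf cJ1014)) (BT.leaf cJ1015))) (BT.node 1019 (BT.node 1017 (BT.node 1016 (BT.leaf cJ1016) (BT.leaf cJ1017)) (BT.node 1018 (BT.leaf cJ1018) (BT.leaf cJ1019))) (BT.node 1021 (BT.node 1020 (BT.leaf cJ1020) (BT.leaf cJ1021)) (BT.leaf cJ1022)))) (BT.node 1029 (BT.node 1026 (BT.node 1024 (BT.node 1023 (BT.leaf cJ1023) (BT.leaf cJ1024)) (BT.node 1025 (BT.leaf cJ1025) (BT.leaf cJ1026))) (BT.node 1028 (BT.node 1027 (BT.leaf cJ1027) (BT.leaf cJ1028)) (BT.leaf cJ1029))) (BT.node 1033 (BT.node 1031 (BT.node 1030 (BT.leaf cJ1030) (BT.leaf cJ1031)) (BT.node 1032 (BT.leaf cJ1032) (BT.leaf cJ1033))) (BT.node 1035 (BT.node 1034 (BT.leaf cJ1034) (BT.leaf cJ1035)) (BT.leaf cJ1036))))) (BT.node 1050 (BT.node 1043 (BT.node 1040 (BT.node 1038 (BT.node 1037 (BT.leaf cJ1037) (BT.leaf cJ1038)) (BT.node 1039 (BT.leaf cJ1039) (BT.leaf cJ1040))) (BT.node 1042 (BT.node 1041 (BT.leaf cJ1041) (BT.leaf cJ1042)) (BT.leaf cJ1043))) (BT.node 1047 (BT.node 1045 (BT.node 1044 (BT.leaf cJ1044) (BT.leaf cJ1045)) (BT.node 1046 (BT.leaf cJ1046) (BT.leaf cJ1047))) (BT.node 1049 (BT.node 1048 (BT.leaf cJ1048) (BT.leaf cJ1049)) (BT.leaf cJ1050)))) (BT.node 1057 (BT.node 1054 (BT.node 1052 (BT.node 1051 (BT.leaf cJ1051) (BT.leaf cJ1052)) (BT.node 1053 (BT.leaf cJ1053) (BT.leaf cJ1054))) (BT.node 1056 (BT.node 1055 (BT.leaf cJ1055) (BT.leaf cJ1056)) (BT.leaf cJ1057))) (BT.node 1061 (BT.node 1059 (BT.node 1058 (BT.leaf cJ1058) (BT.leaf cJ1059)) (BT.node 1060 (BT.leaf cJ1060) (BT.leaf cJ1061))) (BT.node 1063 (BT.node 1062 (BT.leaf cJ1062) (BT.leaf cJ1063)) (BT.leaf cJ1064)))))) (BT.node 1092 (BT.node 1078 (BT.node 1071 (BT.node 1068 (BT.node 1066 (BT.node 1065 (BT.leaf cJ1065) (BT.leaf cJ1066)) (BT.node 1067 (BT.leaf cJ1067) (BT.leaf cJ1068))) (BT.node 1070 (BT.node 1069 (BT.leaf cJ1069) (BT.leaf cJ1070)) (BT.leaf cJ1071))) (BT.node 1075 (BT.node 1073 (BT.node 1072 (BT.leaf cJ1072) (BT.leaf cJ1073)) (BT.node 1074 (BT.leaf cJ1074) (BT.leaf cJ1075))) (BT.node 1077 (BT.node 1076 (BT.leaf cJ1076) (BT.leaf cJ1077)) (BT.leaf cJ1078)))) (BT.node 1085 (BT.node 1082 (BT.node 1080 (BT.node 1079 (BT.leaf cJ1079) (BT.leaf cJ1080)) (BT.node 1081 (BT.leaf cJ1081) (BT.leaf cJ1082))) (BT.node 1084 (BT.node 1083 (BT.leaf cJ1083) (BT.leaf cJ1084)) (BT.leaf cJ1085))) (BT.node 1089 (BT.node 1087 (BT.node 1086 (BT.leaf cJ1086) (BT.leaf cJ1087)) (BT.node 1088 (BT.leaf cJ1088) (BT.leaf cJ1089))) (BT.node 1091 (BT.node 1090 (BT.leaf cJ1090) (BT.leaf cJ1091)) (BT.leaf cJ1092))))) (BT.node 1106 (BT.node 1099 (BT.node 1096 (BT.node 1094 (BT.node 1093 (BT.leaf cJ1093) (BT.leaf cJ1094)) (BT.node 1095 (BT.leaf cJ1095) (BT.leaf cJ1096))) (BT.node 1098 (BT.node 1097 (BT.leaf cJ1097) (BT.leaf cJ1098)) (BT.leaf cJ1099))) (BT.node 1103 (BT.node 1101 (BT.node 1100 (BT.leaf cJ1100) (BT.leaf cJ1101)) (BT.node 1102 (BT.leaf cJ1102) (BT.leaf cJ1103))) (BT.node 1105 (BT.node 1104 (BT.leaf cJ1104) (BT.leaf cJ1105)) (BT.leaf cJ1106)))) (BT.node 1113 (BT.node 1110 (BT.node 1108 (BT.node 1107 (BT.leaf cJ1107) (BT.leaf cJ1108)) (BT.node 1109 (BT.leaf cJ1109) (BT.leaf cJ1110))) (BT.node 1112 (BT.node 1111 (BT.leaf cJ1111) (BT.leaf cJ1112)) (BT.leaf cJ1113))) (BT.node 1117 (BT.node 1115 (BT.node 1114 (BT.leaf cJ1114) (BT.leaf cJ1115)) (BT.node 1116 (BT.leaf cJ1116) (BT.leaf cJ1117))) (BT.node 1119 (BT.node 1118 (BT.leaf cJ1118) (BT.leaf cJ1119)) (BT.leaf cJ1120)))))))) (BT.node 1232 (BT.node 1176 (BT.node 1148 (BT.node 1134 (BT.node 1127 (BT.node 1124 (BT.node 1122 (BT.node 1121 (BT.leaf cJ1121) (BT.leaf cJ1122)) (BT.node 1123 (BT.leaf cJ1123) (BT.leaf cJ1124))) (BT.node 1126 (BT.node 1125 (BT.leaf cJ1125) (BT.leaf cJ1126)) (BT.leaf cJ1127))) (BT.node 1131 (BT.node 1129 (BT.node 1128 (BT.leaf cJ1128) (BT.leaf cJ1129)) (BT.node 1130 (BT.leaf cJ1130) (BT.leaf cJ1131))) (BT.node 1133 (BT.node 1132 (BT.leaf cJ1132) (BT.leaf cJ1133)) (BT.leaf cJ1134)))) (BT.node 1141 (BT.node 1138 (BT.node 1136 (BT.node 1135 (BT.leaf cJ1135) (BT.leaf cJ1136)) (BT.node 1137 (BT.leaf cJ1137) (BT.leaf cJ1138))) (BT.node 1140 (BT.node 1139 (BT.leaf cJ1139) (BT.leaf cJ1140)) (BT.leaf cJ1141))) (BT.node 1145 (BT.node 1143 (BT.node 1142 (BT.leaf cJ1142) (BT.leaf cJ1143)) (BT.node 1144 (BT.leaf cJ1144) (BT.leaf cJ1145))) (BT.node 1147 (BT.node 1146 (BT.leaf cJ1146) (BT.leaf cJ1147)) (BT.leaf cJ1148))))) (BT.node 1162 (BT.node 1155 (BT.node 1152 (BT.node 1150 (BT.node 1149 (BT.leaf cJ1149) (BT.leaf cJ1150)) (BT.node 1151 (BT.leaf cJ1151) (BT.leaf cJ1152))) (BT.node 1154 (BT.node 1153 (BT.leaf cJ1153) (BT.leaf cJ1154)) (BT.leaf cJ1155))) (BT.node 1159 (BT.node 1157 (BT.node 1156 (BT.leaf cJ1156) (BT.leaf cJ1157)) (BT.node 1158 (BT.leaf cJ1158) (BT.leaf cJ1159))) (BT.node 1161 (BT.node 1160 (BT.leaf cJ1160) (BT.leaf cJ1161)) (BT.leaf cJ1162)))) (BT.node 1169 (BT.node 1166 (BT.node 1164 (BT.node 1163 (BT.leaf cJ1163) (BT.leaf cJ1164)) (BT.node 1165 (BT.leaf cJ1165) (BT.leaf cJ1166))) (BT.node 1168 (BT.node 1167 (BT.leaf cJ1167) (BT.leaf cJ1168)) (BT.leaf cJ1169))) (BT.node 1173 (BT.node 1171 (BT.node 1170 (BT.leaf cJ1170) (BT.leaf cJ1171)) (BT.node 1172 (BT.leaf cJ1172) (BT.leaf cJ1173))) (BT.node 1175 (BT.node 1174 (BT.leaf cJ1174) (BT.leaf cJ1175)) (BT.leaf cJ1176)))))) (BT.node 1204 (BT.node 1190 (BT.node 1183 (BT.node 1180 (BT.node 1178 (BT.node 1177 (BT.leaf cJ1177) (BT.leaf cJ1178)) (BT.node 1179 (BT.leaf cJ1179) (BT.leaf cJ1180))) (BT.node 1182 (BT.node 1181 (BT.leaf cJ1181) (BT.leaf cJ1182)) (BT.leaf cJ1183))) (BT.node 1187 (BT.node 1185 (BT.node 1184 (BT.leaf cJ1184) (BT.leaf cJ1185)) (BT.node 1186 (BT.leaf cJ1186) (BT.leaf cJ1187))) (BT.node 1189 (BT.node 1188 (BT.leaf cJ1188) (BT.leaf cJ1189)) (BT.leaf cJ1190)))) (BT.node 1197 (BT.node 1194 (BT.node 1192 (BT.node 1191 (BT.leaf cJ1191) (BT.leaf cJ1192)) (BT.node 1193 (BT.leaf cJ1193) (BT.leaf cJ1194))) (BT.node 1196 (BT.node 1195 (BT.leaf cJ1195) (BT.leaf cJ1196)) (BT.leaf cJ1197))) (BT.node 1201 (BT.node 1199 (BT.node 1198 (BT.leaf cJ1198) (BT.leaf cJ1199)) (BT.node 1200 (BT.leaf cJ1200) (BT.leaf cJ1201))) (BT.node 1203 (BT.node 1202 (BT.leaf cJ1202) (BT.leaf cJ1203)) (BT.leaf cJ1204))))) (BT.node 1218 (BT.node 1211 (BT.node 1208 (BT.node 1206 (BT.node 1205 (BT.leaf cJ1205) (BT.leaf cJ1206)) (BT.node 1207 (BT.leaf cJ1207) (BT.leaf cJ1208))) (BT.node 1210 (BT.node 1209 (BT.leaf cJ1209) (BT.leaf cJ1210)) (BT.leaf cJ1211))) (BT.node 1215 (BT.node 1213 (BT.node 1212 (BT.leaf cJ1212) (BT.leaf cJ1213)) (BT.node 1214 (BT.leaf cJ1214) (BT.leaf cJ1215))) (BT.node 1217 (BT.node 1216 (BT.leaf cJ1216) (BT.leaf cJ1217)) (BT.leaf cJ1218)))) (BT.node 1225 (BT.node 1222 (BT.node 1220 (BT.node 1219 (BT.leaf cJ1219) (BT.leaf cJ1220)) (BT.node 1221 (BT.leaf cJ1221) (BT.leaf cJ1222))) (BT.node 1224 (BT.node 1223 (BT.leaf cJ1223) (BT.leaf cJ1224)) (BT.leaf cJ1225))) (BT.node 1229 (BT.node 1227 (BT.node 1226 (BT.leaf cJ1226) (BT.leaf cJ1227)) (BT.node 1228 (BT.leaf cJ1228) (BT.leaf cJ1229))) (BT.node 1231 (BT.node 1230 (BT.leaf cJ1230) (BT.leaf cJ1231)) (BT.leaf cJ1232))))))) (BT.node 1288 (BT.node 1260 (BT.node 1246 (BT.node 1239 (BT.node 1236 (BT.node 1234 (BT.node 1233 (BT.leaf cJ1233) (BT.leaf cJ1234)) (BT.node 1235 (BT.leaf cJ1235) (BT.leaf cJ1236))) (BT.node 1238 (BT.node 1237 (BT.leaf cJ1237) (BT.leaf cJ1238)) (BT.leaf cJ1239))) (BT.node 1243 (BT.node 1241 (BT.node 1240 (BT.leaf cJ1240) (BT.leaf cJ1241)) (BT.node 1242 (BT.leaf cJ1242) (BT.leaf cJ1243))) (BT.node 1245 (BT.node 1244 (BT.leaf cJ1244) (BT.leaf cJ1245)) (BT.leaf cJ1246)))) (BT.node 1253 (BT.node 1250 (BT.node 1248 (BT.node 1247 (BT.leaf cJ1247) (BT.leaf cJ1248)) (BT.node 1249 (BT.leaf cJ1249) (BT.leaf cJ1250))) (BT.node 1252 (BT.node 1251 (BT.leaf cJ1251) (BT.leaf cJ1252)) (BT.leaf cJ1253))) (BT.node 1257 (BT.node 1255 (BT.node 1254 (BT.leaf cJ1254) (BT.leaf cJ1255)) (BT.node 1256 (BT.leaf cJ1256) (BT.leaf cJ1257))) (BT.node 1259 (BT.node 1258 (BT.leaf cJ1258) (BT.leaf cJ1259)) (BT.leaf cJ1260))))) (BT.node 1274 (BT.node 1267 (BT.node 1264 (BT.node 1262 (BT.node 1261 (BT.leaf cJ1261) (BT.leaf cJ1262)) (BT.node 1263 (BT.leaf cJ1263) (BT.leaf cJ1264))) (BT.node 1266 (BT.node 1265 (BT.leaf cJ1265) (BT.leaf cJ1266)) (BT.leaf cJ1267))) (BT.node 1271 (BT.node 1269 (BT.node 1268 (BT.leaf cJ1268) (BT.leaf cJ1269)) (BT.node 1270 (BT.leaf cJ1270) (BT.leaf cJ1271))) (BT.node 1273 (BT.node 1272 (BT.leaf cJ1272) (BT.leaf cJ1273)) (BT.leaf cJ1274)))) (BT.node 1281 (BT.node 1278 (BT.node 1276 (BT.node 1275 (BT.leaf cJ1275) (BT.leaf cJ1276)) (BT.node 1277 (BT.leaf cJ1277) (BT.leaf cJ1278))) (BT.node 1280 (BT.node 1279 (BT.leaf cJ1279) (BT.leaf cJ1280)) (BT.leaf cJ1281))) (BT.node 1285 (BT.node 1283 (BT.node 1282 (BT.leaf cJ1282) (BT.leaf cJ1283)) (BT.node 1284 (BT.leaf cJ1284) (BT.leaf cJ1285))) (BT.node 1287 (BT.node 1286 (BT.leaf cJ1286) (BT.leaf cJ1287)) (BT.leaf cJ1288)))))) (BT.node 1316 (BT.node 1302 (BT.node 1295 (BT.node 1292 (BT.node 1290 (BT.node 1289 (BT.leaf cJ1289) (BT.leaf cJ1290)) (BT.node 1291 (BT.leaf cJ1291) (BT.leaf cJ1292))) (BT.node 1294 (BT.node 1293 (BT.leaf cJ1293) (BT.leaf cJ1294)) (BT.leaf cJ1295))) (BT.node 1299 (BT.node 1297 (BT.node 1296 (BT.leaf cJ1296) (BT.leaf cJ1297)) (BT.node 1298 (BT.leaf cJ1298) (BT.leaf cJ1299))) (BT.node 1301 (BT.node 1300 (BT.leaf cJ1300) (BT.leaf cJ1301)) (BT.leaf cJ1302)))) (BT.node 1309 (BT.node 1306 (BT.node 1304 (BT.node 1303 (BT.leaf cJ1303) (BT.leaf cJ1304)) (BT.node 1305 (BT.leaf cJ1305) (BT.leaf cJ1306))) (BT.node 1308 (BT.node 1307 (BT.leaf cJ1307) (BT.leaf cJ1308)) (BT.leaf cJ1309))) (BT.node 1313 (BT.node 1311 (BT.node 1310 (BT.leaf cJ1310) (BT.leaf cJ1311)) (BT.node 1312 (BT.leaf cJ1312) (BT.leaf cJ1313))) (BT.node 1315 (BT.node 1314 (BT.leaf cJ1314) (BT.leaf cJ1315)) (BT.leaf cJ1316))))) (BT.node 1330 (BT.node 1323 (BT.node 1320 (BT.node 1318 (BT.node 1317 (BT.leaf cJ1317) (BT.leaf cJ1318)) (BT.node 1319 (BT.leaf cJ1319) (BT.leaf cJ1320))) (BT.node 1322 (BT.node 1321 (BT.leaf cJ1321) (BT.leaf cJ1322)) (BT.leaf cJ1323))) (BT.node 1327 (BT.node 1325 (BT.node 1324 (BT.leaf cJ1324) (BT.leaf cJ1325)) (BT.node 1326 (BT.leaf cJ1326) (BT.leaf cJ1327))) (BT.node 1329 (BT.node 1328 (BT.leaf cJ1328) (BT.leaf cJ1329)) (BT.leaf cJ1330)))) (BT.node 1337 (BT.node 1334 (BT.node 1332 (BT.node 1331 (BT.leaf cJ1331) (BT.leaf cJ1332)) (BT.node 1333 (BT.leaf cJ1333) (BT.leaf cJ1334))) (BT.node 1336 (BT.node 1335 (BT.leaf cJ1335) (BT.leaf cJ1336)) (BT.leaf cJ1337))) (BT.node 1341 (BT.node 1339 (BT.node 1338 (BT.leaf cJ1338) (BT.leaf cJ1339)) (BT.node 1340 (BT.leaf cJ1340) (BT.leaf cJ1341))) (BT.node 1343 (BT.node 1342 (BT.leaf cJ1342) (BT.leaf cJ1343)) (BT.leaf cJ1344))))))))) (BT.node 1568 (BT.node 1456 (BT.node 1400 (BT.node 1372 (BT.node 1358 (BT.node 1351 (BT.node 1348 (BT.node 1346 (BT.node 1345 (BT.leaf cJ1345) (BT.leaf cJ1346)) (BT.node 1347 (BT.leaf cJ1347) (BT.leaf cJ1348))) (BT.node 1350 (BT.node 1349 (BT.leaf cJ1349) (BT.leaf cJ1350)) (BT.leaf cJ1351))) (BT.node 1355 (BT.node 1353 (BT.node 1352 (BT.leaf cJ1352) (BT.leaf cJ1353)) (BT.node 1354 (BT.leaf cJ1354) (BT.leaf cJ1355))) (BT.node 1357 (BT.node 1356 (BT.leaf cJ1356) (BT.leaf cJ1357)) (BT.leaf cJ1358)))) (BT.node 1365 (BT.node 1362 (BT.node 1360 (BT.node 1359 (BT.leaf cJ1359) (BT.leaf cJ1360)) (BT.node 1361 (BT.leaf cJ1361) (BT.leaf cJ1362))) (BT.node 1364 (BT.node 1363 (BT.leaf cJ1363) (BT.leaf cJ1364)) (BT.leaf cJ1365))) (BT.node 1369 (BT.node 1367 (BT.node 1366 (BT.leaf cJ1366) (BT.leaf cJ1367)) (BT.node 1368 (BT.leaf cJ1368) (BT.leaf cJ1369))) (BT.node 1371 (BT.node 1370 (BT.leaf cJ1370) (BT.leaf cJ1371)) (BT.leaf cJ1372))))) (BT.node 1386 (BT.node 1379 (BT.node 1376 (BT.node 1374 (BT.node 1373 (BT.leaf cJ1373) (BT.leaf cJ1374)) (BT.node 1375 (BT.leaf cJ1375) (BT.leaf cJ1376))) (BT.node 1378 (BT.node 1377 (BT.leaf cJ1377) (BT.leaf cJ1378)) (BT.leaf cJ1379))) (BT.node 1383 (BT.node 1381 (BT.node 1380 (BT.leaf cJ1380) (BT.leaf cJ1381)) (BT.node 1382 (BT.leaf cJ1382) (BT.leaf cJ1383))) (BT.node 1385 (BT.node 1384 (BT.leaf cJ1384) (BT.leaf cJ1385)) (BT.leaf cJ1386)))) (BT.node 1393 (BT.node 1390 (BT.node 1388 (BT.node 1387 (BT.leaf cJ1387) (BT.leaf cJ1388)) (BT.node 1389 (BT.leaf cJ1389) (BT.leaf cJ1390))) (BT.node 1392 (BT.node 1391 (BT.leaf cJ1391) (BT.leaf cJ1392)) (BT.leaf cJ1393))) (BT.node 1397 (BT.node 1395 (BT.node 1394 (BT.leaf cJ1394) (BT.leaf cJ1395)) (BT.node 1396 (BT.leaf cJ1396) (BT.leaf cJ1397))) (BT.node 1399 (BT.node 1398 (BT.leaf cJ1398) (BT.leaf cJ1399)) (BT.leaf cJ1400)))))) (BT.node 1428 (BT.node 1414 (BT.node 1407 (BT.node 1404 (BT.node 1402 (BT.node 1401 (BT.leaf cJ1401) (BT.leaf cJ1402)) (BT.node 1403 (BT.leaf cJ1403) (BT.leaf cJ1404))) (BT.node 1406 (BT.node 1405 (BT.leaf cJ1405) (BT.leaf cJ1406)) (BT.leaf cJ1407))) (BT.node 1411 (BT.node 1409 (BT.node 1408 (BT.leaf cJ1408) (BT.leaf cJ1409)) (BT.node 1410 (BT.leaf cJ1410) (BT.leaf cJ1411))) (BT.node 1413 (BT.node 1412 (BT.leaf cJ1412) (BT.leaf cJ1413)) (BT.leaf cJ1414)))) (BT.node 1421 (BT.node 1418 (BT.node 1416 (BT.node 1415 (BT.leaf cJ1415) (BT.leaf cJ1416)) (BT.node 1417 (BT.leaf cJ1417) (BT.leaf cJ1418))) (BT.node 1420 (BT.node 1419 (BT.leaf cJ1419) (BT.leaf cJ1420)) (BT.leaf cJ1421))) (BT.node 1425 (BT.node 1423 (BT.node 1422 (BT.leaf cJ1422) (BT.leaf cJ1423)) (BT.node 1424 (BT.leaf cJ1424) (BT.leaf cJ1425))) (BT.node 1427 (BT.node 1426 (BT.leaf cJ1426) (BT.leaf cJ1427)) (BT.leaf cJ1428))))) (BT.node 1442 (BT.node 1435 (BT.node 1432 (BT.node 1430 (BT.node 1429 (BT.leaf cJ1429) (BT.leaf cJ1430)) (BT.node 1431 (BT.leaf cJ1431) (BT.leaf cJ1432))) (BT.node 1434 (BT.node 1433 (BT.leaf cJ1433) (BT.leaf cJ1434)) (BT.leaf cJ1435))) (BT.node 1439 (BT.node 1437 (BT.node 1436 (BT.leaf cJ1436) (BT.leaf cJ1437)) (BT.node 1438 (BT.leaf cJ1438) (BT.leaf cJ1439))) (BT.node 1441 (BT.node 1440 (BT.leaf cJ1440) (BT.leaf cJ1441)) (BT.leaf cJ1442)))) (BT.node 1449 (BT.node 1446 (BT.node 1444 (BT.node 1443 (BT.leaf cJ1443) (BT.leaf cJ1444)) (BT.node 1445 (BT.leaf cJ1445) (BT.leaf cJ1446))) (BT.node 1448 (BT.node 1447 (BT.leaf cJ1447) (BT.leaf cJ1448)) (BT.leaf cJ1449))) (BT.node 1453 (BT.node 1451 (BT.node 1450 (BT.leaf cJ1450) (BT.leaf cJ1451)) (BT.node 1452 (BT.leaf cJ1452) (BT.leaf cJ1453))) (BT.node 1455 (BT.node 1454 (BT.leaf cJ1454) (BT.leaf cJ1455)) (BT.leaf cJ1456))))))) (BT.node 1512 (BT.node 1484 (BT.node 1470 (BT.node 1463 (BT.node 1460 (BT.node 1458 (BT.node 1457 (BT.leaf cJ1457) (BT.leaf cJ1458)) (BT.node 1459 (BT.leaf cJ1459) (BT.leaf cJ1460))) (BT.node 1462 (BT.node 1461 (BT.leaf cJ1461) (BT.leaf cJ1462)) (BT.leaf cJ1463))) (BT.node 1467 (BT.node 1465 (BT.node 1464 (BT.leaf cJ1464) (BT.leaf cJ1465)) (BT.node 1466 (BT.leaf cJ1466) (BT.leaf cJ1467))) (BT.node 1469 (BT.node 1468 (BT.leaf cJ1468) (BT.leaf cJ1469)) (BT.leaf cJ1470)))) (BT.node 1477 (BT.node 1474 (BT.node 1472 (BT.node 1471 (BT.leaf cJ1471) (BT.leaf cJ1472)) (BT.node 1473 (BT.leaf cJ1473) (BT.leaf cJ1474))) (BT.node 1476 (BT.node 1475 (BT.leaf cJ1475) (BT.leaf cJ1476)) (BT.leaf cJ1477))) (BT.node 1481 (BT.node 1479 (BT.node 1478 (BT.leaf cJ1478) (BT.leaf cJ1479)) (BT.node 1480 (BT.leaf cJ1480) (BT.leaf cJ1481))) (BT.node 1483 (BT.node 1482 (BT.leaf cJ1482) (BT.leaf cJ1483)) (BT.leaf cJ1484))))) (BT.node 1498 (BT.node 1491 (BT.node 1488 (BT.node 1486 (BT.node 1485 (BT.leaf cJ1485) (BT.leaf cJ1486)) (BT.node 1487 (BT.leaf cJ1487) (BT.leaf cJ1488))) (BT.node 1490 (BT.node 1489 (BT.leaf cJ1489) (BT.leaf cJ1490)) (BT.leaf cJ1491))) (BT.node 1495 (BT.node 1493 (BT.node 1492 (BT.leaf cJ1492) (BT.leaf cJ1493)) (BT.node 1494 (BT.leaf cJ1494) (BT.leaf cJ1495))) (BT.node 1497 (BT.node 1496 (BT.leaf cJ1496) (BT.leaf cJ1497)) (BT.leaf cJ1498)))) (BT.node 1505 (BT.node 1502 (BT.node 1500 (BT.node 1499 (BT.leaf cJ1499) (BT.leaf cJ1500)) (BT.node 1501 (BT.leaf cJ1501) (BT.leaf cJ1502))) (BT.node 1504 (BT.node 1503 (BT.leaf cJ1503) (BT.leaf cJ1504)) (BT.leaf cJ1505))) (BT.node 1509 (BT.node 1507 (BT.node 1506 (BT.leaf cJ1506) (BT.leaf cJ1507)) (BT.node 1508 (BT.leaf cJ1508) (BT.leaf cJ1509))) (BT.node 1511 (BT.node 1510 (BT.leaf cJ1510) (BT.leaf cJ1511)) (BT.leaf cJ1512)))))) (BT.node 1540 (BT.node 1526 (BT.node 1519 (BT.node 1516 (BT.node 1514 (BT.node 1513 (BT.leaf cJ1513) (BT.leaf cJ1514)) (BT.node 1515 (BT.leaf cJ1515) (BT.leaf cJ1516))) (BT.node 1518 (BT.node 1517 (BT.leaf cJ1517) (BT.leaf cJ1518)) (BT.leaf cJ1519))) (BT.node 1523 (BT.node 1521 (BT.node 1520 (BT.leaf cJ1520) (BT.leaf cJ1521)) (BT.node 1522 (BT.leaf cJ1522) (BT.leaf cJ1523))) (BT.node 1525 (BT.node 1524 (BT.leaf cJ1524) (BT.leaf cJ1525)) (BT.leaf cJ1526)))) (BT.node 1533 (BT.node 1530 (BT.node 1528 (BT.node 1527 (BT.leaf cJ1527) (BT.leaf cJ1528)) (BT.node 1529 (BT.leaf cJ1529) (BT.leaf cJ1530))) (BT.node 1532 (BT.node 1531 (BT.leaf cJ1531) (BT.leaf cJ1532)) (BT.leaf cJ1533))) (BT.node 1537 (BT.node 1535 (BT.node 1534 (BT.leaf cJ1534) (BT.leaf cJ1535)) (BT.node 1536 (BT.leaf cJ1536) (BT.leaf cJ1537))) (BT.node 1539 (BT.node 1538 (BT.leaf cJ1538) (BT.leaf cJ1539)) (BT.leaf cJ1540))))) (BT.node 1554 (BT.node 1547 (BT.node 1544 (BT.node 1542 (BT.node 1541 (BT.leaf cJ1541) (BT.leaf cJ1542)) (BT.node 1543 (BT.leaf cJ1543) (BT.leaf cJ1544))) (BT.node 1546 (BT.node 1545 (BT.leaf cJ1545) (BT.leaf cJ1546)) (BT.leaf cJ1547))) (BT.node 1551 (BT.node 1549 (BT.node 1548 (BT.leaf cJ1548) (BT.leaf cJ1549)) (BT.node 1550 (BT.leaf cJ1550) (BT.leaf cJ1551))) (BT.node 1553 (BT.node 1552 (BT.leaf cJ1552) (BT.leaf cJ1553)) (BT.leaf cJ1554)))) (BT.node 1561 (BT.node 1558 (BT.node 1556 (BT.node 1555 (BT.leaf cJ1555) (BT.leaf cJ1556)) (BT.node 1557 (BT.leaf cJ1557) (BT.leaf cJ1558))) (BT.node 1560 (BT.node 1559 (BT.leaf cJ1559) (BT.leaf cJ1560)) (BT.leaf cJ1561))) (BT.node 1565 (BT.node 1563 (BT.node 1562 (BT.leaf cJ1562) (BT.leaf cJ1563)) (BT.node 1564 (BT.leaf cJ1564) (BT.leaf cJ1565))) (BT.node 1567 (BT.node 1566 (BT.leaf cJ1566) (BT.leaf cJ1567)) (BT.leaf cJ1568)))))))) (BT.node 1680 (BT.node 1624 (BT.node 1596 (BT.node 1582 (BT.node 1575 (BT.node 1572 (BT.node 1570 (BT.node 1569 (BT.leaf cJ1569) (BT.leaf cJ1570)) (BT.node 1571 (BT.leaf cJ1571) (BT.leaf cJ1572))) (BT.node 1574 (BT.node 1573 (BT.leaf cJ1573) (BT.leaf cJ1574)) (BT.leaf cJ1575))) (BT.node 1579 (BT.node 1577 (BT.node 1576 (BT.leaf cJ1576) (BT.leaf cJ1577)) (BT.node 1578 (BT.leaf cJ1578) (BT.leaf cJ1579))) (BT.node 1581 (BT.node 1580 (BT.leaf cJ1580) (BT.leaf cJ1581)) (BT.leaf cJ1582)))) (BT.node 1589 (BT.node 1586 (BT.node 1584 (BT.node 1583 (BT.leaf cJ1583) (BT.leaf cJ1584)) (BT.node 1585 (BT.leaf cJ1585) (BT.leaf cJ1586))) (BT.node 1588 (BT.node 1587 (BT.leaf cJ1587) (BT.leaf cJ1588)) (BT.leaf cJ1589))) (BT.node 1593 (BT.node 1591 (BT.node 1590 (BT.leaf cJ1590) (BT.leaf cJ1591)) (BT.node 1592 (BT.leaf cJ1592) (BT.leaf cJ1593))) (BT.node 1595 (BT.node 1594 (BT.leaf cJ1594) (BT.leaf cJ1595)) (BT.leaf cJ1596))))) (BT.node 1610 (BT.node 1603 (BT.node 1600 (BT.node 1598 (BT.node 1597 (BT.leaf cJ1597) (BT.leaf cJ1598)) (BT.node 1599 (BT.leaf cJ1599) (BT.leaf cJ1600))) (BT.node 1602 (BT.node 1601 (BT.leaf cJ1601) (BT.leaf cJ1602)) (BT.leaf cJ1603))) (BT.node 1607 (BT.node 1605 (BT.node 1604 (BT.leaf cJ1604) (BT.leaf cJ1605)) (BT.node 1606 (BT.leaf cJ1606) (BT.leaf cJ1607))) (BT.node 1609 (BT.node 1608 (BT.leaf cJ1608) (BT.leaf cJ1609)) (BT.leaf cJ1610)))) (BT.node 1617 (BT.node 1614 (BT.node 1612 (BT.node 1611 (BT.leaf cJ1611) (BT.leaf cJ1612)) (BT.node 1613 (BT.leaf cJ1613) (BT.leaf cJ1614))) (BT.node 1616 (BT.node 1615 (BT.leaf cJ1615) (BT.leaf cJ1616)) (BT.leaf cJ1617))) (BT.node 1621 (BT.node 1619 (BT.node 1618 (BT.leaf cJ1618) (BT.leaf cJ1619)) (BT.node 1620 (BT.leaf cJ1620) (BT.leaf cJ1621))) (BT.node 1623 (BT.node 1622 (BT.leaf cJ1622) (BT.leaf cJ1623)) (BT.leaf cJ1624)))))) (BT.node 1652 (BT.node 1638 (BT.node 1631 (BT.node 1628 (BT.node 1626 (BT.node 1625 (BT.leaf cJ1625) (BT.leaf cJ1626)) (BT.node 1627 (BT.leaf cJ1627) (BT.leaf cJ1628))) (BT.node 1630 (BT.node 1629 (BT.leaf cJ1629) (BT.leaf cJ1630)) (BT.leaf cJ1631))) (BT.node 1635 (BT.node 1633 (BT.node 1632 (BT.leaf cJ1632) (BT.leaf cJ1633)) (BT.node 1634 (BT.leaf cJ1634) (BT.leaf cJ1635))) (BT.node 1637 (BT.node 1636 (BT.leaf cJ1636) (BT.leaf cJ1637)) (BT.leaf cJ1638)))) (BT.node 1645 (BT.node 1642 (BT.node 1640 (BT.node 1639 (BT.leaf cJ1639) (BT.leaf cJ1640)) (BT.node 1641 (BT.leaf cJ1641) (BT.leaf cJ1642))) (BT.node 1644 (BT.node 1643 (BT.leaf cJ1643) (BT.leaf cJ1644)) (BT.leaf cJ1645))) (BT.node 1649 (BT.node 1647 (BT.node 1646 (BT.leaf cJ1646) (BT.leaf cJ1647)) (BT.node 1648 (BT.leaf cJ1648) (BT.leaf cJ1649))) (BT.node 1651 (BT.node 1650 (BT.leaf cJ1650) (BT.leaf cJ1651)) (BT.leaf cJ1652))))) (BT.node 1666 (BT.node 1659 (BT.node 1656 (BT.node 1654 (BT.node 1653 (BT.leaf cJ1653) (BT.leaf cJ1654)) (BT.node 1655 (BT.leaf cJ1655) (BT.leaf cJ1656))) (BT.node 1658 (BT.node 1657 (BT.leaf cJ1657) (BT.leaf cJ1658)) (BT.leaf cJ1659))) (BT.node 1663 (BT.node 1661 (BT.node 1660 (BT.leaf cJ1660) (BT.leaf cJ1661)) (BT.node 1662 (BT.leaf cJ1662) (BT.leaf cJ1663))) (BT.node 1665 (BT.node 1664 (BT.leaf cJ1664) (BT.leaf cJ1665)) (BT.leaf cJ1666)))) (BT.node 1673 (BT.node 1670 (BT.node 1668 (BT.node 1667 (BT.leaf cJ1667) (BT.leaf cJ1668)) (BT.node 1669 (BT.leaf cJ1669) (BT.leaf cJ1670))) (BT.node 1672 (BT.node 1671 (BT.leaf cJ1671) (BT.leaf cJ1672)) (BT.leaf cJ1673))) (BT.node 1677 (BT.node 1675 (BT.node 1674 (BT.leaf cJ1674) (BT.leaf cJ1675)) (BT.node 1676 (BT.leaf cJ1676) (BT.leaf cJ1677))) (BT.node 1679 (BT.node 1678 (BT.leaf cJ1678) (BT.leaf cJ1679)) (BT.leaf cJ1680))))))) (BT.node 1736 (BT.node 1708 (BT.node 1694 (BT.node 1687 (BT.node 1684 (BT.node 1682 (BT.node 1681 (BT.leaf cJ1681) (BT.leaf cJ1682)) (BT.node 1683 (BT.leaf cJ1683) (BT.leaf cJ1684))) (BT.node 1686 (BT.node 1685 (BT.leaf cJ1685) (BT.leaf cJ1686)) (BT.leaf cJ1687))) (BT.node 1691 (BT.node 1689 (BT.node 1688 (BT.leaf cJ1688) (BT.leaf cJ1689)) (BT.node 1690 (BT.leaf cJ1690) (BT.leaf cJ1691))) (BT.node 1693 (BT.node 1692 (BT.leaf cJ1692) (BT.leaf cJ1693)) (BT.leaf cJ1694)))) (BT.node 1701 (BT.node 1698 (BT.node 1696 (BT.node 1695 (BT.leaf cJ1695) (BT.leaf cJ1696)) (BT.node 1697 (BT.leaf cJ1697) (BT.leaf cJ1698))) (BT.node 1700 (BT.node 1699 (BT.leaf cJ1699) (BT.leaf cJ1700)) (BT.leaf cJ1701))) (BT.node 1705 (BT.node 1703 (BT.node 1702 (BT.leaf cJ1702) (BT.leaf cJ1703)) (BT.node 1704 (BT.leaf cJ1704) (BT.leaf cJ1705))) (BT.node 1707 (BT.node 1706 (BT.leaf cJ1706) (BT.leaf cJ1707)) (BT.leaf cJ1708))))) (BT.node 1722 (BT.node 1715 (BT.node 1712 (BT.node 1710 (BT.node 1709 (BT.leaf cJ1709) (BT.leaf cJ1710)) (BT.node 1711 (BT.leaf cJ1711) (BT.leaf cJ1712))) (BT.node 1714 (BT.node 1713 (BT.leaf cJ1713) (BT.leaf cJ1714)) (BT.leaf cJ1715))) (BT.node 1719 (BT.node 1717 (BT.node 1716 (BT.leaf cJ1716) (BT.leaf cJ1717)) (BT.node 1718 (BT.leaf cJ1718) (BT.leaf cJ1719))) (BT.node 1721 (BT.node 1720 (BT.leaf cJ1720) (BT.leaf cJ1721)) (BT.leaf cJ1722)))) (BT.node 1729 (BT.node 1726 (BT.node 1724 (BT.node 1723 (BT.leaf cJ1723) (BT.leaf cJ1724)) (BT.node 1725 (BT.leaf cJ1725) (BT.leaf cJ1726))) (BT.node 1728 (BT.node 1727 (BT.leaf cJ1727) (BT.leaf cJ1728)) (BT.leaf cJ1729))) (BT.node 1733 (BT.node 1731 (BT.node 1730 (BT.leaf cJ1730) (BT.leaf cJ1731)) (BT.node 1732 (BT.leaf cJ1732) (BT.leaf cJ1733))) (BT.node 1735 (BT.node 1734 (BT.leaf cJ1734) (BT.leaf cJ1735)) (BT.leaf cJ1736)))))) (BT.node 1764 (BT.node 1750 (BT.node 1743 (BT.node 1740 (BT.node 1738 (BT.node 1737 (BT.leaf cJ1737) (BT.leaf cJ1738)) (BT.node 1739 (BT.leaf cJ1739) (BT.leaf cJ1740))) (BT.node 1742 (BT.node 1741 (BT.leaf cJ1741) (BT.leaf cJ1742)) (BT.leaf cJ1743))) (BT.node 1747 (BT.node 1745 (BT.node 1744 (BT.leaf cJ1744) (BT.leaf cJ1745)) (BT.node 1746 (BT.leaf cJ1746) (BT.leaf cJ1747))) (BT.node 1749 (BT.node 1748 (BT.leaf cJ1748) (BT.leaf cJ1749)) (BT.leaf cJ1750)))) (BT.node 1757 (BT.node 1754 (BT.node 1752 (BT.node 1751 (BT.leaf cJ1751) (BT.leaf cJ1752)) (BT.node 1753 (BT.leaf cJ1753) (BT.leaf cJ1754))) (BT.node 1756 (BT.node 1755 (BT.leaf cJ1755) (BT.leaf cJ1756)) (BT.leaf cJ1757))) (BT.node 1761 (BT.node 1759 (BT.node 1758 (BT.leaf cJ1758) (BT.leaf cJ1759)) (BT.node 1760 (BT.leaf cJ1760) (BT.leaf cJ1761))) (BT.node 1763 (BT.node 1762 (BT.leaf cJ1762) (BT.leaf cJ1763)) (BT.leaf cJ1764))))) (BT.node 1778 (BT.node 1771 (BT.node 1768 (BT.node 1766 (BT.node 1765 (BT.leaf cJ1765) (BT.leaf cJ1766)) (BT.node 1767 (BT.leaf cJ1767) (BT.leaf cJ1768))) (BT.node 1770 (BT.node 1769 (BT.leaf cJ1769) (BT.leaf cJ1770)) (BT.leaf cJ1771))) (BT.node 1775 (BT.node 1773 (BT.node 1772 (BT.leaf cJ1772) (BT.leaf cJ1773)) (BT.node 1774 (BT.leaf cJ1774) (BT.leaf cJ1775))) (BT.node 1777 (BT.node 1776 (BT.leaf cJ1776) (BT.leaf cJ1777)) (BT.leaf cJ1778)))) (BT.node 1785 (BT.node 1782 (BT.node 1780 (BT.node 1779 (BT.leaf cJ1779) (BT.leaf cJ1780)) (BT.node 1781 (BT.leaf cJ1781) (BT.leaf cJ1782))) (BT.node 1784 (BT.node 1783 (BT.leaf cJ1783) (BT.leaf cJ1784)) (BT.leaf cJ1785))) (BT.node 1789 (BT.node 1787 (BT.node 1786 (BT.leaf cJ1786) (BT.leaf cJ1787)) (BT.node 1788 (BT.leaf cJ1788) (BT.leaf cJ1789))) (BT.node 1791 (BT.node 1790 (BT.leaf cJ1790) (BT.leaf cJ1791)) (BT.leaf cJ1792))))))))))) (BT.node 2688 (BT.node 2240 (BT.node 2016 (BT.node 1904 (BT.node 1848 (BT.node 1820 (BT.node 1806 (BT.node 1799 (BT.node 1796 (BT.node 1794 (BT.node 1793 (BT.leaf cJ1793) (BT.leaf cJ1794)) (BT.node 1795 (BT.leaf cJ1795) (BT.leaf cJ1796))) (BT.node 1798 (BT.node 1797 (BT.leaf cJ1797) (BT.leaf cJ1798)) (BT.leaf cJ1799))) (BT.node 1803 (BT.node 1801 (BT.node 1800 (BT.leaf cJ1800) (BT.leaf cJ1801)) (BT.node 1802 (BT.leaf cJ1802) (BT.leaf cJ1803))) (BT.node 1805 (BT.node 1804 (BT.leaf cJ1804) (BT.leaf cJ1805)) (BT.leaf cJ1806)))) (BT.node 1813 (BT.node 1810 (BT.node 1808 (BT.node 1807 (BT.leaf cJ1807) (BT.leaf cJ1808)) (BT.node 1809 (BT.leaf cJ1809) (BT.leaf cJ1810))) (BT.node 1812 (BT.node 1811 (BT.leaf cJ1811) (BT.leaf cJ1812)) (BT.leaf cJ1813))) (BT.node 1817 (BT.node 1815 (BT.node 1814 (BT.leaf cJ1814) (BT.leaf cJ1815)) (BT.node 1816 (BT.leaf cJ1816) (BT.leaf cJ1817))) (BT.node 1819 (BT.node 1818 (BT.leaf cJ1818) (BT.leaf cJ1819)) (BT.leaf cJ1820))))) (BT.node 1834 (BT.node 1827 (BT.node 1824 (BT.node 1822 (BT.node 1821 (BT.leaf cJ1821) (BT.leaf cJ1822)) (BT.node 1823 (BT.leaf cJ1823) (BT.leaf cJ1824))) (BT.node 1826 (BT.node 1825 (BT.leaf cJ1825) (BT.leaf cJ1826)) (BT.leaf cJ1827))) (BT.node 1831 (BT.node 1829 (BT.node 1828 (BT.leaf cJ1828) (BT.leaf cJ1829)) (BT.node 1830 (BT.leaf cJ1830) (BT.leaf cJ1831))) (BT.node 1833 (BT.node 1832 (BT.leaf cJ1832) (BT.leaf cJ1833)) (BT.leaf cJ1834)))) (BT.node 1841 (BT.node 1838 (BT.node 1836 (BT.node 1835 (BT.leaf cJ1835) (BT.leaf cJ1836)) (BT.node 1837 (BT.leaf cJ1837) (BT.leaf cJ1838))) (BT.node 1840 (BT.node 1839 (BT.leaf cJ1839) (BT.leaf cJ1840)) (BT.leaf cJ1841))) (BT.node 1845 (BT.node 1843 (BT.node 1842 (BT.leaf cJ1842) (BT.leaf cJ1843)) (BT.node 1844 (BT.leaf cJ1844) (BT.leaf cJ1845))) (BT.node 1847 (BT.node 1846 (BT.leaf cJ1846) (BT.leaf cJ1847)) (BT.leaf cJ1848)))))) (BT.node 1876 (BT.node 1862 (BT.node 1855 (BT.node 1852 (BT.node 1850 (BT.node 1849 (BT.leaf cJ1849) (BT.leaf cJ1850)) (BT.node 1851 (BT.leaf cJ1851) (BT.leaf cJ1852))) (BT.node 1854 (BT.node 1853 (BT.leaf cJ1853) (BT.leaf cJ1854)) (BT.leaf cJ1855))) (BT.node 1859 (BT.node 1857 (BT.node 1856 (BT.leaf cJ1856) (BT.leaf cJ1857)) (BT.node 1858 (BT.leaf cJ1858) (BT.leaf cJ1859))) (BT.node 1861 (BT.node 1860 (BT.leaf cJ1860) (BT.leaf cJ1861)) (BT.leaf cJ1862)))) (BT.node 1869 (BT.node 1866 (BT.node 1864 (BT.node 1863 (BT.leaf cJ1863) (BT.leaf cJ1864)) (BT.node 1865 (BT.leaf cJ1865) (BT.leaf cJ1866))) (BT.node 1868 (BT.node 1867 (BT.leaf cJ1867) (BT.leaf cJ1868)) (BT.leaf cJ1869))) (BT.node 1873 (BT.node 1871 (BT.node 1870 (BT.leaf cJ1870) (BT.leaf cJ1871)) (BT.node 1872 (BT.leaf cJ1872) (BT.leaf cJ1873))) (BT.node 1875 (BT.node 1874 (BT.leaf cJ1874) (BT.leaf cJ1875)) (BT.leaf cJ1876))))) (BT.node 1890 (BT.node 1883 (BT.node 1880 (BT.node 1878 (BT.node 1877 (BT.leaf cJ1877) (BT.leaf cJ1878)) (BT.node 1879 (BT.leaf cJ1879) (BT.leaf cJ1880))) (BT.node 1882 (BT.node 1881 (BT.leaf cJ1881) (BT.leaf cJ1882)) (BT.leaf cJ1883))) (BT.node 1887 (BT.node 1885 (BT.node 1884 (BT.leaf cJ1884) (BT.leaf cJ1885)) (BT.node 1886 (BT.leaf cJ1886) (BT.leaf cJ1887))) (BT.node 1889 (BT.node 1888 (BT.leaf cJ1888) (BT.leaf cJ1889)) (BT.leaf cJ1890)))) (BT.node 1897 (BT.node 1894 (BT.node 1892 (BT.node 1891 (BT.leaf cJ1891) (BT.leaf cJ1892)) (BT.node 1893 (BT.leaf cJ1893) (BT.leaf cJ1894))) (BT.node 1896 (BT.node 1895 (BT.leaf cJ1895) (BT.leaf cJ1896)) (BT.leaf cJ1897))) (BT.node 1901 (BT.node 1899 (BT.node 1898 (BT.leaf cJ1898) (BT.leaf cJ1899)) (BT.node 1900 (BT.leaf cJ1900) (BT.leaf cJ1901))) (BT.node 1903 (BT.node 1902 (BT.leaf cJ1902) (BT.leaf cJ1903)) (BT.leaf cJ1904))))))) (BT.node 1960 (BT.node 1932 (BT.node 1918 (BT.node 1911 (BT.node 1908 (BT.node 1906 (BT.node 1905 (BT.leaf cJ1905) (BT.leaf cJ1906)) (BT.node 1907 (BT.leaf cJ1907) (BT.leaf cJ1908))) (BT.node 1910 (BT.node 1909 (BT.leaf cJ1909) (BT.leaf cJ1910)) (BT.leaf cJ1911))) (BT.node 1915 (BT.node 1913 (BT.node 1912 (BT.leaf cJ1912) (BT.leaf cJ1913)) (BT.node 1914 (BT.leaf cJ1914) (BT.leaf cJ1915))) (BT.node 1917 (BT.node 1916 (BT.leaf cJ1916) (BT.leaf cJ1917)) (BT.leaf cJ1918)))) (BT.node 1925 (BT.node 1922 (BT.node 1920 (BT.node 1919 (BT.leaf cJ1919) (BT.leaf cJ1920)) (BT.node 1921 (BT.leaf cJ1921) (BT.leaf cJ1922))) (BT.node 1924 (BT.node 1923 (BT.leaf cJ1923) (BT.leaf cJ1924)) (BT.leaf cJ1925))) (BT.node 1929 (BT.node 1927 (BT.node 1926 (BT.leaf cJ1926) (BT.leaf cJ1927)) (BT.node 1928 (BT.leaf cJ1928) (BT.leaf cJ1929))) (BT.node 1931 (BT.node 1930 (BT.leaf cJ1930) (BT.leaf cJ1931)) (BT.leaf cJ1932))))) (BT.node 1946 (BT.node 1939 (BT.node 1936 (BT.node 1934 (BT.node 1933 (BT.leaf cJ1933) (BT.leaf cJ1934)) (BT.node 1935 (BT.leaf cJ1935) (BT.leaf cJ1936))) (BT.node 1938 (BT.node 1937 (BT.leaf cJ1937) (BT.leaf cJ1938)) (BT.leaf cJ1939))) (BT.node 1943 (BT.node 1941 (BT.node 1940 (BT.leaf cJ1940) (BT.leaf cJ1941)) (BT.node 1942 (BT.leaf cJ1942) (BT.leaf cJ1943))) (BT.node 1945 (BT.node 1944 (BT.leaf cJ1944) (BT.leaf cJ1945)) (BT.leaf cJ1946)))) (BT.node 1953 (BT.node 1950 (BT.node 1948 (BT.node 1947 (BT.leaf cJ1947) (BT.leaf cJ1948)) (BT.node 1949 (BT.leaf cJ1949) (BT.leaf cJ1950))) (BT.node 1952 (BT.node 1951 (BT.leaf cJ1951) (BT.leaf cJ1952)) (BT.leaf cJ1953))) (BT.node 1957 (BT.node 1955 (BT.node 1954 (BT.leaf cJ1954) (BT.leaf cJ1955)) (BT.node 1956 (BT.leaf cJ1956) (BT.leaf cJ1957))) (BT.node 1959 (BT.node 1958 (BT.leaf cJ1958) (BT.leaf cJ1959)) (BT.leaf cJ1960)))))) (BT.node 1988 (BT.node 1974 (BT.node 1967 (BT.node 1964 (BT.node 1962 (BT.node 1961 (BT.leaf cJ1961) (BT.leaf cJ1962)) (BT.node 1963 (BT.leaf cJ1963) (BT.leaf cJ1964))) (BT.node 1966 (BT.node 1965 (BT.leaf cJ1965) (BT.leaf cJ1966)) (BT.leaf cJ1967))) (BT.node 1971 (BT.node 1969 (BT.node 1968 (BT.leaf cJ1968) (BT.leaf cJ1969)) (BT.node 1970 (BT.leaf cJ1970) (BT.leaf cJ1971))) (BT.node 1973 (BT.node 1972 (BT.leaf cJ1972) (BT.leaf cJ1973)) (BT.leaf cJ1974)))) (BT.node 1981 (BT.node 1978 (BT.node 1976 (BT.node 1975 (BT.leaf cJ1975) (BT.leaf cJ1976)) (BT.node 1977 (BT.leaf cJ1977) (BT.leaf cJ1978))) (BT.node 1980 (BT.node 1979 (BT.leaf cJ1979) (BT.leaf cJ1980)) (BT.leaf cJ1981))) (BT.node 1985 (BT.node 1983 (BT.node 1982 (BT.leaf cJ1982) (BT.leaf cJ1983)) (BT.node 1984 (BT.leaf cJ1984) (BT.leaf cJ1985))) (BT.node 1987 (BT.node 1986 (BT.leaf cJ1986) (BT.leaf cJ1987)) (BT.leaf cJ1988))))) (BT.node 2002 (BT.node 1995 (BT.node 1992 (BT.node 1990 (BT.node 1989 (BT.leaf cJ1989) (BT.leaf cJ1990)) (BT.node 1991 (BT.leaf cJ1991) (BT.leaf cJ1992))) (BT.node 1994 (BT.node 1993 (BT.leaf cJ1993) (BT.leaf cJ1994)) (BT.leaf cJ1995))) (BT.node 1999 (BT.node 1997 (BT.node 1996 (BT.leaf cJ1996) (BT.leaf cJ1997)) (BT.node 1998 (BT.leaf cJ1998) (BT.leaf cJ1999))) (BT.node 2001 (BT.node 2000 (BT.leaf cJ2000) (BT.leaf cJ2001)) (BT.leaf cJ2002)))) (BT.node 2009 (BT.node 2006 (BT.node 2004 (BT.node 2003 (BT.leaf cJ2003) (BT.leaf cJ2004)) (BT.node 2005 (BT.leaf cJ2005) (BT.leaf cJ2006))) (BT.node 2008 (BT.node 2007 (BT.leaf cJ2007) (BT.leaf cJ2008)) (BT.leaf cJ2009))) (BT.node 2013 (BT.node 2011 (BT.node 2010 (BT.leaf cJ2010) (BT.leaf cJ2011)) (BT.node 2012 (BT.leaf cJ2012) (BT.leaf cJ2013))) (BT.node 2015 (BT.node 2014 (BT.leaf cJ2014) (BT.leaf cJ2015)) (BT.leaf cJ2016)))))))) (BT.node 2128 (BT.node 2072 (BT.node 2044 (BT.node 2030 (BT.node 2023 (BT.node 2020 (BT.node 2018 (BT.node 2017 (BT.leaf cJ2017) (BT.leaf cJ2018)) (BT.node 2019 (BT.leaf cJ2019) (BT.leaf cJ2020))) (BT.node 2022 (BT.node 2021 (BT.leaf cJ2021) (BT.leaf cJ2022)) (BT.leaf cJ2023))) (BT.node 2027 (BT.node 2025 (BT.node 2024 (BT.leaf cJ2024) (BT.leaf cJ2025)) (BT.node 2026 (BT.leaf cJ2026) (BT.leaf cJ2027))) (BT.node 2029 (BT.node 2028 (BT.leaf cJ2028) (BT.leaf cJ2029)) (BT.leaf cJ2030)))) (BT.node 2037 (BT.node 2034 (BT.node 2032 (BT.node 2031 (BT.leaf cJ2031) (BT.leaf cJ2032)) (BT.node 2033 (BT.leaf cJ2033) (BT.leaf cJ2034))) (BT.node 2036 (BT.node 2035 (BT.leaf cJ2035) (BT.leaf cJ2036)) (BT.leaf cJ2037))) (BT.node 2041 (BT.node 2039 (BT.node 2038 (BT.leaf cJ2038) (BT.leaf cJ2039)) (BT.node 2040 (BT.leaf cJ2040) (BT.leaf cJ2041))) (BT.node 2043 (BT.node 2042 (BT.leaf cJ2042) (BT.leaf cJ2043)) (BT.leaf cJ2044))))) (BT.node 2058 (BT.node 2051 (BT.node 2048 (BT.node 2046 (BT.node 2045 (BT.leaf cJ2045) (BT.leaf cJ2046)) (BT.node 2047 (BT.leaf cJ2047) (BT.leaf cJ2048))) (BT.node 2050 (BT.node 2049 (BT.leaf cJ2049) (BT.leaf cJ2050)) (BT.leaf cJ2051))) (BT.node 2055 (BT.node 2053 (BT.node 2052 (BT.leaf cJ2052) (BT.leaf cJ2053)) (BT.node 2054 (BT.leaf cJ2054) (BT.leaf cJ2055))) (BT.node 2057 (BT.node 2056 (BT.leaf cJ2056) (BT.leaf cJ2057)) (BT.leaf cJ2058)))) (BT.node 2065 (BT.node 2062 (BT.node 2060 (BT.node 2059 (BT.leaf cJ2059) (BT.leaf cJ2060)) (BT.node 2061 (BT.leaf cJ2061) (BT.leaf cJ2062))) (BT.node 2064 (BT.node 2063 (BT.leaf cJ2063) (BT.leaf cJ2064)) (BT.leaf cJ2065))) (BT.node 2069 (BT.node 2067 (BT.node 2066 (BT.leaf cJ2066) (BT.leaf cJ2067)) (BT.node 2068 (BT.leaf cJ2068) (BT.leaf cJ2069))) (BT.node 2071 (BT.node 2070 (BT.leaf cJ2070) (BT.leaf cJ2071)) (BT.leaf cJ2072)))))) (BT.node 2100 (BT.node 2086 (BT.node 2079 (BT.node 2076 (BT.node 2074 (BT.node 2073 (BT.leaf cJ2073) (BT.leaf cJ2074)) (BT.node 2075 (BT.leaf cJ2075) (BT.leaf cJ2076))) (BT.node 2078 (BT.node 2077 (BT.leaf cJ2077) (BT.leaf cJ2078)) (BT.leaf cJ2079))) (BT.node 2083 (BT.node 2081 (BT.node 2080 (BT.leaf cJ2080) (BT.leaf cJ2081)) (BT.node 2082 (BT.leaf cJ2082) (BT.leaf cJ2083))) (BT.node 2085 (BT.node 2084 (BT.leaf cJ2084) (BT.leaf cJ2085)) (BT.leaf cJ2086)))) (BT.node 2093 (BT.node 2090 (BT.node 2088 (BT.node 2087 (BT.leaf cJ2087) (BT.leaf cJ2088)) (BT.node 2089 (BT.leaf cJ2089) (BT.leaf cJ2090))) (BT.node 2092 (BT.node 2091 (BT.leaf cJ2091) (BT.leaf cJ2092)) (BT.leaf cJ2093))) (BT.node 2097 (BT.node 2095 (BT.node 2094 (BT.leaf cJ2094) (BT.leaf cJ2095)) (BT.node 2096 (BT.leaf cJ2096) (BT.leaf cJ2097))) (BT.node 2099 (BT.node 2098 (BT.leaf cJ2098) (BT.leaf cJ2099)) (BT.leaf cJ2100))))) (BT.node 2114 (BT.node 2107 (BT.node 2104 (BT.node 2102 (BT.node 2101 (BT.leaf cJ2101) (BT.leaf cJ2102)) (BT.node 2103 (BT.leaf cJ2103) (BT.leaf cJ2104))) (BT.node 2106 (BT.node 2105 (BT.leaf cJ2105) (BT.leaf cJ2106)) (BT.leaf cJ2107))) (BT.node 2111 (BT.node 2109 (BT.node 2108 (BT.leaf cJ2108) (BT.leaf cJ2109)) (BT.node 2110 (BT.leaf cJ2110) (BT.leaf cJ2111))) (BT.node 2113 (BT.node 2112 (BT.leaf cJ2112) (BT.leaf cJ2113)) (BT.leaf cJ2114)))) (BT.node 2121 (BT.node 2118 (BT.node 2116 (BT.node 2115 (BT.leaf cJ2115) (BT.leaf cJ2116)) (BT.node 2117 (BT.leaf cJ2117) (BT.leaf cJ2118))) (BT.node 2120 (BT.node 2119 (BT.leaf cJ2119) (BT.leaf cJ2120)) (BT.leaf cJ2121))) (BT.node 2125 (BT.node 2123 (BT.node 2122 (BT.leaf cJ2122) (BT.leaf cJ2123)) (BT.node 2124 (BT.leaf cJ2124) (BT.leaf cJ2125))) (BT.node 2127 (BT.node 2126 (BT.leaf cJ2126) (BT.leaf cJ2127)) (BT.leaf cJ2128))))))) (BT.node 2184 (BT.node 2156 (BT.node 2142 (BT.node 2135 (BT.node 2132 (BT.node 2130 (BT.node 2129 (BT.leaf cJ2129) (BT.leaf cJ2130)) (BT.node 2131 (BT.leaf cJ2131) (BT.leaf cJ2132))) (BT.node 2134 (BT.node 2133 (BT.leaf cJ2133) (BT.leaf cJ2134)) (BT.leaf cJ2135))) (BT.node 2139 (BT.node 2137 (BT.node 2136 (BT.leaf cJ2136) (BT.leaf cJ2137)) (BT.node 2138 (BT.leaf cJ2138) (BT.leaf cJ2139))) (BT.node 2141 (BT.node 2140 (BT.leaf cJ2140) (BT.leaf cJ2141)) (BT.leaf cJ2142)))) (BT.node 2149 (BT.node 2146 (BT.node 2144 (BT.node 2143 (BT.leaf cJ2143) (BT.leaf cJ2144)) (BT.node 2145 (BT.leaf cJ2145) (BT.leaf cJ2146))) (BT.node 2148 (BT.node 2147 (BT.leaf cJ2147) (BT.leaf cJ2148)) (BT.leaf cJ2149))) (BT.node 2153 (BT.node 2151 (BT.node 2150 (BT.leaf cJ2150) (BT.leaf cJ2151)) (BT.node 2152 (BT.leaf cJ2152) (BT.leaf cJ2153))) (BT.node 2155 (BT.node 2154 (BT.leaf cJ2154) (BT.leaf cJ2155)) (BT.leaf cJ2156))))) (BT.node 2170 (BT.node 2163 (BT.node 2160 (BT.node 2158 (BT.node 2157 (BT.leaf cJ2157) (BT.leaf cJ2158)) (BT.node 2159 (BT.leaf cJ2159) (BT.leaf cJ2160))) (BT.node 2162 (BT.node 2161 (BT.leaf cJ2161) (BT.leaf cJ2162)) (BT.leaf cJ2163))) (BT.node 2167 (BT.node 2165 (BT.node 2164 (BT.leaf cJ2164) (BT.leaf cJ2165)) (BT.node 2166 (BT.leaf cJ2166) (BT.leaf cJ2167))) (BT.node 2169 (BT.node 2168 (BT.leaf cJ2168) (BT.leaf cJ2169)) (BT.leaf cJ2170)))) (BT.node 2177 (BT.node 2174 (BT.node 2172 (BT.node 2171 (BT.leaf cJ2171) (BT.leaf cJ2172)) (BT.node 2173 (BT.leaf cJ2173) (BT.leaf cJ2174))) (BT.node 2176 (BT.node 2175 (BT.leaf cJ2175) (BT.leaf cJ2176)) (BT.leaf cJ2177))) (BT.node 2181 (BT.node 2179 (BT.node 2178 (BT.leaf cJ2178) (BT.leaf cJ2179)) (BT.node 2180 (BT.leaf cJ2180) (BT.leaf cJ2181))) (BT.node 2183 (BT.node 2182 (BT.leaf cJ2182) (BT.leaf cJ2183)) (BT.leaf cJ2184)))))) (BT.node 2212 (BT.node 2198 (BT.node 2191 (BT.node 2188 (BT.node 2186 (BT.node 2185 (BT.leaf cJ2185) (BT.leaf cJ2186)) (BT.node 2187 (BT.leaf cJ2187) (BT.leaf cJ2188))) (BT.node 2190 (BT.node 2189 (BT.leaf cJ2189) (BT.leaf cJ2190)) (BT.leaf cJ2191))) (BT.node 2195 (BT.node 2193 (BT.node 2192 (BT.leaf cJ2192) (BT.leaf cJ2193)) (BT.node 2194 (BT.leaf cJ2194) (BT.leaf cJ2195))) (BT.node 2197 (BT.node 2196 (BT.leaf cJ2196) (BT.leaf cJ2197)) (BT.leaf cJ2198)))) (BT.node 2205 (BT.node 2202 (BT.node 2200 (BT.node 2199 (BT.leaf cJ2199) (BT.leaf cJ2200)) (BT.node 2201 (BT.leaf cJ2201) (BT.leaf cJ2202))) (BT.node 2204 (BT.node 2203 (BT.leaf cJ2203) (BT.leaf cJ2204)) (BT.leaf cJ2205))) (BT.node 2209 (BT.node 2207 (BT.node 2206 (BT.leaf cJ2206) (BT.leaf cJ2207)) (BT.node 2208 (BT.leaf cJ2208) (BT.leaf cJ2209))) (BT.node 2211 (BT.node 2210 (BT.leaf cJ2210) (BT.leaf cJ2211)) (BT.leaf cJ2212))))) (BT.node 2226 (BT.node 2219 (BT.node 2216 (BT.node 2214 (BT.node 2213 (BT.leaf cJ2213) (BT.leaf cJ2214)) (BT.node 2215 (BT.leaf cJ2215) (BT.leaf cJ2216))) (BT.node 2218 (BT.node 2217 (BT.leaf cJ2217) (BT.leaf cJ2218)) (BT.leaf cJ2219))) (BT.node 2223 (BT.node 2221 (BT.node 2220 (BT.leaf cJ2220) (BT.leaf cJ2221)) (BT.node 2222 (BT.leaf cJ2222) (BT.leaf cJ2223))) (BT.node 2225 (BT.node 2224 (BT.leaf cJ2224) (BT.leaf cJ2225)) (BT.leaf cJ2226)))) (BT.node 2233 (BT.node 2230 (BT.node 2228 (BT.node 2227 (BT.leaf cJ2227) (BT.leaf cJ2228)) (BT.node 2229 (BT.leaf cJ2229) (BT.leaf cJ2230))) (BT.node 2232 (BT.node 2231 (BT.leaf cJ2231) (BT.leaf cJ2232)) (BT.leaf cJ2233))) (BT.node 2237 (BT.node 2235 (BT.node 2234 (BT.leaf cJ2234) (BT.leaf cJ2235)) (BT.node 2236 (BT.leaf cJ2236) (BT.leaf cJ2237))) (BT.node 2239 (BT.node 2238 (BT.leaf cJ2238) (BT.leaf cJ2239)) (BT.leaf cJ2240))))))))) (BT.node 2464 (BT.node 2352 (BT.node 2296 (BT.node 2268 (BT.node 2254 (BT.node 2247 (BT.node 2244 (BT.node 2242 (BT.node 2241 (BT.leaf cJ2241) (BT.leaf cJ2242)) (BT.node 2243 (BT.leaf cJ2243) (BT.leaf cJ2244))) (BT.node 2246 (BT.node 2245 (BT.leaf cJ2245) (BT.leaf cJ2246)) (BT.leaf cJ2247))) (BT.node 2251 (BT.node 2249 (BT.node 2248 (BT.leaf cJ2248) (BT.leaf cJ2249)) (BT.node 2250 (BT.leaf cJ2250) (BT.leaf cJ2251))) (BT.node 2253 (BT.node 2252 (BT.leaf cJ2252) (BT.leaf cJ2253)) (BT.leaf cJ2254)))) (BT.node 2261 (BT.node 2258 (BT.node 2256 (BT.node 2255 (BT.leaf cJ2255) (BT.leaf cJ2256)) (BT.node 2257 (BT.leaf cJ2257) (BT.leaf cJ2258))) (BT.node 2260 (BT.node 2259 (BT.leaf cJ2259) (BT.leaf cJ2260)) (BT.leaf cJ2261))) (BT.node 2265 (BT.node 2263 (BT.node 2262 (BT.leaf cJ2262) (BT.leaf cJ2263)) (BT.node 2264 (BT.leaf cJ2264) (BT.leaf cJ2265))) (BT.node 2267 (BT.node 2266 (BT.leaf cJ2266) (BT.leaf cJ2267)) (BT.leaf cJ2268))))) (BT.node 2282 (BT.node 2275 (BT.node 2272 (BT.node 2270 (BT.node 2269 (BT.leaf cJ2269) (BT.leaf cJ2270)) (BT.node 2271 (BT.leaf cJ2271) (BT.leaf cJ2272))) (BT.node 2274 (BT.node 2273 (BT.leaf cJ2273) (BT.leaf cJ2274)) (BT.leaf cJ2275))) (BT.node 2279 (BT.node 2277 (BT.node 2276 (BT.leaf cJ2276) (BT.leaf cJ2277)) (BT.node 2278 (BT.leaf cJ2278) (BT.leaf cJ2279))) (BT.node 2281 (BT.node 2280 (BT.leaf cJ2280) (BT.leaf cJ2281)) (BT.leaf cJ2282)))) (BT.node 2289 (BT.node 2286 (BT.node 2284 (BT.node 2283 (BT.leaf cJ2283) (BT.leaf cJ2284)) (BT.node 2285 (BT.leaf cJ2285) (BT.leaf cJ2286))) (BT.node 2288 (BT.node 2287 (BT.leaf cJ2287) (BT.leaf cJ2288)) (BT.leaf cJ2289))) (BT.node 2293 (BT.node 2291 (BT.node 2290 (BT.leaf cJ2290) (BT.leaf cJ2291)) (BT.node 2292 (BT.leaf cJ2292) (BT.leaf cJ2293))) (BT.node 2295 (BT.node 2294 (BT.leaf cJ2294) (BT.leaf cJ2295)) (BT.leaf cJ2296)))))) (BT.node 2324 (BT.node 2310 (BT.node 2303 (BT.node 2300 (BT.node 2298 (BT.node 2297 (BT.leaf cJ2297) (BT.leaf cJ2298)) (BT.node 2299 (BT.leaf cJ2299) (BT.leaf cJ2300))) (BT.node 2302 (BT.node 2301 (BT.leaf cJ2301) (BT.leaf cJ2302)) (BT.leaf cJ2303))) (BT.node 2307 (BT.node 2305 (BT.node 2304 (BT.leaf cJ2304) (BT.leaf cJ2305)) (BT.node 2306 (BT.leaf cJ2306) (BT.leaf cJ2307))) (BT.node 2309 (BT.node 2308 (BT.leaf cJ2308) (BT.leaf cJ2309)) (BT.leaf cJ2310)))) (BT.node 2317 (BT.node 2314 (BT.node 2312 (BT.node 2311 (BT.leaf cJ2311) (BT.leaf cJ2312)) (BT.node 2313 (BT.leaf cJ2313) (BT.leaf cJ2314))) (BT.node 2316 (BT.node 2315 (BT.leaf cJ2315) (BT.leaf cJ2316)) (BT.leaf cJ2317))) (BT.node 2321 (BT.node 2319 (BT.node 2318 (BT.leaf cJ2318) (BT.leaf cJ2319)) (BT.node 2320 (BT.leaf cJ2320) (BT.leaf cJ2321))) (BT.node 2323 (BT.node 2322 (BT.leaf cJ2322) (BT.leaf cJ2323)) (BT.leaf cJ2324))))) (BT.node 2338 (BT.node 2331 (BT.node 2328 (BT.node 2326 (BT.node 2325 (BT.leaf cJ2325) (BT.leaf cJ2326)) (BT.node 2327 (BT.leaf cJ2327) (BT.leaf cJ2328))) (BT.node 2330 (BT.node 2329 (BT.leaf cJ2329) (BT.leaf cJ2330)) (BT.leaf cJ2331))) (BT.node 2335 (BT.node 2333 (BT.node 2332 (BT.leaf cJ2332) (BT.leaf cJ2333)) (BT.node 2334 (BT.leaf cJ2334) (BT.leaf cJ2335))) (BT.node 2337 (BT.node 2336 (BT.leaf cJ2336) (BT.leaf cJ2337)) (BT.leaf cJ2338)))) (BT.node 2345 (BT.node 2342 (BT.node 2340 (BT.node 2339 (BT.leaf cJ2339) (BT.leaf cJ2340)) (BT.node 2341 (BT.leaf cJ2341) (BT.leaf cJ2342))) (BT.node 2344 (BT.node 2343 (BT.leaf cJ2343) (BT.leaf cJ2344)) (BT.leaf cJ2345))) (BT.node 2349 (BT.node 2347 (BT.node 2346 (BT.leaf cJ2346) (BT.leaf cJ2347)) (BT.node 2348 (BT.leaf cJ2348) (BT.leaf cJ2349))) (BT.node 2351 (BT.node 2350 (BT.leaf cJ2350) (BT.leaf cJ2351)) (BT.leaf cJ2352))))))) (BT.node 2408 (BT.node 2380 (BT.node 2366 (BT.node 2359 (BT.node 2356 (BT.node 2354 (BT.node 2353 (BT.leaf cJ2353) (BT.leaf cJ2354)) (BT.node 2355 (BT.leaf cJ2355) (BT.leaf cJ2356))) (BT.node 2358 (BT.node 2357 (BT.leaf cJ2357) (BT.leaf cJ2358)) (BT.leaf cJ2359))) (BT.node 2363 (BT.node 2361 (BT.node 2360 (BT.leaf cJ2360) (BT.leaf cJ2361)) (BT.node 2362 (BT.leaf cJ2362) (BT.leaf cJ2363))) (BT.node 2365 (BT.node 2364 (BT.leaf cJ2364) (BT.leaf cJ2365)) (BT.leaf cJ2366)))) (BT.node 2373 (BT.node 2370 (BT.node 2368 (BT.node 2367 (BT.leaf cJ2367) (BT.leaf cJ2368)) (BT.node 2369 (BT.leaf cJ2369) (BT.leaf cJ2370))) (BT.node 2372 (BT.node 2371 (BT.leaf cJ2371) (BT.leaf cJ2372)) (BT.leaf cJ2373))) (BT.node 2377 (BT.node 2375 (BT.node 2374 (BT.leaf cJ2374) (BT.leaf cJ2375)) (BT.node 2376 (BT.leaf cJ2376) (BT.leaf cJ2377))) (BT.node 2379 (BT.node 2378 (BT.leaf cJ2378) (BT.leaf cJ2379)) (BT.leaf cJ2380))))) (BT.node 2394 (BT.node 2387 (BT.node 2384 (BT.node 2382 (BT.node 2381 (BT.leaf cJ2381) (BT.leaf cJ2382)) (BT.node 2383 (BT.leaf cJ2383) (BT.leaf cJ2384))) (BT.node 2386 (BT.node 2385 (BT.leaf cJ2385) (BT.leaf cJ2386)) (BT.leaf cJ2387))) (BT.node 2391 (BT.node 2389 (BT.node 2388 (BT.leaf cJ2388) (BT.leaf cJ2389)) (BT.node 2390 (BT.leaf cJ2390) (BT.leaf cJ2391))) (BT.node 2393 (BT.node 2392 (BT.leaf cJ2392) (BT.leaf cJ2393)) (BT.leaf cJ2394)))) (BT.node 2401 (BT.node 2398 (BT.node 2396 (BT.node 2395 (BT.leaf cJ2395) (BT.leaf cJ2396)) (BT.node 2397 (BT.leaf cJ2397) (BT.leaf cJ2398))) (BT.node 2400 (BT.node 2399 (BT.leaf cJ2399) (BT.leaf cJ2400)) (BT.leaf cJ2401))) (BT.node 2405 (BT.node 2403 (BT.node 2402 (BT.leaf cJ2402) (BT.leaf cJ2403)) (BT.node 2404 (BT.leaf cJ2404) (BT.leaf cJ2405))) (BT.node 2407 (BT.node 2406 (BT.leaf cJ2406) (BT.leaf cJ2407)) (BT.leaf cJ2408)))))) (BT.node 2436 (BT.node 2422 (BT.node 2415 (BT.node 2412 (BT.node 2410 (BT.node 2409 (BT.leaf cJ2409) (BT.leaf cJ2410)) (BT.node 2411 (BT.leaf cJ2411) (BT.leaf cJ2412))) (BT.node 2414 (BT.node 2413 (BT.leaf cJ2413) (BT.leaf cJ2414)) (BT.leaf cJ2415))) (BT.node 2419 (BT.node 2417 (BT.node 2416 (BT.leaf cJ2416) (BT.leaf cJ2417)) (BT.node 2418 (BT.leaf cJ2418) (BT.leaf cJ2419))) (BT.node 2421 (BT.node 2420 (BT.leaf cJ2420) (BT.leaf cJ2421)) (BT.leaf cJ2422)))) (BT.node 2429 (BT.node 2426 (BT.node 2424 (BT.node 2423 (BT.leaf cJ2423) (BT.leaf cJ2424)) (BT.node 2425 (BT.leaf cJ2425) (BT.leaf cJ2426))) (BT.node 2428 (BT.node 2427 (BT.leaf cJ2427) (BT.leaf cJ2428)) (BT.leaf cJ2429))) (BT.node 2433 (BT.node 2431 (BT.node 2430 (BT.leaf cJ2430) (BT.leaf cJ2431)) (BT.node 2432 (BT.leaf cJ2432) (BT.leaf cJ2433))) (BT.node 2435 (BT.node 2434 (BT.leaf cJ2434) (BT.leaf cJ2435)) (BT.leaf cJ2436))))) (BT.node 2450 (BT.node 2443 (BT.node 2440 (BT.node 2438 (BT.node 2437 (BT.leaf cJ2437) (BT.leaf cJ2438)) (BT.node 2439 (BT.leaf cJ2439) (BT.leaf cJ2440))) (BT.node 2442 (BT.node 2441 (BT.leaf cJ2441) (BT.leaf cJ2442)) (BT.leaf cJ2443))) (BT.node 2447 (BT.node 2445 (BT.node 2444 (BT.leaf cJ2444) (BT.leaf cJ2445)) (BT.node 2446 (BT.leaf cJ2446) (BT.leaf cJ2447))) (BT.node 2449 (BT.node 2448 (BT.leaf cJ2448) (BT.leaf cJ2449)) (BT.leaf cJ2450)))) (BT.node 2457 (BT.node 2454 (BT.node 2452 (BT.node 2451 (BT.leaf cJ2451) (BT.leaf cJ2452)) (BT.node 2453 (BT.leaf cJ2453) (BT.leaf cJ2454))) (BT.node 2456 (BT.node 2455 (BT.leaf cJ2455) (BT.leaf cJ2456)) (BT.leaf cJ2457))) (BT.node 2461 (BT.node 2459 (BT.node 2458 (BT.leaf cJ2458) (BT.leaf cJ2459)) (BT.node 2460 (BT.leaf cJ2460) (BT.leaf cJ2461))) (BT.node 2463 (BT.node 2462 (BT.leaf cJ2462) (BT.leaf cJ2463)) (BT.leaf cJ2464)))))))) (BT.node 2576 (BT.node 2520 (BT.node 2492 (BT.node 2478 (BT.node 2471 (BT.node 2468 (BT.node 2466 (BT.node 2465 (BT.leaf cJ2465) (BT.leaf cJ2466)) (BT.node 2467 (BT.leaf cJ2467) (BT.leaf cJ2468))) (BT.node 2470 (BT.node 2469 (BT.leaf cJ2469) (BT.leaf cJ2470)) (BT.leaf cJ2471))) (BT.node 2475 (BT.node 2473 (BT.node 2472 (BT.leaf cJ2472) (BT.leaf cJ2473)) (BT.node 2474 (BT.leaf cJ2474) (BT.leaf cJ2475))) (BT.node 2477 (BT.node 2476 (BT.leaf cJ2476) (BT.leaf cJ2477)) (BT.leaf cJ2478)))) (BT.node 2485 (BT.node 2482 (BT.node 2480 (BT.node 2479 (BT.leaf cJ2479) (BT.leaf cJ2480)) (BT.node 2481 (BT.leaf cJ2481) (BT.leaf cJ2482))) (BT.node 2484 (BT.node 2483 (BT.leaf cJ2483) (BT.leaf cJ2484)) (BT.leaf cJ2485))) (BT.node 2489 (BT.node 2487 (BT.node 2486 (BT.leaf cJ2486) (BT.leaf cJ2487)) (BT.node 2488 (BT.leaf cJ2488) (BT.leaf cJ2489))) (BT.node 2491 (BT.node 2490 (BT.leaf cJ2490) (BT.leaf cJ2491)) (BT.leaf cJ2492))))) (BT.node 2506 (BT.node 2499 (BT.node 2496 (BT.node 2494 (BT.node 2493 (BT.leaf cJ2493) (BT.leaf cJ2494)) (BT.node 2495 (BT.leaf cJ2495) (BT.leaf cJ2496))) (BT.node 2498 (BT.node 2497 (BT.leaf cJ2497) (BT.leaf cJ2498)) (BT.leaf cJ2499))) (BT.node 2503 (BT.node 2501 (BT.node 2500 (BT.leaf cJ2500) (BT.leaf cJ2501)) (BT.node 2502 (BT.leaf cJ2502) (BT.leaf cJ2503))) (BT.node 2505 (BT.node 2504 (BT.leaf cJ2504) (BT.leaf cJ2505)) (BT.leaf cJ2506)))) (BT.node 2513 (BT.node 2510 (BT.node 2508 (BT.node 2507 (BT.leaf cJ2507) (BT.leaf cJ2508)) (BT.node 2509 (BT.leaf cJ2509) (BT.leaf cJ2510))) (BT.node 2512 (BT.node 2511 (BT.leaf cJ2511) (BT.leaf cJ2512)) (BT.leaf cJ2513))) (BT.node 2517 (BT.node 2515 (BT.node 2514 (BT.leaf cJ2514) (BT.leaf cJ2515)) (BT.node 2516 (BT.leaf cJ2516) (BT.leaf cJ2517))) (BT.node 2519 (BT.node 2518 (BT.leaf cJ2518) (BT.leaf cJ2519)) (BT.leaf cJ2520)))))) (BT.node 2548 (BT.node 2534 (BT.node 2527 (BT.node 2524 (BT.node 2522 (BT.node 2521 (BT.leaf cJ2521) (BT.leaf cJ2522)) (BT.node 2523 (BT.leaf cJ2523) (BT.leaf cJ2524))) (BT.node 2526 (BT.node 2525 (BT.leaf cJ2525) (BT.leaf cJ2526)) (BT.leaf cJ2527))) (BT.node 2531 (BT.node 2529 (BT.node 2528 (BT.leaf cJ2528) (BT.leaf cJ2529)) (BT.node 2530 (BT.leaf cJ2530) (BT.leaf cJ2531))) (BT.node 2533 (BT.node 2532 (BT.leaf cJ2532) (BT.leaf cJ2533)) (BT.leaf cJ2534)))) (BT.node 2541 (BT.node 2538 (BT.node 2536 (BT.node 2535 (BT.leaf cJ2535) (BT.leaf cJ2536)) (BT.node 2537 (BT.leaf cJ2537) (BT.leaf cJ2538))) (BT.node 2540 (BT.node 2539 (BT.leaf cJ2539) (BT.leaf cJ2540)) (BT.leaf cJ2541))) (BT.node 2545 (BT.node 2543 (BT.node 2542 (BT.leaf cJ2542) (BT.leaf cJ2543)) (BT.node 2544 (BT.leaf cJ2544) (BT.leaf cJ2545))) (BT.node 2547 (BT.node 2546 (BT.leaf cJ2546) (BT.leaf cJ2547)) (BT.leaf cJ2548))))) (BT.node 2562 (BT.node 2555 (BT.node 2552 (BT.node 2550 (BT.node 2549 (BT.leaf cJ2549) (BT.leaf cJ2550)) (BT.node 2551 (BT.leaf cJ2551) (BT.leaf cJ2552))) (BT.node 2554 (BT.node 2553 (BT.leaf cJ2553) (BT.leaf cJ2554)) (BT.leaf cJ2555))) (BT.node 2559 (BT.node 2557 (BT.node 2556 (BT.leaf cJ2556) (BT.leaf cJ2557)) (BT.node 2558 (BT.leaf cJ2558) (BT.leaf cJ2559))) (BT.node 2561 (BT.node 2560 (BT.leaf cJ2560) (BT.leaf cJ2561)) (BT.leaf cJ2562)))) (BT.node 2569 (BT.node 2566 (BT.node 2564 (BT.node 2563 (BT.leaf cJ2563) (BT.leaf cJ2564)) (BT.node 2565 (BT.leaf cJ2565) (BT.leaf cJ2566))) (BT.node 2568 (BT.node 2567 (BT.leaf cJ2567) (BT.leaf cJ2568)) (BT.leaf cJ2569))) (BT.node 2573 (BT.node 2571 (BT.node 2570 (BT.leaf cJ2570) (BT.leaf cJ2571)) (BT.node 2572 (BT.leaf cJ2572) (BT.leaf cJ2573))) (BT.node 2575 (BT.node 2574 (BT.leaf cJ2574) (BT.leaf cJ2575)) (BT.leaf cJ2576))))))) (BT.node 2632 (BT.node 2604 (BT.node 2590 (BT.node 2583 (BT.node 2580 (BT.node 2578 (BT.node 2577 (BT.leaf cJ2577) (BT.leaf cJ2578)) (BT.node 2579 (BT.leaf cJ2579) (BT.leaf cJ2580))) (BT.node 2582 (BT.node 2581 (BT.leaf cJ2581) (BT.leaf cJ2582)) (BT.leaf cJ2583))) (BT.node 2587 (BT.node 2585 (BT.node 2584 (BT.leaf cJ2584) (BT.leaf cJ2585)) (BT.node 2586 (BT.leaf cJ2586) (BT.leaf cJ2587))) (BT.node 2589 (BT.node 2588 (BT.leaf cJ2588) (BT.leaf cJ2589)) (BT.leaf cJ2590)))) (BT.node 2597 (BT.node 2594 (BT.node 2592 (BT.node 2591 (BT.leaf cJ2591) (BT.leaf cJ2592)) (BT.node 2593 (BT.leaf cJ2593) (BT.leaf cJ2594))) (BT.node 2596 (BT.node 2595 (BT.leaf cJ2595) (BT.leaf cJ2596)) (BT.leaf cJ2597))) (BT.node 2601 (BT.node 2599 (BT.node 2598 (BT.leaf cJ2598) (BT.leaf cJ2599)) (BT.node 2600 (BT.leaf cJ2600) (BT.leaf cJ2601))) (BT.node 2603 (BT.node 2602 (BT.leaf cJ2602) (BT.leaf cJ2603)) (BT.leaf cJ2604))))) (BT.node 2618 (BT.node 2611 (BT.node 2608 (BT.node 2606 (BT.node 2605 (BT.leaf cJ2605) (BT.leaf cJ2606)) (BT.node 2607 (BT.leaf cJ2607) (BT.leaf cJ2608))) (BT.node 2610 (BT.node 2609 (BT.leaf cJ2609) (BT.leaf cJ2610)) (BT.leaf cJ2611))) (BT.node 2615 (BT.node 2613 (BT.node 2612 (BT.leaf cJ2612) (BT.leaf cJ2613)) (BT.node 2614 (BT.leaf cJ2614) (BT.leaf cJ2615))) (BT.node 2617 (BT.node 2616 (BT.leaf cJ2616) (BT.leaf cJ2617)) (BT.leaf cJ2618)))) (BT.node 2625 (BT.node 2622 (BT.node 2620 (BT.node 2619 (BT.leaf cJ2619) (BT.leaf cJ2620)) (BT.node 2621 (BT.leaf cJ2621) (BT.leaf cJ2622))) (BT.node 2624 (BT.node 2623 (BT.leaf cJ2623) (BT.leaf cJ2624)) (BT.leaf cJ2625))) (BT.node 2629 (BT.node 2627 (BT.node 2626 (BT.leaf cJ2626) (BT.leaf cJ2627)) (BT.node 2628 (BT.leaf cJ2628) (BT.leaf cJ2629))) (BT.node 2631 (BT.node 2630 (BT.leaf cJ2630) (BT.leaf cJ2631)) (BT.leaf cJ2632)))))) (BT.node 2660 (BT.node 2646 (BT.node 2639 (BT.node 2636 (BT.node 2634 (BT.node 2633 (BT.leaf cJ2633) (BT.leaf cJ2634)) (BT.node 2635 (BT.leaf cJ2635) (BT.leaf cJ2636))) (BT.node 2638 (BT.node 2637 (BT.leaf cJ2637) (BT.leaf cJ2638)) (BT.leaf cJ2639))) (BT.node 2643 (BT.node 2641 (BT.node 2640 (BT.leaf cJ2640) (BT.leaf cJ2641)) (BT.node 2642 (BT.leaf cJ2642) (BT.leaf cJ2643))) (BT.node 2645 (BT.node 2644 (BT.leaf cJ2644) (BT.leaf cJ2645)) (BT.leaf cJ2646)))) (BT.node 2653 (BT.node 2650 (BT.node 2648 (BT.node 2647 (BT.leaf cJ2647) (BT.leaf cJ2648)) (BT.node 2649 (BT.leaf cJ2649) (BT.leaf cJ2650))) (BT.node 2652 (BT.node 2651 (BT.leaf cJ2651) (BT.leaf cJ2652)) (BT.leaf cJ2653))) (BT.node 2657 (BT.node 2655 (BT.node 2654 (BT.leaf cJ2654) (BT.leaf cJ2655)) (BT.node 2656 (BT.leaf cJ2656) (BT.leaf cJ2657))) (BT.node 2659 (BT.node 2658 (BT.leaf cJ2658) (BT.leaf cJ2659)) (BT.leaf cJ2660))))) (BT.node 2674 (BT.node 2667 (BT.node 2664 (BT.node 2662 (BT.node 2661 (BT.leaf cJ2661) (BT.leaf cJ2662)) (BT.node 2663 (BT.leaf cJ2663) (BT.leaf cJ2664))) (BT.node 2666 (BT.node 2665 (BT.leaf cJ2665) (BT.leaf cJ2666)) (BT.leaf cJ2667))) (BT.node 2671 (BT.node 2669 (BT.node 2668 (BT.leaf cJ2668) (BT.leaf cJ2669)) (BT.node 2670 (BT.leaf cJ2670) (BT.leaf cJ2671))) (BT.node 2673 (BT.node 2672 (BT.leaf cJ2672) (BT.leaf cJ2673)) (BT.leaf cJ2674)))) (BT.node 2681 (BT.node 2678 (BT.node 2676 (BT.node 2675 (BT.leaf cJ2675) (BT.leaf cJ2676)) (BT.node 2677 (BT.leaf cJ2677) (BT.leaf cJ2678))) (BT.node 2680 (BT.node 2679 (BT.leaf cJ2679) (BT.leaf cJ2680)) (BT.leaf cJ2681))) (BT.node 2685 (BT.node 2683 (BT.node 2682 (BT.leaf cJ2682) (BT.leaf cJ2683)) (BT.node 2684 (BT.leaf cJ2684) (BT.leaf cJ2685))) (BT.node 2687 (BT.node 2686 (BT.leaf cJ2686) (BT.leaf cJ2687)) (BT.leaf cJ2688)))))))))) (BT.node 3136 (BT.node 2912 (BT.node 2800 (BT.node 2744 (BT.node 2716 (BT.node 2702 (BT.node 2695 (BT.node 2692 (BT.node 2690 (BT.node 2689 (BT.leaf cJ2689) (BT.leaf cJ2690)) (BT.node 2691 (BT.leaf cJ2691) (BT.leaf cJ2692))) (BT.node 2694 (BT.node 2693 (BT.leaf cJ2693) (BT.leaf cJ2694)) (BT.leaf cJ2695))) (BT.node 2699 (BT.node 2697 (BT.node 2696 (BT.leaf cJ2696) (BT.leaf cJ2697)) (BT.node 2698 (BT.leaf cJ2698) (BT.leaf cJ2699))) (BT.node 2701 (BT.node 2700 (BT.leaf cJ2700) (BT.leaf cJ2701)) (BT.leaf cJ2702)))) (BT.node 2709 (BT.node 2706 (BT.node 2704 (BT.node 2703 (BT.leaf cJ2703) (BT.leaf cJ2704)) (BT.node 2705 (BT.leaf cJ2705) (BT.leaf cJ2706))) (BT.node 2708 (BT.node 2707 (BT.leaf cJ2707) (BT.leaf cJ2708)) (BT.leaf cJ2709))) (BT.node 2713 (BT.node 2711 (BT.node 2710 (BT.leaf cJ2710) (BT.leaf cJ2711)) (BT.node 2712 (BT.leaf cJ2712) (BT.leaf cJ2713))) (BT.node 2715 (BT.node 2714 (BT.leaf cJ2714) (BT.leaf cJ2715)) (BT.leaf cJ2716))))) (BT.node 2730 (BT.node 2723 (BT.node 2720 (BT.node 2718 (BT.node 2717 (BT.leaf cJ2717) (BT.leaf cJ2718)) (BT.node 2719 (BT.leaf cJ2719) (BT.leaf cJ2720))) (BT.node 2722 (BT.node 2721 (BT.leaf cJ2721) (BT.leaf cJ2722)) (BT.leaf cJ2723))) (BT.node 2727 (BT.node 2725 (BT.node 2724 (BT.leaf cJ2724) (BT.leaf cJ2725)) (BT.node 2726 (BT.leaf cJ2726) (BT.leaf cJ2727))) (BT.node 2729 (BT.node 2728 (BT.leaf cJ2728) (BT.leaf cJ2729)) (BT.leaf cJ2730)))) (BT.node 2737 (BT.node 2734 (BT.node 2732 (BT.node 2731 (BT.leaf cJ2731) (BT.leaf cJ2732)) (BT.node 2733 (BT.leaf cJ2733) (BT.leaf cJ2734))) (BT.node 2736 (BT.node 2735 (BT.leaf cJ2735) (BT.leaf cJ2736)) (BT.leaf cJ2737))) (BT.node 2741 (BT.node 2739 (BT.node 2738 (BT.leaf cJ2738) (BT.leaf cJ2739)) (BT.node 2740 (BT.leaf cJ2740) (BT.leaf cJ2741))) (BT.node 2743 (BT.node 2742 (BT.leaf cJ2742) (BT.leaf cJ2743)) (BT.leaf cJ2744)))))) (BT.node 2772 (BT.node 2758 (BT.node 2751 (BT.node 2748 (BT.node 2746 (BT.node 2745 (BT.leaf cJ2745) (BT.leaf cJ2746)) (BT.node 2747 (BT.leaf cJ2747) (BT.leaf cJ2748))) (BT.node 2750 (BT.node 2749 (BT.leaf cJ2749) (BT.leaf cJ2750)) (BT.leaf cJ2751))) (BT.node 2755 (BT.node 2753 (BT.node 2752 (BT.leaf cJ2752) (BT.leaf cJ2753)) (BT.node 2754 (BT.leaf cJ2754) (BT.leaf cJ2755))) (BT.node 2757 (BT.node 2756 (BT.leaf cJ2756) (BT.leaf cJ2757)) (BT.leaf cJ2758)))) (BT.node 2765 (BT.node 2762 (BT.node 2760 (BT.node 2759 (BT.leaf cJ2759) (BT.leaf cJ2760)) (BT.node 2761 (BT.leaf cJ2761) (BT.leaf cJ2762))) (BT.node 2764 (BT.node 2763 (BT.leaf cJ2763) (BT.leaf cJ2764)) (BT.leaf cJ2765))) (BT.node 2769 (BT.node 2767 (BT.node 2766 (BT.leaf cJ2766) (BT.leaf cJ2767)) (BT.node 2768 (BT.leaf cJ2768) (BT.leaf cJ2769))) (BT.node 2771 (BT.node 2770 (BT.leaf cJ2770) (BT.leaf cJ2771)) (BT.leaf cJ2772))))) (BT.node 2786 (BT.node 2779 (BT.node 2776 (BT.node 2774 (BT.node 2773 (BT.leaf cJ2773) (BT.leaf cJ2774)) (BT.node 2775 (BT.leaf cJ2775) (BT.leaf cJ2776))) (BT.node 2778 (BT.node 2777 (BT.leaf cJ2777) (BT.leaf cJ2778)) (BT.leaf cJ2779))) (BT.node 2783 (BT.node 2781 (BT.node 2780 (BT.leaf cJ2780) (BT.leaf cJ2781)) (BT.node 2782 (BT.leaf cJ2782) (BT.leaf cJ2783))) (BT.node 2785 (BT.node 2784 (BT.leaf cJ2784) (BT.leaf cJ2785)) (BT.leaf cJ2786)))) (BT.node 2793 (BT.node 2790 (BT.node 2788 (BT.node 2787 (BT.leaf cJ2787) (BT.leaf cJ2788)) (BT.node 2789 (BT.leaf cJ2789) (BT.leaf cJ2790))) (BT.node 2792 (BT.node 2791 (BT.leaf cJ2791) (BT.leaf cJ2792)) (BT.leaf cJ2793))) (BT.node 2797 (BT.node 2795 (BT.node 2794 (BT.leaf cJ2794) (BT.leaf cJ2795)) (BT.node 2796 (BT.leaf cJ2796) (BT.leaf cJ2797))) (BT.node 2799 (BT.node 2798 (BT.leaf cJ2798) (BT.leaf cJ2799)) (BT.leaf cJ2800))))))) (BT.node 2856 (BT.node 2828 (BT.node 2814 (BT.node 2807 (BT.node 2804 (BT.node 2802 (BT.node 2801 (BT.leaf cJ2801) (BT.leaf cJ2802)) (BT.node 2803 (BT.leaf cJ2803) (BT.leaf cJ2804))) (BT.node 2806 (BT.node 2805 (BT.leaf cJ2805) (BT.leaf cJ2806)) (BT.leaf cJ2807))) (BT.node 2811 (BT.node 2809 (BT.node 2808 (BT.leaf cJ2808) (BT.leaf cJ2809)) (BT.node 2810 (BT.leaf cJ2810) (BT.leaf cJ2811))) (BT.node 2813 (BT.node 2812 (BT.leaf cJ2812) (BT.leaf cJ2813)) (BT.leaf cJ2814)))) (BT.node 2821 (BT.node 2818 (BT.node 2816 (BT.node 2815 (BT.leaf cJ2815) (BT.leaf cJ2816)) (BT.node 2817 (BT.leaf cJ2817) (BT.leaf cJ2818))) (BT.node 2820 (BT.node 2819 (BT.leaf cJ2819) (BT.leaf cJ2820)) (BT.leaf cJ2821))) (BT.node 2825 (BT.node 2823 (BT.node 2822 (BT.leaf cJ2822) (BT.leaf cJ2823)) (BT.node 2824 (BT.leaf cJ2824) (BT.leaf cJ2825))) (BT.node 2827 (BT.node 2826 (BT.leaf cJ2826) (BT.leaf cJ2827)) (BT.leaf cJ2828))))) (BT.node 2842 (BT.node 2835 (BT.node 2832 (BT.node 2830 (BT.node 2829 (BT.leaf cJ2829) (BT.leaf cJ2830)) (BT.node 2831 (BT.leaf cJ2831) (BT.leaf cJ2832))) (BT.node 2834 (BT.node 2833 (BT.leaf cJ2833) (BT.leaf cJ2834)) (BT.leaf cJ2835))) (BT.node 2839 (BT.node 2837 (BT.node 2836 (BT.leaf cJ2836) (BT.leaf cJ2837)) (BT.node 2838 (BT.leaf cJ2838) (BT.leaf cJ2839))) (BT.node 2841 (BT.node 2840 (BT.leaf cJ2840) (BT.leaf cJ2841)) (BT.leaf cJ2842)))) (BT.node 2849 (BT.node 2846 (BT.node 2844 (BT.node 2843 (BT.leaf cJ2843) (BT.leaf cJ2844)) (BT.node 2845 (BT.leaf cJ2845) (BT.leaf cJ2846))) (BT.node 2848 (BT.node 2847 (BT.leaf cJ2847) (BT.leaf cJ2848)) (BT.leaf cJ2849))) (BT.node 2853 (BT.node 2851 (BT.node 2850 (BT.leaf cJ2850) (BT.leaf cJ2851)) (BT.node 2852 (BT.leaf cJ2852) (BT.leaf cJ2853))) (BT.node 2855 (BT.node 2854 (BT.leaf cJ2854) (BT.leaf cJ2855)) (BT.leaf cJ2856)))))) (BT.node 2884 (BT.node 2870 (BT.node 2863 (BT.node 2860 (BT.node 2858 (BT.node 2857 (BT.leaf cJ2857) (BT.leaf cJ2858)) (BT.node 2859 (BT.leaf cJ2859) (BT.leaf cJ2860))) (BT.node 2862 (BT.node 2861 (BT.leaf cJ2861) (BT.leaf cJ2862)) (BT.leaf cJ2863))) (BT.node 2867 (BT.node 2865 (BT.node 2864 (BT.leaf cJ2864) (BT.leaf cJ2865)) (BT.node 2866 (BT.leaf cJ2866) (BT.leaf cJ2867))) (BT.node 2869 (BT.node 2868 (BT.leaf cJ2868) (BT.leaf cJ2869)) (BT.leaf cJ2870)))) (BT.node 2877 (BT.node 2874 (BT.node 2872 (BT.node 2871 (BT.leaf cJ2871) (BT.leaf cJ2872)) (BT.node 2873 (BT.leaf cJ2873) (BT.leaf cJ2874))) (BT.node 2876 (BT.node 2875 (BT.leaf cJ2875) (BT.leaf cJ2876)) (BT.leaf cJ2877))) (BT.node 2881 (BT.node 2879 (BT.node 2878 (BT.leaf cJ2878) (BT.leaf cJ2879)) (BT.node 2880 (BT.leaf cJ2880) (BT.leaf cJ2881))) (BT.node 2883 (BT.node 2882 (BT.leaf cJ2882) (BT.leaf cJ2883)) (BT.leaf cJ2884))))) (BT.node 2898 (BT.node 2891 (BT.node 2888 (BT.node 2886 (BT.node 2885 (BT.leaf cJ2885) (BT.leaf cJ2886)) (BT.node 2887 (BT.leaf cJ2887) (BT.leaf cJ2888))) (BT.node 2890 (BT.node 2889 (BT.leaf cJ2889) (BT.leaf cJ2890)) (BT.leaf cJ2891))) (BT.node 2895 (BT.node 2893 (BT.node 2892 (BT.leaf cJ2892) (BT.leaf cJ2893)) (BT.node 2894 (BT.leaf cJ2894) (BT.leaf cJ2895))) (BT.node 2897 (BT.node 2896 (BT.leaf cJ2896) (BT.leaf cJ2897)) (BT.leaf cJ2898)))) (BT.node 2905 (BT.node 2902 (BT.node 2900 (BT.node 2899 (BT.leaf cJ2899) (BT.leaf cJ2900)) (BT.node 2901 (BT.leaf cJ2901) (BT.leaf cJ2902))) (BT.node 2904 (BT.node 2903 (BT.leaf cJ2903) (BT.leaf cJ2904)) (BT.leaf cJ2905))) (BT.node 2909 (BT.node 2907 (BT.node 2906 (BT.leaf cJ2906) (BT.leaf cJ2907)) (BT.node 2908 (BT.leaf cJ2908) (BT.leaf cJ2909))) (BT.node 2911 (BT.node 2910 (BT.leaf cJ2910) (BT.leaf cJ2911)) (BT.leaf cJ2912)))))))) (BT.node 3024 (BT.node 2968 (BT.node 2940 (BT.node 2926 (BT.node 2919 (BT.node 2916 (BT.node 2914 (BT.node 2913 (BT.leaf cJ2913) (BT.leaf cJ2914)) (BT.node 2915 (BT.leaf cJ2915) (BT.leaf cJ2916))) (BT.node 2918 (BT.node 2917 (BT.leaf cJ2917) (BT.leaf cJ2918)) (BT.leaf cJ2919))) (BT.node 2923 (BT.node 2921 (BT.node 2920 (BT.leaf cJ2920) (BT.leaf cJ2921)) (BT.node 2922 (BT.leaf cJ2922) (BT.leaf cJ2923))) (BT.node 2925 (BT.node 2924 (BT.leaf cJ2924) (BT.leaf cJ2925)) (BT.leaf cJ2926)))) (BT.node 2933 (BT.node 2930 (BT.node 2928 (BT.node 2927 (BT.leaf cJ2927) (BT.leaf cJ2928)) (BT.node 2929 (BT.leaf cJ2929) (BT.leaf cJ2930))) (BT.node 2932 (BT.node 2931 (BT.leaf cJ2931) (BT.leaf cJ2932)) (BT.leaf cJ2933))) (BT.node 2937 (BT.node 2935 (BT.node 2934 (BT.leaf cJ2934) (BT.leaf cJ2935)) (BT.node 2936 (BT.leaf cJ2936) (BT.leaf cJ2937))) (BT.node 2939 (BT.node 2938 (BT.leaf cJ2938) (BT.leaf cJ2939)) (BT.leaf cJ2940))))) (BT.node 2954 (BT.node 2947 (BT.node 2944 (BT.node 2942 (BT.node 2941 (BT.leaf cJ2941) (BT.leaf cJ2942)) (BT.node 2943 (BT.leaf cJ2943) (BT.leaf cJ2944))) (BT.node 2946 (BT.node 2945 (BT.leaf cJ2945) (BT.leaf cJ2946)) (BT.leaf cJ2947))) (BT.node 2951 (BT.node 2949 (BT.node 2948 (BT.leaf cJ2948) (BT.leaf cJ2949)) (BT.node 2950 (BT.leaf cJ2950) (BT.leaf cJ2951))) (BT.node 2953 (BT.node 2952 (BT.leaf cJ2952) (BT.leaf cJ2953)) (BT.leaf cJ2954)))) (BT.node 2961 (BT.node 2958 (BT.node 2956 (BT.node 2955 (BT.leaf cJ2955) (BT.leaf cJ2956)) (BT.node 2957 (BT.leaf cJ2957) (BT.leaf cJ2958))) (BT.node 2960 (BT.node 2959 (BT.leaf cJ2959) (BT.leaf cJ2960)) (BT.leaf cJ2961))) (BT.node 2965 (BT.node 2963 (BT.node 2962 (BT.leaf cJ2962) (BT.leaf cJ2963)) (BT.node 2964 (BT.leaf cJ2964) (BT.leaf cJ2965))) (BT.node 2967 (BT.node 2966 (BT.leaf cJ2966) (BT.leaf cJ2967)) (BT.leaf cJ2968)))))) (BT.node 2996 (BT.node 2982 (BT.node 2975 (BT.node 2972 (BT.node 2970 (BT.node 2969 (BT.leaf cJ2969) (BT.leaf cJ2970)) (BT.node 2971 (BT.leaf cJ2971) (BT.leaf cJ2972))) (BT.node 2974 (BT.node 2973 (BT.leaf cJ2973) (BT.leaf cJ2974)) (BT.leaf cJ2975))) (BT.node 2979 (BT.node 2977 (BT.node 2976 (BT.leaf cJ2976) (BT.leaf cJ2977)) (BT.node 2978 (BT.leaf cJ2978) (BT.leaf cJ2979))) (BT.node 2981 (BT.node 2980 (BT.leaf cJ2980) (BT.leaf cJ2981)) (BT.leaf cJ2982)))) (BT.node 2989 (BT.node 2986 (BT.node 2984 (BT.node 2983 (BT.leaf cJ2983) (BT.leaf cJ2984)) (BT.node 2985 (BT.leaf cJ2985) (BT.leaf cJ2986))) (BT.node 2988 (BT.node 2987 (BT.leaf cJ2987) (BT.leaf cJ2988)) (BT.leaf cJ2989))) (BT.node 2993 (BT.node 2991 (BT.node 2990 (BT.leaf cJ2990) (BT.leaf cJ2991)) (BT.node 2992 (BT.leaf cJ2992) (BT.leaf cJ2993))) (BT.node 2995 (BT.node 2994 (BT.leaf cJ2994) (BT.leaf cJ2995)) (BT.leaf cJ2996))))) (BT.node 3010 (BT.node 3003 (BT.node 3000 (BT.node 2998 (BT.node 2997 (BT.leaf cJ2997) (BT.leaf cJ2998)) (BT.node 2999 (BT.leaf cJ2999) (BT.leaf cJ3000))) (BT.node 3002 (BT.node 3001 (BT.leaf cJ3001) (BT.leaf cJ3002)) (BT.leaf cJ3003))) (BT.node 3007 (BT.node 3005 (BT.node 3004 (BT.leaf cJ3004) (BT.leaf cJ3005)) (BT.node 3006 (BT.leaf cJ3006) (BT.leaf cJ3007))) (BT.node 3009 (BT.node 3008 (BT.leaf cJ3008) (BT.leaf cJ3009)) (BT.leaf cJ3010)))) (BT.node 3017 (BT.node 3014 (BT.node 3012 (BT.node 3011 (BT.leaf cJ3011) (BT.leaf cJ3012)) (BT.node 3013 (BT.leaf cJ3013) (BT.leaf cJ3014))) (BT.node 3016 (BT.node 3015 (BT.leaf cJ3015) (BT.leaf cJ3016)) (BT.leaf cJ3017))) (BT.node 3021 (BT.node 3019 (BT.node 3018 (BT.leaf cJ3018) (BT.leaf cJ3019)) (BT.node 3020 (BT.leaf cJ3020) (BT.leaf cJ3021))) (BT.node 3023 (BT.node 3022 (BT.leaf cJ3022) (BT.leaf cJ3023)) (BT.leaf cJ3024))))))) (BT.node 3080 (BT.node 3052 (BT.node 3038 (BT.node 3031 (BT.node 3028 (BT.node 3026 (BT.node 3025 (BT.leaf cJ3025) (BT.leaf cJ3026)) (BT.node 3027 (BT.leaf cJ3027) (BT.leaf cJ3028))) (BT.node 3030 (BT.node 3029 (BT.leaf cJ3029) (BT.leaf cJ3030)) (BT.leaf cJ3031))) (BT.node 3035 (BT.node 3033 (BT.node 3032 (BT.leaf cJ3032) (BT.leaf cJ3033)) (BT.node 3034 (BT.leaf cJ3034) (BT.leaf cJ3035))) (BT.node 3037 (BT.node 3036 (BT.leaf cJ3036) (BT.leaf cJ3037)) (BT.leaf cJ3038)))) (BT.node 3045 (BT.node 3042 (BT.node 3040 (BT.node 3039 (BT.leaf cJ3039) (BT.leaf cJ3040)) (BT.node 3041 (BT.leaf cJ3041) (BT.leaf cJ3042))) (BT.node 3044 (BT.node 3043 (BT.leaf cJ3043) (BT.leaf cJ3044)) (BT.leaf cJ3045))) (BT.node 3049 (BT.node 3047 (BT.node 3046 (BT.leaf cJ3046) (BT.leaf cJ3047)) (BT.node 3048 (BT.leaf cJ3048) (BT.leaf cJ3049))) (BT.node 3051 (BT.node 3050 (BT.leaf cJ3050) (BT.leaf cJ3051)) (BT.leaf cJ3052))))) (BT.node 3066 (BT.node 3059 (BT.node 3056 (BT.node 3054 (BT.node 3053 (BT.leaf cJ3053) (BT.leaf cJ3054)) (BT.node 3055 (BT.leaf cJ3055) (BT.leaf cJ3056))) (BT.node 3058 (BT.node 3057 (BT.leaf cJ3057) (BT.leaf cJ3058)) (BT.leaf cJ3059))) (BT.node 3063 (BT.node 3061 (BT.node 3060 (BT.leaf cJ3060) (BT.leaf cJ3061)) (BT.node 3062 (BT.leaf cJ3062) (BT.leaf cJ3063))) (BT.node 3065 (BT.node 3064 (BT.leaf cJ3064) (BT.leaf cJ3065)) (BT.leaf cJ3066)))) (BT.node 3073 (BT.node 3070 (BT.node 3068 (BT.node 3067 (BT.leaf cJ3067) (BT.leaf cJ3068)) (BT.node 3069 (BT.leaf cJ3069) (BT.leaf cJ3070))) (BT.node 3072 (BT.node 3071 (BT.leaf cJ3071) (BT.leaf cJ3072)) (BT.leaf cJ3073))) (BT.node 3077 (BT.node 3075 (BT.node 3074 (BT.leaf cJ3074) (BT.leaf cJ3075)) (BT.node 3076 (BT.leaf cJ3076) (BT.leaf cJ3077))) (BT.node 3079 (BT.node 3078 (BT.leaf cJ3078) (BT.leaf cJ3079)) (BT.leaf cJ3080)))))) (BT.node 3108 (BT.node 3094 (BT.node 3087 (BT.node 3084 (BT.node 3082 (BT.node 3081 (BT.leaf cJ3081) (BT.leaf cJ3082)) (BT.node 3083 (BT.leaf cJ3083) (BT.leaf cJ3084))) (BT.node 3086 (BT.node 3085 (BT.leaf cJ3085) (BT.leaf cJ3086)) (BT.leaf cJ3087))) (BT.node 3091 (BT.node 3089 (BT.node 3088 (BT.leaf cJ3088) (BT.leaf cJ3089)) (BT.node 3090 (BT.leaf cJ3090) (BT.leaf cJ3091))) (BT.node 3093 (BT.node 3092 (BT.leaf cJ3092) (BT.leaf cJ3093)) (BT.leaf cJ3094)))) (BT.node 3101 (BT.node 3098 (BT.node 3096 (BT.node 3095 (BT.leaf cJ3095) (BT.leaf cJ3096)) (BT.node 3097 (BT.leaf cJ3097) (BT.leaf cJ3098))) (BT.node 3100 (BT.node 3099 (BT.leaf cJ3099) (BT.leaf cJ3100)) (BT.leaf cJ3101))) (BT.node 3105 (BT.node 3103 (BT.node 3102 (BT.leaf cJ3102) (BT.leaf cJ3103)) (BT.node 3104 (BT.leaf cJ3104) (BT.leaf cJ3105))) (BT.node 3107 (BT.node 3106 (BT.leaf cJ3106) (BT.leaf cJ3107)) (BT.leaf cJ3108))))) (BT.node 3122 (BT.node 3115 (BT.node 3112 (BT.node 3110 (BT.node 3109 (BT.leaf cJ3109) (BT.leaf cJ3110)) (BT.node 3111 (BT.leaf cJ3111) (BT.leaf cJ3112))) (BT.node 3114 (BT.node 3113 (BT.leaf cJ3113) (BT.leaf cJ3114)) (BT.leaf cJ3115))) (BT.node 3119 (BT.node 3117 (BT.node 3116 (BT.leaf cJ3116) (BT.leaf cJ3117)) (BT.node 3118 (BT.leaf cJ3118) (BT.leaf cJ3119))) (BT.node 3121 (BT.node 3120 (BT.leaf cJ3120) (BT.leaf cJ3121)) (BT.leaf cJ3122)))) (BT.node 3129 (BT.node 3126 (BT.node 3124 (BT.node 3123 (BT.leaf cJ3123) (BT.leaf cJ3124)) (BT.node 3125 (BT.leaf cJ3125) (BT.leaf cJ3126))) (BT.node 3128 (BT.node 3127 (BT.leaf cJ3127) (BT.leaf cJ3128)) (BT.leaf cJ3129))) (BT.node 3133 (BT.node 3131 (BT.node 3130 (BT.leaf cJ3130) (BT.leaf cJ3131)) (BT.node 3132 (BT.leaf cJ3132) (BT.leaf cJ3133))) (BT.node 3135 (BT.node 3134 (BT.leaf cJ3134) (BT.leaf cJ3135)) (BT.leaf cJ3136))))))))) (BT.node 3360 (BT.node 3248 (BT.node 3192 (BT.node 3164 (BT.node 3150 (BT.node 3143 (BT.node 3140 (BT.node 3138 (BT.node 3137 (BT.leaf cJ3137) (BT.leaf cJ3138)) (BT.node 3139 (BT.leaf cJ3139) (BT.leaf cJ3140))) (BT.node 3142 (BT.node 3141 (BT.leaf cJ3141) (BT.leaf cJ3142)) (BT.leaf cJ3143))) (BT.node 3147 (BT.node 3145 (BT.node 3144 (BT.leaf cJ3144) (BT.leaf cJ3145)) (BT.node 3146 (BT.leaf cJ3146) (BT.leaf cJ3147))) (BT.node 3149 (BT.node 3148 (BT.leaf cJ3148) (BT.leaf cJ3149)) (BT.leaf cJ3150)))) (BT.node 3157 (BT.node 3154 (BT.node 3152 (BT.node 3151 (BT.leaf cJ3151) (BT.leaf cJ3152)) (BT.node 3153 (BT.leaf cJ3153) (BT.leaf cJ3154))) (BT.node 3156 (BT.node 3155 (BT.leaf cJ3155) (BT.leaf cJ3156)) (BT.leaf cJ3157))) (BT.node 3161 (BT.node 3159 (BT.node 3158 (BT.leaf cJ3158) (BT.leaf cJ3159)) (BT.node 3160 (BT.leaf cJ3160) (BT.leaf cJ3161))) (BT.node 3163 (BT.node 3162 (BT.leaf cJ3162) (BT.leaf cJ3163)) (BT.leaf cJ3164))))) (BT.node 3178 (BT.node 3171 (BT.node 3168 (BT.node 3166 (BT.node 3165 (BT.leaf cJ3165) (BT.leaf cJ3166)) (BT.node 3167 (BT.leaf cJ3167) (BT.leaf cJ3168))) (BT.node 3170 (BT.node 3169 (BT.leaf cJ3169) (BT.leaf cJ3170)) (BT.leaf cJ3171))) (BT.node 3175 (BT.node 3173 (BT.node 3172 (BT.leaf cJ3172) (BT.leaf cJ3173)) (BT.node 3174 (BT.leaf cJ3174) (BT.leaf cJ3175))) (BT.node 3177 (BT.node 3176 (BT.leaf cJ3176) (BT.leaf cJ3177)) (BT.leaf cJ3178)))) (BT.node 3185 (BT.node 3182 (BT.node 3180 (BT.node 3179 (BT.leaf cJ3179) (BT.leaf cJ3180)) (BT.node 3181 (BT.leaf cJ3181) (BT.leaf cJ3182))) (BT.node 3184 (BT.node 3183 (BT.leaf cJ3183) (BT.leaf cJ3184)) (BT.leaf cJ3185))) (BT.node 3189 (BT.node 3187 (BT.node 3186 (BT.leaf cJ3186) (BT.leaf cJ3187)) (BT.node 3188 (BT.leaf cJ3188) (BT.leaf cJ3189))) (BT.node 3191 (BT.node 3190 (BT.leaf cJ3190) (BT.leaf cJ3191)) (BT.leaf cJ3192)))))) (BT.node 3220 (BT.node 3206 (BT.node 3199 (BT.node 3196 (BT.node 3194 (BT.node 3193 (BT.leaf cJ3193) (BT.leaf cJ3194)) (BT.node 3195 (BT.leaf cJ3195) (BT.leaf cJ3196))) (BT.node 3198 (BT.node 3197 (BT.leaf cJ3197) (BT.leaf cJ3198)) (BT.leaf cJ3199))) (BT.node 3203 (BT.node 3201 (BT.node 3200 (BT.leaf cJ3200) (BT.leaf cJ3201)) (BT.node 3202 (BT.leaf cJ3202) (BT.leaf cJ3203))) (BT.node 3205 (BT.node 3204 (BT.leaf cJ3204) (BT.leaf cJ3205)) (BT.leaf cJ3206)))) (BT.node 3213 (BT.node 3210 (BT.node 3208 (BT.node 3207 (BT.leaf cJ3207) (BT.leaf cJ3208)) (BT.node 3209 (BT.leaf cJ3209) (BT.leaf cJ3210))) (BT.node 3212 (BT.node 3211 (BT.leaf cJ3211) (BT.leaf cJ3212)) (BT.leaf cJ3213))) (BT.node 3217 (BT.node 3215 (BT.node 3214 (BT.leaf cJ3214) (BT.leaf cJ3215)) (BT.node 3216 (BT.leaf cJ3216) (BT.leaf cJ3217))) (BT.node 3219 (BT.node 3218 (BT.leaf cJ3218) (BT.leaf cJ3219)) (BT.leaf cJ3220))))) (BT.node 3234 (BT.node 3227 (BT.node 3224 (BT.node 3222 (BT.node 3221 (BT.leaf cJ3221) (BT.leaf cJ3222)) (BT.node 3223 (BT.leaf cJ3223) (BT.leaf cJ3224))) (BT.node 3226 (BT.node 3225 (BT.leaf cJ3225) (BT.leaf cJ3226)) (BT.leaf cJ3227))) (BT.node 3231 (BT.node 3229 (BT.node 3228 (BT.leaf cJ3228) (BT.leaf cJ3229)) (BT.node 3230 (BT.leaf cJ3230) (BT.leaf cJ3231))) (BT.node 3233 (BT.node 3232 (BT.leaf cJ3232) (BT.leaf cJ3233)) (BT.leaf cJ3234)))) (BT.node 3241 (BT.node 3238 (BT.node 3236 (BT.node 3235 (BT.leaf cJ3235) (BT.leaf cJ3236)) (BT.node 3237 (BT.leaf cJ3237) (BT.leaf cJ3238))) (BT.node 3240 (BT.node 3239 (BT.leaf cJ3239) (BT.leaf cJ3240)) (BT.leaf cJ3241))) (BT.node 3245 (BT.node 3243 (BT.node 3242 (BT.leaf cJ3242) (BT.leaf cJ3243)) (BT.node 3244 (BT.leaf cJ3244) (BT.leaf cJ3245))) (BT.node 3247 (BT.node 3246 (BT.leaf cJ3246) (BT.leaf cJ3247)) (BT.leaf cJ3248))))))) (BT.node 3304 (BT.node 3276 (BT.node 3262 (BT.node 3255 (BT.node 3252 (BT.node 3250 (BT.node 3249 (BT.leaf cJ3249) (BT.leaf cJ3250)) (BT.node 3251 (BT.leaf cJ3251) (BT.leaf cJ3252))) (BT.node 3254 (BT.node 3253 (BT.leaf cJ3253) (BT.leaf cJ3254)) (BT.leaf cJ3255))) (BT.node 3259 (BT.node 3257 (BT.node 3256 (BT.leaf cJ3256) (BT.leaf cJ3257)) (BT.node 3258 (BT.leaf cJ3258) (BT.leaf cJ3259))) (BT.node 3261 (BT.node 3260 (BT.leaf cJ3260) (BT.leaf cJ3261)) (BT.leaf cJ3262)))) (BT.node 3269 (BT.node 3266 (BT.node 3264 (BT.node 3263 (BT.leaf cJ3263) (BT.leaf cJ3264)) (BT.node 3265 (BT.leaf cJ3265) (BT.leaf cJ3266))) (BT.node 3268 (BT.node 3267 (BT.leaf cJ3267) (BT.leaf cJ3268)) (BT.leaf cJ3269))) (BT.node 3273 (BT.node 3271 (BT.node 3270 (BT.leaf cJ3270) (BT.leaf cJ3271)) (BT.node 3272 (BT.leaf cJ3272) (BT.leaf cJ3273))) (BT.node 3275 (BT.node 3274 (BT.leaf cJ3274) (BT.leaf cJ3275)) (BT.leaf cJ3276))))) (BT.node 3290 (BT.node 3283 (BT.node 3280 (BT.node 3278 (BT.node 3277 (BT.leaf cJ3277) (BT.leaf cJ3278)) (BT.node 3279 (BT.leaf cJ3279) (BT.leaf cJ3280))) (BT.node 3282 (BT.node 3281 (BT.leaf cJ3281) (BT.leaf cJ3282)) (BT.leaf cJ3283))) (BT.node 3287 (BT.node 3285 (BT.node 3284 (BT.leaf cJ3284) (BT.leaf cJ3285)) (BT.node 3286 (BT.leaf cJ3286) (BT.leaf cJ3287))) (BT.node 3289 (BT.node 3288 (BT.leaf cJ3288) (BT.leaf cJ3289)) (BT.leaf cJ3290)))) (BT.node 3297 (BT.node 3294 (BT.node 3292 (BT.node 3291 (BT.leaf cJ3291) (BT.leaf cJ3292)) (BT.node 3293 (BT.leaf cJ3293) (BT.leaf cJ3294))) (BT.node 3296 (BT.node 3295 (BT.leaf cJ3295) (BT.leaf cJ3296)) (BT.leaf cJ3297))) (BT.node 3301 (BT.node 3299 (BT.node 3298 (BT.leaf cJ3298) (BT.leaf cJ3299)) (BT.node 3300 (BT.leaf cJ3300) (BT.leaf cJ3301))) (BT.node 3303 (BT.node 3302 (BT.leaf cJ3302) (BT.leaf cJ3303)) (BT.leaf cJ3304)))))) (BT.node 3332 (BT.node 3318 (BT.node 3311 (BT.node 3308 (BT.node 3306 (BT.node 3305 (BT.leaf cJ3305) (BT.leaf cJ3306)) (BT.node 3307 (BT.leaf cJ3307) (BT.leaf cJ3308))) (BT.node 3310 (BT.node 3309 (BT.leaf cJ3309) (BT.leaf cJ3310)) (BT.leaf cJ3311))) (BT.node 3315 (BT.node 3313 (BT.node 3312 (BT.leaf cJ3312) (BT.leaf cJ3313)) (BT.node 3314 (BT.leaf cJ3314) (BT.leaf cJ3315))) (BT.node 3317 (BT.node 3316 (BT.leaf cJ3316) (BT.leaf cJ3317)) (BT.leaf cJ3318)))) (BT.node 3325 (BT.node 3322 (BT.node 3320 (BT.node 3319 (BT.leaf cJ3319) (BT.leaf cJ3320)) (BT.node 3321 (BT.leaf cJ3321) (BT.leaf cJ3322))) (BT.node 3324 (BT.node 3323 (BT.leaf cJ3323) (BT.leaf cJ3324)) (BT.leaf cJ3325))) (BT.node 3329 (BT.node 3327 (BT.node 3326 (BT.leaf cJ3326) (BT.leaf cJ3327)) (BT.node 3328 (BT.leaf cJ3328) (BT.leaf cJ3329))) (BT.node 3331 (BT.node 3330 (BT.leaf cJ3330) (BT.leaf cJ3331)) (BT.leaf cJ3332))))) (BT.node 3346 (BT.node 3339 (BT.node 3336 (BT.node 3334 (BT.node 3333 (BT.leaf cJ3333) (BT.leaf cJ3334)) (BT.node 3335 (BT.leaf cJ3335) (BT.leaf cJ3336))) (BT.node 3338 (BT.node 3337 (BT.leaf cJ3337) (BT.leaf cJ3338)) (BT.leaf cJ3339))) (BT.node 3343 (BT.node 3341 (BT.node 3340 (BT.leaf cJ3340) (BT.leaf cJ3341)) (BT.node 3342 (BT.leaf cJ3342) (BT.leaf cJ3343))) (BT.node 3345 (BT.node 3344 (BT.leaf cJ3344) (BT.leaf cJ3345)) (BT.leaf cJ3346)))) (BT.node 3353 (BT.node 3350 (BT.node 3348 (BT.node 3347 (BT.leaf cJ3347) (BT.leaf cJ3348)) (BT.node 3349 (BT.leaf cJ3349) (BT.leaf cJ3350))) (BT.node 3352 (BT.node 3351 (BT.leaf cJ3351) (BT.leaf cJ3352)) (BT.leaf cJ3353))) (BT.node 3357 (BT.node 3355 (BT.node 3354 (BT.leaf cJ3354) (BT.leaf cJ3355)) (BT.node 3356 (BT.leaf cJ3356) (BT.leaf cJ3357))) (BT.node 3359 (BT.node 3358 (BT.leaf cJ3358) (BT.leaf cJ3359)) (BT.leaf cJ3360)))))))) (BT.node 3472 (BT.node 3416 (BT.node 3388 (BT.node 3374 (BT.node 3367 (BT.node 3364 (BT.node 3362 (BT.node 3361 (BT.leaf cJ3361) (BT.leaf cJ3362)) (BT.node 3363 (BT.leaf cJ3363) (BT.leaf cJ3364))) (BT.node 3366 (BT.node 3365 (BT.leaf cJ3365) (BT.leaf cJ3366)) (BT.leaf cJ3367))) (BT.node 3371 (BT.node 3369 (BT.node 3368 (BT.leaf cJ3368) (BT.leaf cJ3369)) (BT.node 3370 (BT.leaf cJ3370) (BT.leaf cJ3371))) (BT.node 3373 (BT.node 3372 (BT.leaf cJ3372) (BT.leaf cJ3373)) (BT.leaf cJ3374)))) (BT.node 3381 (BT.node 3378 (BT.node 3376 (BT.node 3375 (BT.leaf cJ3375) (BT.leaf cJ3376)) (BT.node 3377 (BT.leaf cJ3377) (BT.leaf cJ3378))) (BT.node 3380 (BT.node 3379 (BT.leaf cJ3379) (BT.leaf cJ3380)) (BT.leaf cJ3381))) (BT.node 3385 (BT.node 3383 (BT.node 3382 (BT.leaf cJ3382) (BT.leaf cJ3383)) (BT.node 3384 (BT.leaf cJ3384) (BT.leaf cJ3385))) (BT.node 3387 (BT.node 3386 (BT.leaf cJ3386) (BT.leaf cJ3387)) (BT.leaf cJ3388))))) (BT.node 3402 (BT.node 3395 (BT.node 3392 (BT.node 3390 (BT.node 3389 (BT.leaf cJ3389) (BT.leaf cJ3390)) (BT.node 3391 (BT.leaf cJ3391) (BT.leaf cJ3392))) (BT.node 3394 (BT.node 3393 (BT.leaf cJ3393) (BT.leaf cJ3394)) (BT.leaf cJ3395))) (BT.node 3399 (BT.node 3397 (BT.node 3396 (BT.leaf cJ3396) (BT.leaf cJ3397)) (BT.node 3398 (BT.leaf cJ3398) (BT.leaf cJ3399))) (BT.node 3401 (BT.node 3400 (BT.leaf cJ3400) (BT.leaf cJ3401)) (BT.leaf cJ3402)))) (BT.node 3409 (BT.node 3406 (BT.node 3404 (BT.node 3403 (BT.leaf cJ3403) (BT.leaf cJ3404)) (BT.node 3405 (BT.leaf cJ3405) (BT.leaf cJ3406))) (BT.node 3408 (BT.node 3407 (BT.leaf cJ3407) (BT.leaf cJ3408)) (BT.leaf cJ3409))) (BT.node 3413 (BT.node 3411 (BT.node 3410 (BT.leaf cJ3410) (BT.leaf cJ3411)) (BT.node 3412 (BT.leaf cJ3412) (BT.leaf cJ3413))) (BT.node 3415 (BT.node 3414 (BT.leaf cJ3414) (BT.leaf cJ3415)) (BT.leaf cJ3416)))))) (BT.node 3444 (BT.node 3430 (BT.node 3423 (BT.node 3420 (BT.node 3418 (BT.node 3417 (BT.leaf cJ3417) (BT.leaf cJ3418)) (BT.node 3419 (BT.leaf cJ3419) (BT.leaf cJ3420))) (BT.node 3422 (BT.node 3421 (BT.leaf cJ3421) (BT.leaf cJ3422)) (BT.leaf cJ3423))) (BT.node 3427 (BT.node 3425 (BT.node 3424 (BT.leaf cJ3424) (BT.leaf cJ3425)) (BT.node 3426 (BT.leaf cJ3426) (BT.leaf cJ3427))) (BT.node 3429 (BT.node 3428 (BT.leaf cJ3428) (BT.leaf cJ3429)) (BT.leaf cJ3430)))) (BT.node 3437 (BT.node 3434 (BT.node 3432 (BT.node 3431 (BT.leaf cJ3431) (BT.leaf cJ3432)) (BT.node 3433 (BT.leaf cJ3433) (BT.leaf cJ3434))) (BT.node 3436 (BT.node 3435 (BT.leaf cJ3435) (BT.leaf cJ3436)) (BT.leaf cJ3437))) (BT.node 3441 (BT.node 3439 (BT.node 3438 (BT.leaf cJ3438) (BT.leaf cJ3439)) (BT.node 3440 (BT.leaf cJ3440) (BT.leaf cJ3441))) (BT.node 3443 (BT.node 3442 (BT.leaf cJ3442) (BT.leaf cJ3443)) (BT.leaf cJ3444))))) (BT.node 3458 (BT.node 3451 (BT.node 3448 (BT.node 3446 (BT.node 3445 (BT.leaf cJ3445) (BT.leaf cJ3446)) (BT.node 3447 (BT.leaf cJ3447) (BT.leaf cJ3448))) (BT.node 3450 (BT.node 3449 (BT.leaf cJ3449) (BT.leaf cJ3450)) (BT.leaf cJ3451))) (BT.node 3455 (BT.node 3453 (BT.node 3452 (BT.leaf cJ3452) (BT.leaf cJ3453)) (BT.node 3454 (BT.leaf cJ3454) (BT.leaf cJ3455))) (BT.node 3457 (BT.node 3456 (BT.leaf cJ3456) (BT.leaf cJ3457)) (BT.leaf cJ3458)))) (BT.node 3465 (BT.node 3462 (BT.node 3460 (BT.node 3459 (BT.leaf cJ3459) (BT.leaf cJ3460)) (BT.node 3461 (BT.leaf cJ3461) (BT.leaf cJ3462))) (BT.node 3464 (BT.node 3463 (BT.leaf cJ3463) (BT.leaf cJ3464)) (BT.leaf cJ3465))) (BT.node 3469 (BT.node 3467 (BT.node 3466 (BT.leaf cJ3466) (BT.leaf cJ3467)) (BT.node 3468 (BT.leaf cJ3468) (BT.leaf cJ3469))) (BT.node 3471 (BT.node 3470 (BT.leaf cJ3470) (BT.leaf cJ3471)) (BT.leaf cJ3472))))))) (BT.node 3528 (BT.node 3500 (BT.node 3486 (BT.node 3479 (BT.node 3476 (BT.node 3474 (BT.node 3473 (BT.leaf cJ3473) (BT.leaf cJ3474)) (BT.node 3475 (BT.leaf cJ3475) (BT.leaf cJ3476))) (BT.node 3478 (BT.node 3477 (BT.leaf cJ3477) (BT.leaf cJ3478)) (BT.leaf cJ3479))) (BT.node 3483 (BT.node 3481 (BT.node 3480 (BT.leaf cJ3480) (BT.leaf cJ3481)) (BT.node 3482 (BT.leaf cJ3482) (BT.leaf cJ3483))) (BT.node 3485 (BT.node 3484 (BT.leaf cJ3484) (BT.leaf cJ3485)) (BT.leaf cJ3486)))) (BT.node 3493 (BT.node 3490 (BT.node 3488 (BT.node 3487 (BT.leaf cJ3487) (BT.leaf cJ3488)) (BT.node 3489 (BT.leaf cJ3489) (BT.leaf cJ3490))) (BT.node 3492 (BT.node 3491 (BT.leaf cJ3491) (BT.leaf cJ3492)) (BT.leaf cJ3493))) (BT.node 3497 (BT.node 3495 (BT.node 3494 (BT.leaf cJ3494) (BT.leaf cJ3495)) (BT.node 3496 (BT.leaf cJ3496) (BT.leaf cJ3497))) (BT.node 3499 (BT.node 3498 (BT.leaf cJ3498) (BT.leaf cJ3499)) (BT.leaf cJ3500))))) (BT.node 3514 (BT.node 3507 (BT.node 3504 (BT.node 3502 (BT.node 3501 (BT.leaf cJ3501) (BT.leaf cJ3502)) (BT.node 3503 (BT.leaf cJ3503) (BT.leaf cJ3504))) (BT.node 3506 (BT.node 3505 (BT.leaf cJ3505) (BT.leaf cJ3506)) (BT.leaf cJ3507))) (BT.node 3511 (BT.node 3509 (BT.node 3508 (BT.leaf cJ3508) (BT.leaf cJ3509)) (BT.node 3510 (BT.leaf cJ3510) (BT.leaf cJ3511))) (BT.node 3513 (BT.node 3512 (BT.leaf cJ3512) (BT.leaf cJ3513)) (BT.leaf cJ3514)))) (BT.node 3521 (BT.node 3518 (BT.node 3516 (BT.node 3515 (BT.leaf cJ3515) (BT.leaf cJ3516)) (BT.node 3517 (BT.leaf cJ3517) (BT.leaf cJ3518))) (BT.node 3520 (BT.node 3519 (BT.leaf cJ3519) (BT.leaf cJ3520)) (BT.leaf cJ3521))) (BT.node 3525 (BT.node 3523 (BT.node 3522 (BT.leaf cJ3522) (BT.leaf cJ3523)) (BT.node 3524 (BT.leaf cJ3524) (BT.leaf cJ3525))) (BT.node 3527 (BT.node 3526 (BT.leaf cJ3526) (BT.leaf cJ3527)) (BT.leaf cJ3528)))))) (BT.node 3556 (BT.node 3542 (BT.node 3535 (BT.node 3532 (BT.node 3530 (BT.node 3529 (BT.leaf cJ3529) (BT.leaf cJ3530)) (BT.node 3531 (BT.leaf cJ3531) (BT.leaf cJ3532))) (BT.node 3534 (BT.node 3533 (BT.leaf cJ3533) (BT.leaf cJ3534)) (BT.leaf cJ3535))) (BT.node 3539 (BT.node 3537 (BT.node 3536 (BT.leaf cJ3536) (BT.leaf cJ3537)) (BT.node 3538 (BT.leaf cJ3538) (BT.leaf cJ3539))) (BT.node 3541 (BT.node 3540 (BT.leaf cJ3540) (BT.leaf cJ3541)) (BT.leaf cJ3542)))) (BT.node 3549 (BT.node 3546 (BT.node 3544 (BT.node 3543 (BT.leaf cJ3543) (BT.leaf cJ3544)) (BT.node 3545 (BT.leaf cJ3545) (BT.leaf cJ3546))) (BT.node 3548 (BT.node 3547 (BT.leaf cJ3547) (BT.leaf cJ3548)) (BT.leaf cJ3549))) (BT.node 3553 (BT.node 3551 (BT.node 3550 (BT.leaf cJ3550) (BT.leaf cJ3551)) (BT.node 3552 (BT.leaf cJ3552) (BT.leaf cJ3553))) (BT.node 3555 (BT.node 3554 (BT.leaf cJ3554) (BT.leaf cJ3555)) (BT.leaf cJ3556))))) (BT.node 3570 (BT.node 3563 (BT.node 3560 (BT.node 3558 (BT.node 3557 (BT.leaf cJ3557) (BT.leaf cJ3558)) (BT.node 3559 (BT.leaf cJ3559) (BT.leaf cJ3560))) (BT.node 3562 (BT.node 3561 (BT.leaf cJ3561) (BT.leaf cJ3562)) (BT.leaf cJ3563))) (BT.node 3567 (BT.node 3565 (BT.node 3564 (BT.leaf cJ3564) (BT.leaf cJ3565)) (BT.node 3566 (BT.leaf cJ3566) (BT.leaf cJ3567))) (BT.node 3569 (BT.node 3568 (BT.leaf cJ3568) (BT.leaf cJ3569)) (BT.leaf cJ3570)))) (BT.node 3577 (BT.node 3574 (BT.node 3572 (BT.node 3571 (BT.leaf cJ3571) (BT.leaf cJ3572)) (BT.node 3573 (BT.leaf cJ3573) (BT.leaf cJ3574))) (BT.node 3576 (BT.node 3575 (BT.leaf cJ3575) (BT.leaf cJ3576)) (BT.leaf cJ3577))) (BT.node 3581 (BT.node 3579 (BT.node 3578 (BT.leaf cJ3578) (BT.leaf cJ3579)) (BT.node 3580 (BT.leaf cJ3580) (BT.leaf cJ3581))) (BT.node 3583 (BT.node 3582 (BT.leaf cJ3582) (BT.leaf cJ3583)) (BT.leaf cJ3584))))))))))))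
/-- parent chunks -/
def parCT : BT ℕ := (BT.node 119 (BT.node 59 (BT.node 29 (BT.node 14 (BT.node 7 (BT.node 3 (BT.node 1 (BT.node 0 (BT.leaf cP0) (BT.leaf cP1)) (BT.node 2 (BT.leaf cP2) (BT.leaf cP3))) (BT.node 5 (BT.node 4 (BT.leaf cP4) (BT.leaf cP5)) (BT.node 6 (BT.leaf cP6) (BT.leaf cP7)))) (BT.node 11 (BT.node 9 (BT.node 8 (BT.leaf cP8) (BT.leaf cP9)) (BT.node 10 (BT.leaf cP10) (BT.leaf cP11))) (BT.node 13 (BT.node 12 (BT.leaf cP12) (BT.leaf cP13)) (BT.leaf cP14)))) (BT.node 22 (BT.node 18 (BT.node 16 (BT.node 15 (BT.leaf cP15) (BT.leaf cP16)) (BT.node 17 (BT.leaf cP17) (BT.leaf cP18))) (BT.node 20 (BT.node 19 (BT.leaf cP19) (BT.leaf cP20)) (BT.node 21 (BT.leaf cP21) (BT.leaf cP22)))) (BT.node 26 (BT.node 24 (BT.node 23 (BT.leaf cP23) (BT.leaf cP24)) (BT.node 25 (BT.leaf cP25) (BT.leaf cP26))) (BT.node 28 (BT.node 27 (BT.leaf cP27)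 (BT.leaf cP28)) (BT.leaf cP29))))) (BT.node 44 (BT.node 37 (BT.node 33 (BT.node 31 (BT.node 30 (BT.leaf cP30) (BT.leaf cP31)) (BT.node 32 (BT.leaf cP32) (BT.leaf cP33))) (BT.node 35 (BT.node 34 (BT.leaf cP34) (BT.leaf cP35)) (BT.node 36 (BT.leaf cP36) (BT.leaf cP37)))) (BT.node 41 (BT.node 39 (BT.node 38 (BT.leaf cP38) (BT.leaf cP39)) (BT.node 40 (BT.leaf cP40) (BT.leaf cP41))) (BT.node 43 (BT.node 42 (BT.leaf cP42) (BT.leaf cP43)) (BT.leaf cP44)))) (BT.node 52 (BT.node 48 (BT.node 46 (BT.node 45 (BT.leaf cP45) (BT.leaf cP46)) (BT.node 47 (BT.leaf cP47) (BT.leaf cP48))) (BT.node 50 (BT.node 49 (BT.leaf cP49) (BT.leaf cP50)) (BT.node 51 (BT.leaf cP51) (BT.leaf cP52)))) (BT.node 56 (BT.node 54 (BT.node 53 (BT.leaf cP53) (BT.leaf cP54)) (BT.node 55 (BT.leaf cP55) (BT.leaf cP56))) (BT.node 58 (BT.node 57 (BT.leaf cP57) (BT.leaf cP58)) (BT.leaf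 cP59)))))) (BT.node 89 (BT.node 74 (BT.node 67 (BT.node 63 (BT.node 61 (BT.node 60 (BT.leaf cP60) (BT.leaf cP61)) (BT.node 62 (BT.leaf cP62) (BT.leaf cP63))) (BT.node 65 (BT.node 64 (BT.leaf cP64) (BT.leaf cP65)) (BT.node 66 (BT.leaf cP66) (BT.leaf cP67)))) (BT.node 71 (BT.node 69 (BT.node 68 (BT.leaf cP68) (BT.leaf cP69)) (BT.node 70 (BT.leaf cP70) (BT.leaf cP71))) (BT.node 73 (BT.node 72 (BT.leaf cP72) (BT.leaf cP73)) (BT.leaf cP74)))) (BT.node 82 (BT.node 78 (BT.node 76 (BT.node 75 (BT.leaf cP75) (BT.leaf cP76)) (BT.node 77 (BT.leaf cP77) (BT.leaf cP78))) (BT.node 80 (BT.node 79 (BT.leaf cP79) (BT.leaf cP80)) (BT.node 81 (BT.leaf cP81) (BT.leaf cP82)))) (BT.node 86 (BT.node 84 (BT.node 83 (BT.leaf cP83) (BT.leaf cP84)) (BT.node 85 (BT.leaf cP85) (BT.leaf cP86))) (BT.node 88 (BT.node 87 (BT.leaf cP87) (BT.leaf cP88)) (BT.leaf cP89)))))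 (BT.node 104 (BT.node 97 (BT.node 93 (BT.node 91 (BT.node 90 (BT.leaf cP90) (BT.leaf cP91)) (BT.node 92 (BT.leaf cP92) (BT.leaf cP93))) (BT.node 95 (BT.node 94 (BT.leaf cP94) (BT.leaf cP95)) (BT.node 96 (BT.leaf cP96) (BT.leaf cP97)))) (BT.node 101 (BT.node 99 (BT.node 98 (BT.leaf cP98) (BT.leaf cP99)) (BT.node 100 (BT.leaf cP100) (BT.leaf cP101))) (BT.node 103 (BT.node 102 (BT.leaf cP102) (BT.leaf cP103)) (BT.leaf cP104)))) (BT.node 112 (BT.node 108 (BT.node 106 (BT.node 105 (BT.leaf cP105) (BT.leaf cP106)) (BT.node 107 (BT.leaf cP107) (BT.leaf cP108))) (BT.node 110 (BT.node 109 (BT.leaf cP109) (BT.leaf cP110)) (BT.node 111 (BT.leaf cP111) (BT.leaf cP112)))) (BT.node 116 (BT.node 114 (BT.node 113 (BT.leaf cP113) (BT.leaf cP114)) (BT.node 115 (BT.leaf cP115) (BT.leaf cP116))) (BT.node 118 (BT.node 117 (BT.leaf cP117) (BT.leaf cP118))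 (BT.leaf cP119))))))) (BT.node 179 (BT.node 149 (BT.node 134 (BT.node 127 (BT.node 123 (BT.node 121 (BT.node 120 (BT.leaf cP120) (BT.leaf cP121)) (BT.node 122 (BT.leaf cP122) (BT.leaf cP123))) (BT.node 125 (BT.node 124 (BT.leaf cP124) (BT.leaf cP125)) (BT.node 126 (BT.leaf cP126) (BT.leaf cP127)))) (BT.node 131 (BT.node 129 (BT.node 128 (BT.leaf cP128) (BT.leaf cP129)) (BT.node 130 (BT.leaf cP130) (BT.leaf cP131))) (BT.node 133 (BT.node 132 (BT.leaf cP132) (BT.leaf cP133)) (BT.leaf cP134)))) (BT.node 142 (BT.node 138 (BT.node 136 (BT.node 135 (BT.leaf cP135) (BT.leaf cP136)) (BT.node 137 (BT.leaf cP137) (BT.leaf cP138))) (BT.node 140 (BT.node 139 (BT.leaf cP139) (BT.leaf cP140)) (BT.node 141 (BT.leaf cP141) (BT.leaf cP142)))) (BT.node 146 (BT.node 144 (BT.node 143 (BT.leaf cP143) (BT.leaf cP144)) (BT.node 145 (BT.leaf cP145) (BT.leaf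 cP146))) (BT.node 148 (BT.node 147 (BT.leaf cP147) (BT.leaf cP148)) (BT.leaf cP149))))) (BT.node 164 (BT.node 157 (BT.node 153 (BT.node 151 (BT.node 150 (BT.leaf cP150) (BT.leaf cP151)) (BT.node 152 (BT.leaf cP152) (BT.leaf cP153))) (BT.node 155 (BT.node 154 (BT.leaf cP154) (BT.leaf cP155)) (BT.node 156 (BT.leaf cP156) (BT.leaf cP157)))) (BT.node 161 (BT.node 159 (BT.node 158 (BT.leaf cP158) (BT.leaf cP159)) (BT.node 160 (BT.leaf cP160) (BT.leaf cP161))) (BT.node 163 (BT.node 162 (BT.leaf cP162) (BT.leaf cP163)) (BT.leaf cP164)))) (BT.node 172 (BT.node 168 (BT.node 166 (BT.node 165 (BT.leaf cP165) (BT.leaf cP166)) (BT.node 167 (BT.leaf cP167) (BT.leaf cP168))) (BT.node 170 (BT.node 169 (BT.leaf cP169) (BT.leaf cP170)) (BT.node 171 (BT.leaf cP171) (BT.leaf cP172)))) (BT.node 176 (BT.node 174 (BT.node 173 (BT.leaf cP173) (BT.leaf cP174))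 (BT.node 175 (BT.leaf cP175) (BT.leaf cP176))) (BT.node 178 (BT.node 177 (BT.leaf cP177) (BT.leaf cP178)) (BT.leaf cP179)))))) (BT.node 209 (BT.node 194 (BT.node 187 (BT.node 183 (BT.node 181 (BT.node 180 (BT.leaf cP180) (BT.leaf cP181)) (BT.node 182 (BT.leaf cP182) (BT.leaf cP183))) (BT.node 185 (BT.node 184 (BT.leaf cP184) (BT.leaf cP185)) (BT.node 186 (BT.leaf cP186) (BT.leaf cP187)))) (BT.node 191 (BT.node 189 (BT.node 188 (BT.leaf cP188) (BT.leaf cP189)) (BT.node 190 (BT.leaf cP190) (BT.leaf cP191))) (BT.node 193 (BT.node 192 (BT.leaf cP192) (BT.leaf cP193)) (BT.leaf cP194)))) (BT.node 202 (BT.node 198 (BT.node 196 (BT.node 195 (BT.leaf cP195) (BT.leaf cP196)) (BT.node 197 (BT.leaf cP197) (BT.leaf cP198))) (BT.node 200 (BT.node 199 (BT.leaf cP199) (BT.leaf cP200)) (BT.node 201 (BT.leaf cP201) (BT.leaf cP202)))) (BT.node 206 (BT.node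 204 (BT.node 203 (BT.leaf cP203) (BT.leaf cP204)) (BT.node 205 (BT.leaf cP205) (BT.leaf cP206))) (BT.node 208 (BT.node 207 (BT.leaf cP207) (BT.leaf cP208)) (BT.leaf cP209))))) (BT.node 224 (BT.node 217 (BT.node 213 (BT.node 211 (BT.node 210 (BT.leaf cP210) (BT.leaf cP211)) (BT.node 212 (BT.leaf cP212) (BT.leaf cP213))) (BT.node 215 (BT.node 214 (BT.leaf cP214) (BT.leaf cP215)) (BT.node 216 (BT.leaf cP216) (BT.leaf cP217)))) (BT.node 221 (BT.node 219 (BT.node 218 (BT.leaf cP218) (BT.leaf cP219)) (BT.node 220 (BT.leaf cP220) (BT.leaf cP221))) (BT.node 223 (BT.node 222 (BT.leaf cP222) (BT.leaf cP223)) (BT.leaf cP224)))) (BT.node 231 (BT.node 228 (BT.node 226 (BT.node 225 (BT.leaf cP225) (BT.leaf cP226)) (BT.node 227 (BT.leaf cP227) (BT.leaf cP228))) (BT.node 230 (BT.node 229 (BT.leaf cP229) (BT.leaf cP230)) (BT.leaf cP231))) (BT.node 235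 (BT.node 233 (BT.node 232 (BT.leaf cP232) (BT.leaf cP233)) (BT.node 234 (BT.leaf cP234) (BT.leaf cP235))) (BT.node 237 (BT.node 236 (BT.leaf cP236) (BT.leaf cP237)) (BT.leaf cP238))))))))
/-- the certificate -/
def data : Data where
  k := 14
  N := 122153
  W := 35
  MW := 34359738368
  B := 131072
  CH := 512
  NCH := 239
  colE := colET
  JW := 64
  MJ := 18446744073709551616
  A := 1048576
  colJ := colJT
  PW := 26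
  MP := 67108864
  parC := parCT
  inv := (BT.node 7 (BT.node 3 (BT.node 1 (BT.node 0 (BT.leaf 1) (BT.leaf 0)) (BT.node 2 (BT.leaf 3) (BT.leaf 2))) (BT.node 5 (BT.node 4 (BT.leaf 5) (BT.leaf 4)) (BT.node 6 (BT.leaf 7) (BT.leaf 6)))) (BT.node 11 (BT.node 9 (BT.node 8 (BT.leaf 9) (BT.leaf 8)) (BT.node 10 (BT.leaf 11) (BT.leaf 10))) (BT.node 13 (BT.node 12 (BT.leaf 13) (BT.leaf 12)) (BT.leaf 14))))
  rel := relT
  sub := subT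
  fuel := 64

end Cfsg.Agent.Lib.Helper4.J2M.EJData
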