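import Cfsg.Agent.Lib.Helper28.TC2Range
import Cfsg.Agent.Lib.Helper4.J2M.EJData
set_option autoImplicit false
set_option maxRecDepth 100000
set_option maxHeartbeats 0

namespace Cfsg.Agent.Lib.Helper4.J2M.EJM1
open Cfsg.Agent.Lib.Helper28.TC2Upper Cfsg.Agent.Lib.Helper28.TC2Lower Cfsg.Agent.Lib.Helper28.TC2Range Cfsg.Agent.Lib.Helper4.J2M.EJData

theorem fin5 : Data.finalRange data 29760 5952 = true := by decide +kernel
theorem fin6 : Data.finalRange data 35712 5952 = true := by decide +kernel
theorem fin7 : Data.finalRange data 41664 5952 = true := by decide +kernel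
theorem fin8 : Data.finalRange data 47616 5952 = true := by decide +kernel
theorem fin9 : Data.finalRange data 53568 5952 = true := by decide +kernel

end Cfsg.Agent.Lib.Helper4.J2M.EJM1
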