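import Cfsg.Agent.Lib.Helper28.TC2Range
import Cfsg.Agent.Lib.Helper4.J2M.EJData
set_option autoImplicit false
set_option maxRecDepth 100000
set_option maxHeartbeats 0

namespace Cfsg.Agent.Lib.Helper4.J2M.EJM4
open Cfsg.Agent.Lib.Helper28.TC2Upper Cfsg.Agent.Lib.Helper28.TC2Lower Cfsg.Agent.Lib.Helper28.TC2Range Cfsg.Agent.Lib.Helper4.J2M.EJData

theorem fin20 : Data.finalRange data 119040 3113 = true := by decide +kernel
theorem cnt0 : Data.countFrom data 0 40000 = 304 := by decide +kernel
theorem cnt1 : Data.countFrom data 40000 40000 = 11 := by decide +kernel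
theorem cnt2 : Data.countFrom data 80000 40000 = 0 := by decide +kernel
theorem cnt3 : Data.countFrom data 120000 2153 = 0 := by decide +kernel

end Cfsg.Agent.Lib.Helper4.J2M.EJM4
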