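import Cfsg.Agent.Lib.Helper4.J2M.EJData
set_option autoImplicit false
set_option maxRecDepth 100000
set_option maxHeartbeats 0

namespace Cfsg.Agent.Lib.Helper4.J2M.EJU2
open Cfsg.Agent.Lib.Helper28.TC2Upper Cfsg.Agent.Lib.Helper4.J2M.EJData

theorem chk10 : data.checkRange 9078 1622 = true := by decide +kernel
theorem chk11 : data.checkRange 10700 1275 = true := by decide +kernel
theorem chk12 : data.checkRange 11975 1466 = true := by decide +kernel
theorem chk13 : data.checkRange 13441 943 = true := by decide +kernel
theorem chk14 : data.checkRange 14384 1118 = true := by decide +kernel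

end Cfsg.Agent.Lib.Helper4.J2M.EJU2
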