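import Cfsg.Agent.Lib.Helper4.J2M.EJData
set_option autoImplicit false
set_option maxRecDepth 100000
set_option maxHeartbeats 0

namespace Cfsg.Agent.Lib.Helper4.J2M.EJU6
open Cfsg.Agent.Lib.Helper28.TC2Upper Cfsg.Agent.Lib.Helper4.J2M.EJData

theorem chk30 : data.checkRange 54062 2884 = true := by decide +kernel
theorem chk31 : data.checkRange 56946 3565 = true := by decide +kernel
theorem chk32 : data.checkRange 60511 2796 = true := by decide +kernel
theorem chk33 : data.checkRange 63307 3035 = true := by decide +kernel
theorem chk34 : data.checkRange 66342 2498 = true := by decide +kernel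

end Cfsg.Agent.Lib.Helper4.J2M.EJU6
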