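import Cfsg.Agent.Lib.Helper4.J2M.EJData
set_option autoImplicit false
set_option maxRecDepth 100000
set_option maxHeartbeats 0

namespace Cfsg.Agent.Lib.Helper4.J2M.EJU8
open Cfsg.Agent.Lib.Helper28.TC2Upper Cfsg.Agent.Lib.Helper4.J2M.EJData

theorem chk40 : data.checkRange 88558 4894 = true := by decide +kernel
theorem chk41 : data.checkRange 93452 4170 = true := by decide +kernel
theorem chk42 : data.checkRange 97622 3279 = true := by decide +kernel
theorem chk43 : data.checkRange 100901 3230 = true := by decide +kernel
theorem chk44 : data.checkRange 104131 3414 = true := by decide +kernel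

end Cfsg.Agent.Lib.Helper4.J2M.EJU8
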