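import Cfsg.Agent.Lib.Helper4.J2M.EJData
set_option autoImplicit false
set_option maxRecDepth 100000
set_option maxHeartbeats 0

namespace Cfsg.Agent.Lib.Helper4.J2M.EJU9
open Cfsg.Agent.Lib.Helper28.TC2Upper Cfsg.Agent.Lib.Helper4.J2M.EJData

theorem chk45 : data.checkRange 107545 3473 = true := by decide +kernel
theorem chk46 : data.checkRange 111018 4079 = true := by decide +kernel
theorem chk47 : data.checkRange 115097 5147 = true := by decide +kernel
theorem chk48 : data.checkRange 120244 1909 = true := by decide +kernel

end Cfsg.Agent.Lib.Helper4.J2M.EJU9
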