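import Cfsg.Agent.Lib.Helper28.TC2Glue
import Cfsg.Agent.Lib.Helper28.TC2Range
import Cfsg.Agent.Lib.Helper4.J2M.EJLink
import Cfsg.Agent.Lib.Helper4.J2M.EJM0
import Cfsg.Agent.Lib.Helper4.J2M.EJM1
import Cfsg.Agent.Lib.Helper4.J2M.EJM2
import Cfsg.Agent.Lib.Helper4.J2M.EJM3
import Cfsg.Agent.Lib.Helper4.J2M.EJM4
import Cfsg.Agent.Lib.Helper4.J2M.EJM5
import Cfsg.Agent.Lib.Helper4.J2M.EJU0
import Cfsg.Agent.Lib.Helper4.J2M.EJU1
import Cfsg.Agent.Lib.Helper4.J2M.EJU2
import Cfsg.Agent.Lib.Helper4.J2M.EJU3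
import Cfsg.Agent.Lib.Helper4.J2M.EJU4
import Cfsg.Agent.Lib.Helper4.J2M.EJU5
import Cfsg.Agent.Lib.Helper4.J2M.EJU6
import Cfsg.Agent.Lib.Helper4.J2M.EJU7
import Cfsg.Agent.Lib.Helper4.J2M.EJU8
import Cfsg.Agent.Lib.Helper4.J2M.EJU9

set_option autoImplicit false
set_option maxRecDepth 100000
open Cfsg

namespace Cfsg.Agent.Lib.Helper4.J2M.EJMain
open Cfsg.Agent.Lib.Helper28.TC2Upper Cfsg.Agent.Lib.Helper28.TC2Lower Cfsg.Agent.Lib.Helper28.TC2Glue Cfsg.Agent.Lib.Helper28.TC2Range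
open Cfsg.Agent.Lib.Helper4.J2M.EJData Cfsg.Agent.Lib.Helper4.J2M.EJTable Cfsg.Agent.Lib.Helper4.J2M.EJLink

theorem hchk : ∀ v, v < data.N → data.checkNode v = true := by
  intro v hv
  have hv' : v < 122153 := hv
  rcases Nat.lt_or_ge v 553 with h0 | h0
  · exact (data.checkRange_iff 0 553).mp Cfsg.Agent.Lib.Helper4.J2M.EJU0.chk0 v (by omega) (by omega)
  rcases Nat.lt_or_ge v 1327 with h1 | h1
  · exact (data.checkRange_iff 553 774).mp Cfsg.Agent.Lib.Helper4.J2M.EJU0.chk1 v (by omega) (by omega)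
  rcases Nat.lt_or_ge v 2207 with h2 | h2
  · exact (data.checkRange_iff 1327 880).mp Cfsg.Agent.Lib.Helper4.J2M.EJU0.chk2 v (by omega) (by omega)
  rcases Nat.lt_or_ge v 3600 with h3 | h3
  · exact (data.checkRange_iff 2207 1393).mp Cfsg.Agent.Lib.Helper4.J2M.EJU0.chk3 v (by omega) (by omega)
  rcases Nat.lt_or_ge v 4516 with h4 | h4
  · exact (data.checkRange_iff 3600 916).mp Cfsg.Agent.Lib.Helper4.J2M.EJU0.chk4 v (by omega) (by omega)
  rcases Nat.lt_or_ge v 5083 with h5 | h5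
  · exact (data.checkRange_iff 4516 567).mp Cfsg.Agent.Lib.Helper4.J2M.EJU1.chk5 v (by omega) (by omega)
  rcases Nat.lt_or_ge v 6008 with h6 | h6
  · exact (data.checkRange_iff 5083 925).mp Cfsg.Agent.Lib.Helper4.J2M.EJU1.chk6 v (by omega) (by omega)
  rcases Nat.lt_or_ge v 6788 with h7 | h7
  · exact (data.checkRange_iff 6008 780).mp Cfsg.Agent.Lib.Helper4.J2M.EJU1.chk7 v (by omega) (by omega)
  rcases Nat.lt_or_ge v 7954 with h8 | h8
  · exact (data.checkRange_iff 6788 1166).mp Cfsg.Agent.Lib.Helper4.J2M.EJU1.chk8 v (by omega) (by omega)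
  rcases Nat.lt_or_ge v 9078 with h9 | h9
  · exact (data.checkRange_iff 7954 1124).mp Cfsg.Agent.Lib.Helper4.J2M.EJU1.chk9 v (by omega) (by omega)
  rcases Nat.lt_or_ge v 10700 with h10 | h10
  · exact (data.checkRange_iff 9078 1622).mp Cfsg.Agent.Lib.Helper4.J2M.EJU2.chk10 v (by omega) (by omega)
  rcases Nat.lt_or_ge v 11975 with h11 | h11
  · exact (data.checkRange_iff 10700 1275).mp Cfsg.Agent.Lib.Helper4.J2M.EJU2.chk11 v (by omega) (by omega)
  rcases Nat.lt_or_ge v 13441 with h12 | h12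
  · exact (data.checkRange_iff 11975 1466).mp Cfsg.Agent.Lib.Helper4.J2M.EJU2.chk12 v (by omega) (by omega)
  rcases Nat.lt_or_ge v 14384 with h13 | h13
  · exact (data.checkRange_iff 13441 943).mp Cfsg.Agent.Lib.Helper4.J2M.EJU2.chk13 v (by omega) (by omega)
  rcases Nat.lt_or_ge v 15502 with h14 | h14
  · exact (data.checkRange_iff 14384 1118).mp Cfsg.Agent.Lib.Helper4.J2M.EJU2.chk14 v (by omega) (by omega)
  rcases Nat.lt_or_ge v 17072 with h15 | h15
  · exact (data.checkRange_iff 15502 1570).mp Cfsg.Agent.Lib.Helper4.J2M.EJU3.chk15 v (by omega) (by omega)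
  rcases Nat.lt_or_ge v 18186 with h16 | h16
  · exact (data.checkRange_iff 17072 1114).mp Cfsg.Agent.Lib.Helper4.J2M.EJU3.chk16 v (by omega) (by omega)
  rcases Nat.lt_or_ge v 21283 with h17 | h17
  · exact (data.checkRange_iff 18186 3097).mp Cfsg.Agent.Lib.Helper4.J2M.EJU3.chk17 v (by omega) (by omega)
  rcases Nat.lt_or_ge v 22953 with h18 | h18
  · exact (data.checkRange_iff 21283 1670).mp Cfsg.Agent.Lib.Helper4.J2M.EJU3.chk18 v (by omega) (by omega)
  rcases Nat.lt_or_ge v 24604 with h19 | h19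
  · exact (data.checkRange_iff 22953 1651).mp Cfsg.Agent.Lib.Helper4.J2M.EJU3.chk19 v (by omega) (by omega)
  rcases Nat.lt_or_ge v 25977 with h20 | h20
  · exact (data.checkRange_iff 24604 1373).mp Cfsg.Agent.Lib.Helper4.J2M.EJU4.chk20 v (by omega) (by omega)
  rcases Nat.lt_or_ge v 27755 with h21 | h21
  · exact (data.checkRange_iff 25977 1778).mp Cfsg.Agent.Lib.Helper4.J2M.EJU4.chk21 v (by omega) (by omega)
  rcases Nat.lt_or_ge v 30136 with h22 | h22
  · exact (data.checkRange_iff 27755 2381).mp Cfsg.Agent.Lib.Helper4.J2M.EJU4.chk22 v (by omega) (by omega)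
  rcases Nat.lt_or_ge v 32640 with h23 | h23
  · exact (data.checkRange_iff 30136 2504).mp Cfsg.Agent.Lib.Helper4.J2M.EJU4.chk23 v (by omega) (by omega)
  rcases Nat.lt_or_ge v 36368 with h24 | h24
  · exact (data.checkRange_iff 32640 3728).mp Cfsg.Agent.Lib.Helper4.J2M.EJU4.chk24 v (by omega) (by omega)
  rcases Nat.lt_or_ge v 40176 with h25 | h25
  · exact (data.checkRange_iff 36368 3808).mp Cfsg.Agent.Lib.Helper4.J2M.EJU5.chk25 v (by omega) (by omega)
  rcases Nat.lt_or_ge v 42606 with h26 | h26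
  · exact (data.checkRange_iff 40176 2430).mp Cfsg.Agent.Lib.Helper4.J2M.EJU5.chk26 v (by omega) (by omega)
  rcases Nat.lt_or_ge v 47611 with h27 | h27
  · exact (data.checkRange_iff 42606 5005).mp Cfsg.Agent.Lib.Helper4.J2M.EJU5.chk27 v (by omega) (by omega)
  rcases Nat.lt_or_ge v 51678 with h28 | h28
  · exact (data.checkRange_iff 47611 4067).mp Cfsg.Agent.Lib.Helper4.J2M.EJU5.chk28 v (by omega) (by omega)
  rcases Nat.lt_or_ge v 54062 with h29 | h29
  · exact (data.checkRange_iff 51678 2384).mp Cfsg.Agent.Lib.Helper4.J2M.EJU5.chk29 v (by omega) (by omega)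
  rcases Nat.lt_or_ge v 56946 with h30 | h30
  · exact (data.checkRange_iff 54062 2884).mp Cfsg.Agent.Lib.Helper4.J2M.EJU6.chk30 v (by omega) (by omega)
  rcases Nat.lt_or_ge v 60511 with h31 | h31
  · exact (data.checkRange_iff 56946 3565).mp Cfsg.Agent.Lib.Helper4.J2M.EJU6.chk31 v (by omega) (by omega)
  rcases Nat.lt_or_ge v 63307 with h32 | h32
  · exact (data.checkRange_iff 60511 2796).mp Cfsg.Agent.Lib.Helper4.J2M.EJU6.chk32 v (by omega) (by omega)
  rcases Nat.lt_or_ge v 66342 with h33 | h33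
  · exact (data.checkRange_iff 63307 3035).mp Cfsg.Agent.Lib.Helper4.J2M.EJU6.chk33 v (by omega) (by omega)
  rcases Nat.lt_or_ge v 68840 with h34 | h34
  · exact (data.checkRange_iff 66342 2498).mp Cfsg.Agent.Lib.Helper4.J2M.EJU6.chk34 v (by omega) (by omega)
  rcases Nat.lt_or_ge v 72465 with h35 | h35
  · exact (data.checkRange_iff 68840 3625).mp Cfsg.Agent.Lib.Helper4.J2M.EJU7.chk35 v (by omega) (by omega)
  rcases Nat.lt_or_ge v 76163 with h36 | h36
  · exact (data.checkRange_iff 72465 3698).mp Cfsg.Agent.Lib.Helper4.J2M.EJU7.chk36 v (by omega) (by omega)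
  rcases Nat.lt_or_ge v 79143 with h37 | h37
  · exact (data.checkRange_iff 76163 2980).mp Cfsg.Agent.Lib.Helper4.J2M.EJU7.chk37 v (by omega) (by omega)
  rcases Nat.lt_or_ge v 82997 with h38 | h38
  · exact (data.checkRange_iff 79143 3854).mp Cfsg.Agent.Lib.Helper4.J2M.EJU7.chk38 v (by omega) (by omega)
  rcases Nat.lt_or_ge v 88558 with h39 | h39
  · exact (data.checkRange_iff 82997 5561).mp Cfsg.Agent.Lib.Helper4.J2M.EJU7.chk39 v (by omega) (by omega)
  rcases Nat.lt_or_ge v 93452 with h40 | h40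
  · exact (data.checkRange_iff 88558 4894).mp Cfsg.Agent.Lib.Helper4.J2M.EJU8.chk40 v (by omega) (by omega)
  rcases Nat.lt_or_ge v 97622 with h41 | h41
  · exact (data.checkRange_iff 93452 4170).mp Cfsg.Agent.Lib.Helper4.J2M.EJU8.chk41 v (by omega) (by omega)
  rcases Nat.lt_or_ge v 100901 with h42 | h42
  · exact (data.checkRange_iff 97622 3279).mp Cfsg.Agent.Lib.Helper4.J2M.EJU8.chk42 v (by omega) (by omega)
  rcases Nat.lt_or_ge v 104131 with h43 | h43
  · exact (data.checkRange_iff 100901 3230).mp Cfsg.Agent.Lib.Helper4.J2M.EJU8.chk43 v (by omega) (by omega)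
  rcases Nat.lt_or_ge v 107545 with h44 | h44
  · exact (data.checkRange_iff 104131 3414).mp Cfsg.Agent.Lib.Helper4.J2M.EJU8.chk44 v (by omega) (by omega)
  rcases Nat.lt_or_ge v 111018 with h45 | h45
  · exact (data.checkRange_iff 107545 3473).mp Cfsg.Agent.Lib.Helper4.J2M.EJU9.chk45 v (by omega) (by omega)
  rcases Nat.lt_or_ge v 115097 with h46 | h46
  · exact (data.checkRange_iff 111018 4079).mp Cfsg.Agent.Lib.Helper4.J2M.EJU9.chk46 v (by omega) (by omega)
  rcases Nat.lt_or_ge v 120244 with h47 | h47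
  · exact (data.checkRange_iff 115097 5147).mp Cfsg.Agent.Lib.Helper4.J2M.EJU9.chk47 v (by omega) (by omega)
  exact (data.checkRange_iff 120244 1909).mp Cfsg.Agent.Lib.Helper4.J2M.EJU9.chk48 v (by omega) (by omega)

theorem hrows : ∀ v, v < data.N → Data.rowOK data v = true := by
  intro v hv
  have hv' : v < 122153 := hv
  rcases Nat.lt_or_ge v 5952 with h0 | h0
  · exact (Data.finalRange_iff data 0 5952).mp Cfsg.Agent.Lib.Helper4.J2M.EJM0.fin0 v (by omega) (by omega)
  rcases Nat.lt_or_ge v 11904 with h1 | h1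
  · exact (Data.finalRange_iff data 5952 5952).mp Cfsg.Agent.Lib.Helper4.J2M.EJM0.fin1 v (by omega) (by omega)
  rcases Nat.lt_or_ge v 17856 with h2 | h2
  · exact (Data.finalRange_iff data 11904 5952).mp Cfsg.Agent.Lib.Helper4.J2M.EJM0.fin2 v (by omega) (by omega)
  rcases Nat.lt_or_ge v 23808 with h3 | h3
  · exact (Data.finalRange_iff data 17856 5952).mp Cfsg.Agent.Lib.Helper4.J2M.EJM0.fin3 v (by omega) (by omega)
  rcases Nat.lt_or_ge v 29760 with h4 | h4
  · exact (Data.finalRange_iff data 23808 5952).mp Cfsg.Agent.Lib.Helper4.J2M.EJM0.fin4 v (by omega) (by omega)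
  rcases Nat.lt_or_ge v 35712 with h5 | h5
  · exact (Data.finalRange_iff data 29760 5952).mp Cfsg.Agent.Lib.Helper4.J2M.EJM1.fin5 v (by omega) (by omega)
  rcases Nat.lt_or_ge v 41664 with h6 | h6
  · exact (Data.finalRange_iff data 35712 5952).mp Cfsg.Agent.Lib.Helper4.J2M.EJM1.fin6 v (by omega) (by omega)
  rcases Nat.lt_or_ge v 47616 with h7 | h7
  · exact (Data.finalRange_iff data 41664 5952).mp Cfsg.Agent.Lib.Helper4.J2M.EJM1.fin7 v (by omega) (by omega)
  rcases Nat.lt_or_ge v 53568 with h8 | h8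
  · exact (Data.finalRange_iff data 47616 5952).mp Cfsg.Agent.Lib.Helper4.J2M.EJM1.fin8 v (by omega) (by omega)
  rcases Nat.lt_or_ge v 59520 with h9 | h9
  · exact (Data.finalRange_iff data 53568 5952).mp Cfsg.Agent.Lib.Helper4.J2M.EJM1.fin9 v (by omega) (by omega)
  rcases Nat.lt_or_ge v 65472 with h10 | h10
  · exact (Data.finalRange_iff data 59520 5952).mp Cfsg.Agent.Lib.Helper4.J2M.EJM2.fin10 v (by omega) (by omega)
  rcases Nat.lt_or_ge v 71424 with h11 | h11
  · exact (Data.finalRange_iff data 65472 5952).mp Cfsg.Agent.Lib.Helper4.J2M.EJM2.fin11 v (by omega) (by omega)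
  rcases Nat.lt_or_ge v 77376 with h12 | h12
  · exact (Data.finalRange_iff data 71424 5952).mp Cfsg.Agent.Lib.Helper4.J2M.EJM2.fin12 v (by omega) (by omega)
  rcases Nat.lt_or_ge v 83328 with h13 | h13
  · exact (Data.finalRange_iff data 77376 5952).mp Cfsg.Agent.Lib.Helper4.J2M.EJM2.fin13 v (by omega) (by omega)
  rcases Nat.lt_or_ge v 89280 with h14 | h14
  · exact (Data.finalRange_iff data 83328 5952).mp Cfsg.Agent.Lib.Helper4.J2M.EJM2.fin14 v (by omega) (by omega)
  rcases Nat.lt_or_ge v 95232 with h15 | h15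
  · exact (Data.finalRange_iff data 89280 5952).mp Cfsg.Agent.Lib.Helper4.J2M.EJM3.fin15 v (by omega) (by omega)
  rcases Nat.lt_or_ge v 101184 with h16 | h16
  · exact (Data.finalRange_iff data 95232 5952).mp Cfsg.Agent.Lib.Helper4.J2M.EJM3.fin16 v (by omega) (by omega)
  rcases Nat.lt_or_ge v 107136 with h17 | h17
  · exact (Data.finalRange_iff data 101184 5952).mp Cfsg.Agent.Lib.Helper4.J2M.EJM3.fin17 v (by omega) (by omega)
  rcases Nat.lt_or_ge v 113088 with h18 | h18
  · exact (Data.finalRange_iff data 107136 5952).mp Cfsg.Agent.Lib.Helper4.J2M.EJM3.fin18 v (by omega) (by omega)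
  rcases Nat.lt_or_ge v 119040 with h19 | h19
  · exact (Data.finalRange_iff data 113088 5952).mp Cfsg.Agent.Lib.Helper4.J2M.EJM3.fin19 v (by omega) (by omega)
  exact (Data.finalRange_iff data 119040 3113).mp Cfsg.Agent.Lib.Helper4.J2M.EJM4.fin20 v (by omega) (by omega)

theorem hfin : data.finalOK = true := Data.finalOK_of_rows data Cfsg.Agent.Lib.Helper4.J2M.EJM5.hlive0 (by decide) hrows

theorem pc0 : Data.countFrom data 0 40000 = 304 := Cfsg.Agent.Lib.Helper4.J2M.EJM4.cnt0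
theorem pc1 : Data.countFrom data 0 80000 = 315 := Data.countFrom_step data pc0 Cfsg.Agent.Lib.Helper4.J2M.EJM4.cnt1 (by norm_num) (by norm_num)
theorem pc2 : Data.countFrom data 0 120000 = 315 := Data.countFrom_step data pc1 Cfsg.Agent.Lib.Helper4.J2M.EJM4.cnt2 (by norm_num) (by norm_num)
theorem pc3 : Data.countFrom data 0 122153 = 315 := Data.countFrom_step data pc2 Cfsg.Agent.Lib.Helper4.J2M.EJM4.cnt3 (by norm_num) (by norm_num)

theorem hcount : data.countLive = 315 := by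
  rw [Data.countLive_eq]
  exact pc3

/-- the upper bound for the index -/
theorem mainU : Finite (PresentedGroup rels ⧸ (Subgroup.closure S).map (PresentedGroup.mk rels)) ∧
    Nat.card (PresentedGroup rels ⧸ (Subgroup.closure S).map (PresentedGroup.mk rels)) ≤ 315 := by
  have h := upper link hchk hfin
  rw [hcount] at h
  exact h

end Cfsg.Agent.Lib.Helper4.J2M.EJMain
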