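import Cfsg.Agent.Lib.Helper4.J2M.EJData
set_option autoImplicit false
set_option maxRecDepth 100000
set_option maxHeartbeats 0

namespace Cfsg.Agent.Lib.Helper4.J2M.EJU3
open Cfsg.Agent.Lib.Helper28.TC2Upper Cfsg.Agent.Lib.Helper4.J2M.EJData

theorem chk15 : data.checkRange 15502 1570 = true := by decide +kernel
theorem chk16 : data.checkRange 17072 1114 = true := by decide +kernel
theorem chk17 : data.checkRange 18186 3097 = true := by decide +kernel
theorem chk18 : data.checkRange 21283 1670 = true := by decide +kernel
theorem chk19 : data.checkRange 22953 1651 = true := by decide +kernel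

end Cfsg.Agent.Lib.Helper4.J2M.EJU3
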