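import Cfsg.Agent.Lib.Helper4.J2M.Tower
import Cfsg.Agent.Lib.Helper4.J2M.Rep200
import Cfsg.Agent.Lib.Helper4.J2M.Iso315Data
import Cfsg.Agent.Lib.Helper28.G24J2
import Cfsg.Agent.Lib.Helper28.TC2Simple
import Cfsg.Agent.Lib.Helper14.J2Link

set_option autoImplicit false
set_option maxRecDepth 100000

/-!
# The Schur multiplier of the Hall–Janko group has order 2

The covering presentation `E` of the presentation `P` of `J₂` on `a, …, e, t, v` has order at most `2 * 604800`
(`Tower.cardEJ`), the central element `d²` of `E` is not trivial (`Rep200.dd_ne_one`), and `P` maps onto the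
permutation group `PJ ≅ J₂` of order 604800.  Hence `P ≅ J₂` and the kernel of `E → P` has order 2.
-/

namespace Cfsg.Agent.Lib.Helper4.J2M.Main

open Cfsg Cfsg.Agent.Lib.Helper3.Cover Cfsg.Agent.Lib.Helper10.SW Cfsg.Agent.Lib.Helper14.J2
open Cfsg.Agent.Lib.Helper4.J2M Cfsg.Agent.Lib.Helper4.J2M.PackHom

/-- the covering data of the presentation of `J₂` -/
abbrev D : CoverData GJ := LvJ.cover

theorem finite_E : Finite D.E := Tower.cardEJ.1

theorem finite_P : Finite D.P := by
  haveI := finite_E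
  exact Finite.of_surjective D.proj D.proj_surjective

/-- the kernel of the projection is not trivial -/
theorem one_lt_card_ker : 1 < Nat.card D.proj.ker := by
  haveI := finite_E
  rw [Finite.one_lt_card_iff_nontrivial]
  have hz : PresentedGroup.mk D.relsE (FreeGroup.mk LvJ.r_d2) ∈ D.proj.ker := by
    rw [MonoidHom.mem_ker, D.proj_mk]
    exact PresentedGroup.one_of_mem ⟨LvJ.r_d2, by decide, rfl⟩
  exact ⟨⟨⟨_, hz⟩, 1, fun h => Rep200.dd_ne_one (congrArg Subtype.val h)⟩⟩

theorem card_P_le : Nat.card D.P ≤ 604800 := by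
  haveI := finite_E
  have h1 := D.card_E
  have h2 := Tower.cardEJ.2
  have h3 := one_lt_card_ker
  rw [h1] at h2
  by_contra hlt
  push Not at hlt
  have : 2 * 604801 ≤ Nat.card D.proj.ker * Nat.card D.P := Nat.mul_le_mul h3 hlt
  omega

/-- the generators of helper28's presentation as generators of ours -/
def up1 : Cfsg.Agent.Lib.Helper28.G24J2.Gen1 → GJ
  | .a => .a
  | .b => .b
  | .c => .c
  | .d => .d
  | .e => .e

theorem code_up1 (x : Cfsg.Agent.Lib.Helper28.G24J2.Gen1) :
    Iso315Data.code (up1 x) = Cfsg.Agent.Lib.Helper28.G24J2.code x := by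
  cases x <;> rfl

/-- the presented group is isomorphic to the permutation group on 315 points -/
theorem exists_iso_PJ : Nonempty (D.P ≃* ↥PJ) ∧ Nat.card D.P = 604800 := by
  haveI := finite_P
  obtain ⟨ψ, hψ⟩ : ∃ ψ : D.P →* Equiv.Perm (Fin 315),
      ∀ x, ψ (PresentedGroup.of x) = perm 315 (Iso315Data.code x) := by
    obtain ⟨ψ, hψ, -⟩ := exists_hom 315 LvJ.R Iso315Data.code Iso315Data.codeInv Iso315Data.h1 Iso315Data.h2
      Iso315Data.hrel
    exact ⟨ψ, hψ⟩
  have hprod : ∀ L : List Cfsg.Agent.Lib.Helper28.G24J2.Gen1,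
      prodL 315 (L.map Cfsg.Agent.Lib.Helper28.G24J2.code) ∈ ψ.range := by
    intro L
    unfold prodL
    apply Subgroup.list_prod_mem
    intro g hg
    rw [List.mem_map] at hg
    obtain ⟨c, hc, rfl⟩ := hg
    rw [List.mem_map] at hc
    obtain ⟨x, _, rfl⟩ := hc
    refine ⟨PresentedGroup.of (up1 x), ?_⟩
    rw [hψ, code_up1]
  have hPJ : PJ ≤ ψ.range := by
    rw [PJ_eq, grp_le_iff]
    intro c hc
    have hc' : c ∈ topGens := hc
    have hv := valid_top hc'
    simp only [List.mem_cons, List.not_mem_nil, or_false] at hc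
    rcases hc with rfl | rfl | rfl | rfl
    · rw [Cfsg.Agent.Lib.Helper28.G24J2.perm_eq_prodL hv _ Cfsg.Agent.Lib.Helper28.G24J2.words_ok.1]
      exact hprod _
    · rw [Cfsg.Agent.Lib.Helper28.G24J2.perm_eq_prodL hv _ Cfsg.Agent.Lib.Helper28.G24J2.words_ok.2.1]
      exact hprod _
    · rw [Cfsg.Agent.Lib.Helper28.G24J2.perm_eq_prodL hv _ Cfsg.Agent.Lib.Helper28.G24J2.words_ok.2.2.1]
      exact hprod _
    · rw [Cfsg.Agent.Lib.Helper28.G24J2.perm_eq_prodL hv _ Cfsg.Agent.Lib.Helper28.G24J2.words_ok.2.2.2]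
      exact hprod _
  have hlow : 604800 ≤ Nat.card ψ.range := by
    rw [← card_PJ]
    exact Subgroup.card_le_of_le hPJ
  obtain ⟨hinj, hcard⟩ := Cfsg.Agent.Lib.Helper28.TC2Simple.injective_of_card_le ψ card_P_le hlow
  refine ⟨?_, hcard⟩
  have hrange : ψ.range = PJ := by
    symm
    apply Subgroup.eq_of_le_of_card_ge hPJ
    rw [card_PJ, ← hcard]
    exact Nat.card_le_card_of_surjective ψ.rangeRestrict ψ.rangeRestrict_surjective
  exact ⟨(MonoidHom.ofInjective hinj).trans (MulEquiv.subgroupCongr hrange)⟩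

theorem card_ker : Nat.card D.proj.ker = 2 := by
  haveI := finite_E
  have h1 := D.card_E
  have h2 := Tower.cardEJ.2
  have h3 := one_lt_card_ker
  rw [h1, exists_iso_PJ.2] at h2
  have : Nat.card D.proj.ker * 604800 ≤ 2 * 604800 := h2
  have h4 : Nat.card D.proj.ker ≤ 2 := Nat.le_of_mul_le_mul_right this (by norm_num)
  omega

/-- the Schur multiplier of `J₂` is cyclic of order 2 -/
theorem schur_J2 : Cfsg.HasCyclicSchurMultiplier Cfsg.Spor.J2 2 := by
  haveI := finite_E
  obtain ⟨φ⟩ := exists_iso_PJ.1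
  haveI : Fact (Nat.Prime 2) := ⟨Nat.prime_two⟩
  have hc : IsCyclic D.proj.ker := isCyclic_of_prime_card card_ker
  have e : Nat.card D.proj.ker = Nat.card (Multiplicative (ZMod 2)) := by
    rw [card_ker, Nat.card_eq_fintype_card]; rfl
  exact D.hasSchurMultiplier (φ.trans j2Equiv.symm) (mulEquivOfCyclicCardEq e)

end Cfsg.Agent.Lib.Helper4.J2M.Main
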