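import Mathlib
import Cfsg.Agent.Lib.Helper10.SWBasic

set_option autoImplicit false

/-!
# Homomorphisms from presented groups to permutation groups given by packed permutations
-/

namespace Cfsg.Agent.Lib.Helper4.J2M.PackHom

open Cfsg.Agent.Lib.Helper10.SW

variable {β : Type}

/-- the packed permutation of a letter -/
def lcode (code codeInv : β → ℕ) (t : β × Bool) : ℕ := cond t.2 (code t.1) (codeInv t.1)

theorem valid_lcode {n : ℕ} {code codeInv : β → ℕ}
    (h1 : ∀ x, InvOf n (code x) (codeInv x)) (h2 : ∀ x, InvOf n (codeInv x) (code x)) (t : β × Bool) :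
    Valid n (lcode code codeInv t) := by
  obtain ⟨x, b⟩ := t
  cases b
  · exact valid_of_invOf (h2 x)
  · exact valid_of_invOf (h1 x)

theorem lift_mk_eq_prodL (n : ℕ) (code codeInv : β → ℕ)
    (h1 : ∀ x, InvOf n (code x) (codeInv x)) (h2 : ∀ x, InvOf n (codeInv x) (code x))
    (L : List (β × Bool)) :
    FreeGroup.lift (fun x => perm n (code x)) (FreeGroup.mk L) = prodL n (L.map (lcode code codeInv)) := by
  induction L with
  | nil => rfl
  | cons t L ih =>
    have e : FreeGroup.mk (t :: L) = FreeGroup.mk [t] * FreeGroup.mk L := by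
      rw [FreeGroup.mul_mk]; rfl
    rw [e, map_mul, ih, List.map_cons, prodL_cons]
    congr 1
    obtain ⟨x, b⟩ := t
    cases b with
    | true => exact FreeGroup.lift_apply_of
    | false =>
      have e1 : FreeGroup.mk [(x, false)] = (FreeGroup.of x)⁻¹ := by
        show _ = (FreeGroup.mk [(x, true)])⁻¹
        rw [FreeGroup.inv_mk]; rfl
      rw [e1, map_inv, FreeGroup.lift_apply_of]
      exact (perm_inv_of_invOf (h1 x) (valid_of_invOf (h2 x))).symm

/-- packed permutations satisfying the relators give a homomorphism, computed by `evalL` -/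
theorem exists_hom (n : ℕ) (relWords : List (List (β × Bool))) (code codeInv : β → ℕ)
    (h1 : ∀ x, InvOf n (code x) (codeInv x)) (h2 : ∀ x, InvOf n (codeInv x) (code x))
    (hrel : ∀ L ∈ relWords, ∀ p < n, evalL n (L.map (lcode code codeInv)) p = p) :
    ∃ ψ : PresentedGroup {r | ∃ L ∈ relWords, r = FreeGroup.mk L} →* Equiv.Perm (Fin n),
      (∀ x, ψ (PresentedGroup.of x) = perm n (code x)) ∧
      ∀ (L : List (β × Bool)) (i : Fin n),
        (ψ (PresentedGroup.mk _ (FreeGroup.mk L)) i).val = evalL n (L.map (lcode code codeInv)) i.val := by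
  have hval : ∀ L : List (β × Bool), ∀ c ∈ L.map (lcode code codeInv), Valid n c := by
    intro L c hc
    rw [List.mem_map] at hc
    obtain ⟨t, _, rfl⟩ := hc
    exact valid_lcode h1 h2 t
  have hr : ∀ r ∈ {r | ∃ L ∈ relWords, r = FreeGroup.mk L},
      FreeGroup.lift (fun x => perm n (code x)) r = 1 := by
    rintro r ⟨L, hL, rfl⟩
    rw [lift_mk_eq_prodL n code codeInv h1 h2]
    ext i
    rw [prodL_apply_val _ (hval L), hrel L hL i.val i.isLt]
    rfl
  refine ⟨PresentedGroup.toGroup hr, fun x => PresentedGroup.toGroup.of hr, ?_⟩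
  intro L i
  have : PresentedGroup.toGroup hr (PresentedGroup.mk _ (FreeGroup.mk L)) =
      FreeGroup.lift (fun x => perm n (code x)) (FreeGroup.mk L) := rfl
  rw [this, lift_mk_eq_prodL n code codeInv h1 h2, prodL_apply_val _ (hval L)]

end Cfsg.Agent.Lib.Helper4.J2M.PackHom
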