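import Cfsg.Agent.Lib.Helper3.Cover.Finite
import Cfsg.Agent.Lib.Helper28.TC2Tower
import Cfsg.Agent.Lib.Helper4.J2M.EAMain
import Cfsg.Agent.Lib.Helper4.J2M.EHMain
import Cfsg.Agent.Lib.Helper4.J2M.EJMain

set_option autoImplicit false
set_option maxRecDepth 100000

/-!
# The covering presentation of `J₂` has order at most `2 * 604800`

Three coset enumerations (upper bounds only): the covering presentation of `A₅ = ⟨d, v⟩` has order at most 120,
it has index at most 32 in the covering presentation of `2^{1+4}:A₅ = ⟨c, d, e, t, v⟩`, which has index at most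
315 in the covering presentation of `J₂`.
-/

namespace Cfsg.Agent.Lib.Helper4.J2M.Tower

open Cfsg.Agent.Lib.Helper3.Cover Cfsg.Agent.Lib.Helper28.TC2Tower Cfsg.Agent.Lib.Helper4.J2M

/-- the order of a group from bounds for the number of cosets of a subgroup and for the subgroup -/
theorem card_le_of_quot {G : Type*} [Group G] (H : Subgroup G) {n m : ℕ}
    (hfq : Finite (G ⧸ H)) (hfH : Finite H)
    (hq : Nat.card (G ⧸ H) ≤ n) (hH : Nat.card H ≤ m) : Finite G ∧ Nat.card G ≤ n * m := by
  haveI := hfq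
  haveI := hfH
  have hidx : H.index = Nat.card (G ⧸ H) := Subgroup.index_eq_card H
  have hne : H.index ≠ 0 := by
    rw [hidx]; exact Nat.card_pos.ne'
  have hcard : Nat.card G = H.index * Nat.card H := (H.index_mul_card).symm
  refine ⟨?_, ?_⟩
  · apply Nat.finite_of_card_ne_zero
    rw [hcard]
    exact Nat.mul_ne_zero hne Nat.card_pos.ne'
  · rw [hcard, hidx]
    exact Nat.mul_le_mul hq hH

/-- level A: the covering presentation of `A₅` has order at most 120 -/
theorem cardEA : Finite LvA.cover.E ∧ Nat.card LvA.cover.E ≤ 120 := by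
  obtain ⟨hfq, hq⟩ := EAMain.mainU
  have e : (Subgroup.closure EALink.S).map (PresentedGroup.mk EALink.rels) = ⊥ := by
    show (Subgroup.closure {1}).map _ = ⊥
    rw [Subgroup.closure_singleton_one, Subgroup.map_bot]
  rw [e] at hfq hq
  have h := card_le_of_quot (⊥ : Subgroup (PresentedGroup EALink.rels)) hfq inferInstance hq
    (le_of_eq Subgroup.card_bot)
  rw [mul_one] at h
  exact h

theorem hS_H : ∀ s ∈ EHLink.S, ∃ b, s = FreeGroup.of (upAH b) := by
  intro s hs
  simp only [EHLink.S, Set.mem_insert_iff, Set.mem_singleton_iff] at hs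
  rcases hs with rfl | rfl
  exacts [⟨.d, rfl⟩, ⟨.v, rfl⟩]

/-- level H: the covering presentation of `2^{1+4}:A₅` has order at most 3840 -/
theorem cardEH : Finite LvH.cover.E ∧ Nat.card LvH.cover.E ≤ 3840 := by
  haveI : Finite (PresentedGroup LvA.cover.relsE) := cardEA.1
  have hrel := hrel_of_words EHLink.rels LvA.cover.relsE upAH EHLink.relWords LvA.relWords
    EHLink.link.hrels (fun _ => Iff.rfl) upE_AH
  obtain ⟨hfin, hle⟩ := card_le_of_subpres EHLink.rels LvA.cover.relsE upAH hrel EHLink.S hS_H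
  obtain ⟨hfq, hq⟩ := EHMain.mainU
  exact card_le_of_quot _ hfq hfin hq (le_trans hle cardEA.2)

theorem hS_J : ∀ s ∈ EJLink.S, ∃ b, s = FreeGroup.of (upHJ b) := by
  intro s hs
  simp only [EJLink.S, Set.mem_insert_iff, Set.mem_singleton_iff] at hs
  rcases hs with rfl | rfl | rfl | rfl | rfl
  exacts [⟨.c, rfl⟩, ⟨.d, rfl⟩, ⟨.e, rfl⟩, ⟨.t, rfl⟩, ⟨.v, rfl⟩]

/-- level J: the covering presentation of `J₂` has order at most `2 * 604800` -/
theorem cardEJ : Finite LvJ.cover.E ∧ Nat.card LvJ.cover.E ≤ 1209600 := by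
  haveI : Finite (PresentedGroup LvH.cover.relsE) := cardEH.1
  have hrel := hrel_of_words EJLink.rels LvH.cover.relsE upHJ EJLink.relWords LvH.relWords
    EJLink.link.hrels (fun _ => Iff.rfl) upE_HJ
  obtain ⟨hfin, hle⟩ := card_le_of_subpres EJLink.rels LvH.cover.relsE upHJ hrel EJLink.S hS_J
  obtain ⟨hfq, hq⟩ := EJMain.mainU
  exact card_le_of_quot _ hfq hfin hq (le_trans hle cardEH.2)

end Cfsg.Agent.Lib.Helper4.J2M.Tower
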